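import Cfsg.Agent.Lib.Lie.SplitRankOne.Main
import Cfsg.Agent.Lib.Solv.CIT.SzModel
import Cfsg.Agent.S0225

/-!
Consequences for simple groups.
-/

set_option autoImplicit false
set_option linter.unusedSectionVars false
set_option linter.unusedSimpArgs false
set_option linter.style.haveILetI false

namespace Cfsg.Agent.Lie.R1C

open Cfsg MulAction
open Cfsg.Agent.Lie.R1 (D tt t_inv tDt)

universe u v

/-- A simple group of even order with a proper non-trivial subgroup has two commuting involutions. -/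
theorem exists_two_invol {G : Type u} [Group G] [Finite G] [IsSimpleGroup G] (H : Subgroup G) (hH : H ≠ ⊤)
    (hH1 : H ≠ ⊥) (heven : Even (Nat.card G)) :
    ∃ x y : G, x ≠ 1 ∧ y ≠ 1 ∧ x ≠ y ∧ x * x = 1 ∧ y * y = 1 ∧ x * y = y * x := by
  classical
  have hna : Subgroup.center G = ⊥ := by
    refine (inferInstance : (Subgroup.center G).Normal).eq_bot_or_eq_top.resolve_right fun htop => ?_
    haveI : H.Normal := ⟨fun h hh g => by
      have : g * h = h * g := Subgroup.mem_center_iff.1 (htop ▸ Subgroup.mem_top h : h ∈ Subgroup.center G) g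
      rwa [this, mul_inv_cancel_right]⟩
    rcases (inferInstance : H.Normal).eq_bot_or_eq_top with e | e
    exacts [hH1 e, hH e]
  by_contra hno
  obtain ⟨z, hz, N, hN, hNodd, hzN⟩ := Cfsg.Agent.S0225.result heven fun E hE => by
    haveI := hE
    haveI := Fintype.ofFinite E
    have hcard : Fintype.card E = 4 := by rw [← Nat.card_eq_fintype_card, hE.card_four]
    obtain ⟨x, hx⟩ := Fintype.exists_ne_of_one_lt_card (by omega) (1 : E)
    obtain ⟨y, -, hy'⟩ := Finset.exists_mem_notMem_of_card_lt_card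
      (s := ({1, x} : Finset E)) (t := Finset.univ) (by
        rw [Finset.card_univ, hcard, Finset.card_pair (Ne.symm hx)]; omega)
    simp only [Finset.mem_insert, Finset.mem_singleton, not_or] at hy'
    exact hno ⟨x, y, by simpa using hx, by simpa using hy'.1, fun e => hy'.2 (Subtype.ext e.symm),
      congrArg Subtype.val (IsKleinFour.mul_self x), congrArg Subtype.val (IsKleinFour.mul_self y),
      congrArg Subtype.val (mul_comm_of_exponent_two IsKleinFour.exponent_two x y)⟩
  rcases hN.eq_bot_or_eq_top with rfl | rfl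
  · have hzc : z ∈ Subgroup.center G := Subgroup.mem_center_iff.2 fun g => by
      have h := Subgroup.mem_bot.1 (hzN g)
      rw [mul_inv_eq_one, mul_inv_eq_iff_eq_mul] at h
      exact h.symm
    rw [hna, Subgroup.mem_bot] at hzc
    rw [hzc, orderOf_one] at hz
    omega
  · rw [Subgroup.card_top] at hNodd
    exact Nat.not_even_iff_odd.2 hNodd heven

/-- In a simple group, a proper subgroup misses some involution. -/
theorem exists_invol_not_mem {G : Type u} [Group G] [Finite G] [IsSimpleGroup G] (H : Subgroup G) (hH : H ≠ ⊤)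
    (heven : Even (Nat.card G)) : ∃ t : G, t * t = 1 ∧ t ≠ 1 ∧ t ∉ H := by
  by_contra hno
  push Not at hno
  have hle : invClosure G ≤ H := (Subgroup.closure_le H).2 fun x hx => hno x hx.2 hx.1
  rcases (invClosure_normal G).eq_bot_or_eq_top with e | e
  · haveI := Fact.mk Nat.prime_two
    obtain ⟨x, hx⟩ := exists_prime_orderOf_dvd_card' 2 (even_iff_two_dvd.1 heven)
    have hx1 : x ≠ 1 := fun e' => by rw [e', orderOf_one] at hx; omega
    have hxx : x * x = 1 := by rw [← pow_two, ← hx, pow_orderOf_eq_one]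
    have hmem : x ∈ invClosure G := Subgroup.subset_closure ⟨hx1, hxx⟩
    rw [e, Subgroup.mem_bot] at hmem
    exact hx1 hmem
  · exact hH (top_le_iff.1 (e ▸ hle))

/-- A group isomorphic to a Suzuki group has its order. -/
theorem card_of_isoSuzuki {G : Type u} [Group G] (h : Cfsg.Lie.IsoSuzuki G) :
    ∃ m : ℕ, 1 ≤ m ∧
      Nat.card G = (2 ^ (2 * m + 1)) ^ 2 * ((2 ^ (2 * m + 1)) ^ 2 + 1) * (2 ^ (2 * m + 1) - 1) := by
  obtain ⟨F, iF, iFF, m, hm, hF, ⟨e⟩⟩ := h
  exact ⟨m, hm, (Nat.card_congr e.toEquiv).trans (Cfsg.Agent.Solv.CITGroups.SzModel.card_model hF hm)⟩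

/-- **Simple groups with a rank-one set-up of two-rank at least two.** -/
theorem simple_main {G : Type u} {Ω : Type v} [Group G] [MulAction G Ω] [Finite G] [IsSimpleGroup G] {a : Ω} {t : G}
    {Q : Subgroup G} (hc : Ctx G Ω a t Q) :
    (∃ (F : Type) (_ : Field F) (_ : Fintype F), (∃ n : ℕ, 2 ≤ n ∧ Fintype.card F = 2 ^ n) ∧
          Nonempty (G ≃* Matrix.ProjectiveSpecialLinearGroup (Fin 2) F)) ∨
        Cfsg.IsSuzuki G ∨
        (∃ (F : Type) (_ : Field F) (_ : Fintype F) (n : ℕ), 2 ≤ n ∧ Fintype.card F = (2 ^ n) ^ 2 ∧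
          Nonempty (G ≃* Cfsg.PSU 3 F (2 ^ n))) := by
  refine (hc.classify (allTwo (Nat.card G + 1) _ _ _ _ _ (Nat.lt_succ_self _) hc)).imp id
    (Or.imp (fun h => ⟨inferInstance, card_of_isoSuzuki h⟩) id)

/-- A rank-one set-up from a regular normal subgroup of a point stabiliser of even order. -/
theorem setup_of_regular {G : Type u} {Ω : Type v} [Group G] [MulAction G Ω] [Finite G]
    [IsPretransitive G Ω] {a : Ω} {t : G} (ht : t * t = 1) (ht1 : t ≠ 1) (hta : t • a ≠ a) {Q : Subgroup G}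
    (hle : Q ≤ stabilizer G a) (hn : ∀ h ∈ stabilizer G a, ∀ x ∈ Q, h * x * h⁻¹ ∈ Q)
    (htr : ∀ b : Ω, b ≠ a → ∃ q ∈ Q, q • (t • a) = b) (hreg : ∀ q ∈ Q, q • (t • a) = t • a → q = 1)
    (hodd : Odd (Nat.card (D G a t))) (heven : Even (Nat.card (stabilizer G a))) :
    IsRankOneSetup G Ω a t Q := by
  have hdec : ∀ g : G, g • a = a → ∃ q ∈ Q, ∃ d ∈ D G a t, g = q * d := by
    intro g hg
    obtain ⟨q, hq, e⟩ := htr (g • (t • a)) fun e => hta (MulAction.injective g (e.trans hg.symm))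
    refine ⟨q, hq, q⁻¹ * g, Subgroup.mem_inf.2 ⟨mul_mem (inv_mem (hle hq)) hg, ?_⟩, by group⟩
    show (q⁻¹ * g) • (t • a) = t • a
    rw [mul_smul, ← e, inv_smul_smul]
  have hev : Even (Nat.card Q) := by
    by_contra he
    rw [Nat.not_even_iff_odd] at he
    have hcard : Nat.card (stabilizer G a) = Nat.card Q * Nat.card (D G a t) := by
      rw [← Nat.card_prod]
      refine (Nat.card_eq_of_bijective (fun p : Q × D G a t =>
        (⟨p.1.1 * p.2.1, mul_mem (hle p.1.2) (Subgroup.mem_inf.1 p.2.2).1⟩ : stabilizer G a)) ⟨?_, ?_⟩).symm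
      · rintro ⟨q, d⟩ ⟨q', d'⟩ h
        have h0 : (q : G) * d = q' * d' := congrArg Subtype.val h
        have h2 : ∀ x : D G a t, (x : G) • (t • a) = t • a := fun x => (Subgroup.mem_inf.1 x.2).2
        have h1 := hreg _ (mul_mem (inv_mem q'.2) q.2) (by
          rw [mul_smul, inv_smul_eq_iff]
          calc (q : G) • (t • a) = ((q : G) * d) • (t • a) := by rw [mul_smul, h2]
            _ = _ := by rw [h0, mul_smul, h2])
        obtain rfl : q' = q := Subtype.ext (inv_mul_eq_one.1 h1)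
        exact Prod.ext rfl (Subtype.ext (mul_left_cancel h0))
      · rintro ⟨g, hg⟩
        obtain ⟨q, hq, d, hd, rfl⟩ := hdec g hg
        exact ⟨(⟨q, hq⟩, ⟨d, hd⟩), rfl⟩
    rw [hcard] at heven
    exact Nat.not_even_iff_odd.2 (he.mul hodd) heven
  refine ⟨is_two_pretransitive_iff.2 fun {b₁ b₂ c₁ c₂} hb hc => ?_, ht, ht1, hta, hle, hn, ?_, ?_, hev, hodd⟩
  · have key : ∀ {b b' : Ω}, b ≠ b' → ∃ g : G, g • a = b ∧ g • (t • a) = b' := by
      intro b b' hbb
      obtain ⟨u, hu⟩ := MulAction.exists_smul_eq G a b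
      obtain ⟨q, hq, e⟩ := htr (u⁻¹ • b') fun e => hbb (by rw [inv_smul_eq_iff] at e; rw [e, hu])
      exact ⟨u * q, by rw [mul_smul, show q • a = a from hle hq, hu], by rw [mul_smul, e, smul_inv_smul]⟩
    obtain ⟨g₁, e1, e2⟩ := key hb
    obtain ⟨g₂, e3, e4⟩ := key hc
    exact ⟨g₂ * g₁⁻¹, by rw [mul_smul, ← e1, inv_smul_smul, e3], by rw [mul_smul, ← e2, inv_smul_smul, e4]⟩
  · rw [Subgroup.eq_bot_iff_forall]
    rintro q ⟨hq, hq2⟩
    exact hreg q hq hq2
  · refine le_antisymm (sup_le hle inf_le_left) fun g hg => ?_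
    obtain ⟨q, hq, d, hd, rfl⟩ := hdec g hg
    exact mul_mem (Subgroup.mem_sup_left hq) (Subgroup.mem_sup_right hd)

end Cfsg.Agent.Lie.R1C
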