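import Cfsg.Agent.Lib.Lie.SplitRankOne.Simple
import Cfsg.Agent.S1120

/-!
Reduction of the general rank-one set-up to the simple case.
-/

set_option autoImplicit false
set_option linter.unusedSectionVars false
set_option linter.unusedSimpArgs false
set_option linter.style.haveILetI false

namespace Cfsg.Agent.Lie.R1C

open Cfsg MulAction
open Cfsg.Agent.Lie.R1 (D tt t_inv tDt)

universe u v

/-- The subgroup generated by the involutions. -/
def invClosure (G : Type*) [Group G] : Subgroup G := Subgroup.closure {x : G | x ≠ 1 ∧ x * x = 1}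

instance invClosure_normal (G : Type*) [Group G] : (invClosure G).Normal := by
  refine ⟨fun x hx g => ?_⟩
  have h : (invClosure G).map (MulAut.conj g).toMonoidHom ≤ invClosure G := by
    rw [invClosure, MonoidHom.map_closure, Subgroup.closure_le]
    rintro _ ⟨y, ⟨hy1, hy2⟩, rfl⟩
    refine Subgroup.subset_closure ⟨fun e => hy1 ((map_eq_one_iff _ (MulAut.conj g).injective).1 e), ?_⟩
    rw [← map_mul, hy2, map_one]
  exact h ⟨x, hx, rfl⟩

variable {G : Type u} {Ω : Type v} [Group G] [MulAction G Ω] [Finite G] {a : Ω} {t : G} {Q : Subgroup G}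

namespace Ctx

variable (hc : Ctx G Ω a t Q)

include hc

theorem t_mem_inv : t ∈ invClosure G := Subgroup.subset_closure ⟨hc.hS.ne_one, hc.hS.mul_self⟩

theorem Q_le_inv : Q ≤ invClosure G := by
  haveI : Nontrivial (kg G a t) := by
    rw [← Finite.one_lt_card_iff_nontrivial]
    obtain ⟨f, hf2, hf⟩ := hc.exists_f
    have := hc.card_kg
    have : 2 ^ 2 ≤ 2 ^ f := Nat.pow_le_pow_right (by norm_num) hf2
    omega
  obtain ⟨⟨k, hk⟩, hk1⟩ := exists_ne (1 : kg G a t)
  have hk1' : k ≠ 1 := fun e => hk1 (Subtype.ext e)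
  have hkD : k ∈ D G a t := hc.kg_le hk
  have hkL : k ∈ invClosure G := by
    rw [show k = t * (t * k) by rw [tt hc.hS]]
    refine mul_mem hc.t_mem_inv (Subgroup.subset_closure ⟨fun e => ?_, ?_⟩)
    · refine hc.hS.not_mem ?_
      rw [show t = k⁻¹ from eq_inv_of_mul_eq_one_left e]
      exact inv_mem (Subgroup.mem_inf.1 hkD).1
    · rw [show t * k * (t * k) = (t * k * t) * k by group, hc.kg_inv hk, inv_mul_cancel]
  let φ : Q → Q := fun x => ⟨(x : G)⁻¹ * (k * x * k⁻¹),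
    mul_mem (inv_mem x.2) (R1.conj_Q hc.hS (hc.kg_fix hk) x.2)⟩
  have hφ : Function.Injective φ := fun x y e => by
    have e' : (x : G)⁻¹ * (k * x * k⁻¹) = (y : G)⁻¹ * (k * y * k⁻¹) := congrArg Subtype.val e
    have h1 : k * ((x : G) * (y : G)⁻¹) = (x : G) * (y : G)⁻¹ * k := by
      refine mul_inv_eq_iff_eq_mul.1 ?_
      calc k * ((x : G) * (y : G)⁻¹) * k⁻¹ = (x : G) * ((x : G)⁻¹ * (k * x * k⁻¹)) * (k * y * k⁻¹)⁻¹ := by group
        _ = _ := by rw [e']; group
    exact Subtype.ext (mul_inv_eq_one.1 (hc.kg_fpf hk hk1' (mul_mem x.2 (inv_mem y.2)) h1))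
  intro q hq
  obtain ⟨x, hx⟩ := Finite.injective_iff_surjective.1 hφ ⟨q, hq⟩
  have e : (x : G)⁻¹ * (k * x * k⁻¹) = q := congrArg Subtype.val hx
  rw [← e, ← mul_assoc, ← mul_assoc]
  refine mul_mem ?_ (inv_mem hkL)
  have := (invClosure_normal G).conj_mem k hkL (x : G)⁻¹
  rwa [inv_inv] at this

/-- The set-up of the subgroup generated by the involutions. -/
theorem inv_ctx : Ctx (invClosure G) Ω a ⟨t, hc.t_mem_inv⟩ (Q.subgroupOf (invClosure G)) := by
  have hmem : ∀ g : invClosure G, g ∈ stabilizer (invClosure G) a ↔ (g : G) • a = a := fun g => Iff.rfl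
  refine ⟨⟨?_, Subtype.ext hc.hS.mul_self, fun e => hc.hS.ne_one (congrArg Subtype.val e),
    fun h => hc.hS.not_mem h, fun g hg => hc.hS.le hg, fun g hg x hx => hc.hS.conj_mem g hg x hx, ?_, ?_, ?_, ?_⟩, ?_⟩
  · refine is_two_pretransitive_iff.2 fun {b₁ b₂ c₁ c₂} hb hc' => ?_
    -- every pair is reachable from the pair of base points
    have key : ∀ {b b' : Ω}, b ≠ b' → ∃ g : G, g ∈ invClosure G ∧ g • a = b ∧ g • (t • a) = b' := by
      intro b b' hbb
      obtain ⟨u, hu, hua⟩ : ∃ u : G, u ∈ invClosure G ∧ u • a = b := by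
        by_cases hba : b = a
        · exact ⟨1, one_mem _, by rw [one_smul, hba]⟩
        · obtain ⟨q, hq, hqb⟩ := R1.exists_q hc.hS hba
          exact ⟨q * t, mul_mem (hc.Q_le_inv hq) hc.t_mem_inv, by rw [mul_smul, hqb]⟩
      obtain ⟨q, hq, hqb⟩ := R1.exists_q hc.hS (b := u⁻¹ • b') fun e => hbb (by
        rw [inv_smul_eq_iff] at e
        rw [e, hua])
      exact ⟨u * q, mul_mem hu (hc.Q_le_inv hq), by rw [mul_smul, R1.fix_a hc.hS hq, hua],
        by rw [mul_smul, hqb, smul_inv_smul]⟩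
    obtain ⟨g₁, h1, e1, e2⟩ := key hb
    obtain ⟨g₂, h2, e3, e4⟩ := key hc'
    refine ⟨⟨g₂ * g₁⁻¹, mul_mem h2 (inv_mem h1)⟩, ?_, ?_⟩
    · show (g₂ * g₁⁻¹) • b₁ = c₁
      rw [mul_smul, ← e1, inv_smul_smul, e3]
    · show (g₂ * g₁⁻¹) • b₂ = c₂
      rw [mul_smul, ← e2, inv_smul_smul, e4]
  · rw [Subgroup.eq_bot_iff_forall]
    rintro g ⟨hg1, hg2⟩
    exact Subtype.ext (R1.Q_D_bot hc.hS hg1 hg2)
  · refine le_antisymm (sup_le (fun g hg => hc.hS.le hg) inf_le_left) fun g hg => ?_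
    obtain ⟨q, hq, d, hd, e⟩ := R1.mem_sup hc.hS hg
    have hdL : d ∈ invClosure G := by
      rw [show d = q⁻¹ * (g : G) by rw [e, inv_mul_cancel_left]]
      exact mul_mem (inv_mem (hc.Q_le_inv hq)) g.2
    rw [show g = (⟨q, hc.Q_le_inv hq⟩ : invClosure G) * ⟨d, hdL⟩ from Subtype.ext e]
    exact mul_mem (Subgroup.mem_sup_left hq) (Subgroup.mem_sup_right
      ⟨(Subgroup.mem_inf.1 hd).1, (Subgroup.mem_inf.1 hd).2⟩)
  · rw [Nat.card_congr (Subgroup.subgroupOfEquivOfLe hc.Q_le_inv).toEquiv]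
    exact hc.hS.even_card
  · refine hc.hS.odd_card.of_dvd_nat (Subgroup.card_dvd_of_injective
      (MonoidHom.mk' (fun g : ↥(stabilizer (invClosure G) a ⊓
          stabilizer (invClosure G) ((⟨t, hc.t_mem_inv⟩ : invClosure G) • a)) =>
        (⟨((g : invClosure G) : G), g.2.1, g.2.2⟩ : ↥(stabilizer G a ⊓ stabilizer G (t • a)))) fun _ _ => rfl)
      fun g g' h => Subtype.ext (Subtype.ext (congrArg Subtype.val h :)))
  · obtain ⟨x, y, hx, hy, hxy, hx2, hy2, hcomm⟩ := hc.h2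
    exact ⟨⟨x, Subgroup.subset_closure ⟨hx, hx2⟩⟩, ⟨y, Subgroup.subset_closure ⟨hy, hy2⟩⟩,
      fun e => hx (congrArg Subtype.val e), fun e => hy (congrArg Subtype.val e),
      fun e => hxy (congrArg Subtype.val e), Subtype.ext hx2, Subtype.ext hy2, Subtype.ext hcomm⟩

omit hc in
theorem invClosure_self : invClosure (invClosure G) = ⊤ := by
  refine Subgroup.map_injective (invClosure G).subtype_injective ?_
  rw [show invClosure (invClosure G) = Subgroup.closure {x : invClosure G | x ≠ 1 ∧ x * x = 1} from rfl,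
    MonoidHom.map_closure, ← MonoidHom.range_eq_map, Subgroup.range_subtype]
  refine congrArg Subgroup.closure ?_
  ext x
  constructor
  · rintro ⟨y, ⟨hy1, hy2⟩, rfl⟩
    exact ⟨fun e => hy1 (Subtype.ext e), congrArg Subtype.val hy2⟩
  · rintro ⟨hx1, hx2⟩
    exact ⟨⟨x, Subgroup.subset_closure ⟨hx1, hx2⟩⟩, ⟨fun e => hx1 (congrArg Subtype.val e), Subtype.ext hx2⟩, rfl⟩

/-- A faithful set-up generated by involutions has a simple group. -/
theorem simple_of_gen [FaithfulSMul G Ω] (hgen : invClosure G = ⊤) : IsSimpleGroup G := by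
  have hne : (1 : G) ≠ t := hc.hS.ne_one.symm
  haveI : Nontrivial G := ⟨⟨1, t, hne⟩⟩
  refine ⟨fun N hN => ?_⟩
  by_contra hh
  rw [not_or] at hh
  obtain ⟨hNbot, hNtop⟩ := hh
  rcases Nat.even_or_odd (Nat.card N) with hev | hodd
  · haveI := Fact.mk Nat.prime_two
    obtain ⟨⟨x, hx⟩, hx2⟩ := exists_prime_orderOf_dvd_card' (G := N) 2 (even_iff_two_dvd.1 hev)
    rw [Subgroup.orderOf_mk] at hx2
    have hx1 : x ≠ 1 := fun e => by rw [e, orderOf_one] at hx2; omega
    have hxx : x * x = 1 := by rw [← pow_two, ← hx2, pow_orderOf_eq_one]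
    refine hNtop (top_le_iff.1 ?_)
    rw [← hgen, invClosure, Subgroup.closure_le]
    rintro y ⟨hy1, hy2⟩
    obtain ⟨g, rfl⟩ := isConj_iff.1 (R1.conj_all hc.hS hx1 hxx hy1 hy2)
    exact hN.conj_mem x hx g
  · refine hNbot ((Subgroup.eq_bot_iff_forall N).2 fun n hn => ?_)
    have h1 : n ∈ (stabilizer G a).normalCore := Cfsg.Agent.S1120.result hc.hS hc.h2 ▸
      Cfsg.Agent.Fusion.le_pPrimeCore hodd.coprime_two_right hn
    haveI := hc.hS.two_transitive
    haveI : MulAction.IsPretransitive G Ω := MulAction.isPretransitive_of_is_two_pretransitive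
    refine FaithfulSMul.eq_of_smul_eq_smul (α := Ω) fun b => ?_
    obtain ⟨g, rfl⟩ := MulAction.exists_smul_eq G a b
    have h2 : (g⁻¹ * n * g⁻¹⁻¹) • a = a := h1 g⁻¹
    rw [inv_inv, mul_smul, mul_smul, inv_smul_eq_iff] at h2
    rw [h2, one_smul]

end Ctx

/-- A set-up passes to the quotient by the kernel of the action. -/
theorem quot_ctx (hc : Ctx G Ω a t Q) :
    letI : MulAction (G ⧸ (toPermHom G Ω).ker) Ω := MulAction.compHom Ω (QuotientGroup.kerLift (toPermHom G Ω))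
    Ctx (G ⧸ (toPermHom G Ω).ker) Ω a (QuotientGroup.mk t) (Q.map (QuotientGroup.mk' (toPermHom G Ω).ker)) := by
  letI : MulAction (G ⧸ (toPermHom G Ω).ker) Ω := MulAction.compHom Ω (QuotientGroup.kerLift (toPermHom G Ω))
  have hsm : ∀ (g : G) (b : Ω), ((QuotientGroup.mk g : G ⧸ (toPermHom G Ω).ker)) • b = g • b := fun _ _ => rfl
  have hker : ∀ g : G, g ∈ (toPermHom G Ω).ker → ∀ b : Ω, g • b = b := fun g hg b =>
    DFunLike.congr_fun (MonoidHom.mem_ker.1 hg) b
  have hkerodd : Odd (Nat.card (toPermHom G Ω).ker) := hc.hS.odd_card.of_dvd_nat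
    (Subgroup.card_dvd_of_le fun g hg => ⟨hker g hg a, hker g hg (t • a)⟩)
  have hne : ∀ x : G, x ≠ 1 → x * x = 1 → (QuotientGroup.mk x : G ⧸ (toPermHom G Ω).ker) ≠ 1 := by
    intro x hx1 hx2 e
    have hx : x ∈ (toPermHom G Ω).ker := (QuotientGroup.eq_one_iff x).1 e
    have h2 : orderOf x = 2 := orderOf_eq_prime (by rw [pow_two]; exact hx2) hx1
    exact hkerodd.not_two_dvd_nat (h2 ▸ Subgroup.orderOf_dvd_natCard _ hx)
  refine ⟨⟨?_, ?_, ?_, ?_, ?_, ?_, ?_, ?_, ?_, ?_⟩, ?_⟩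
  · refine is_two_pretransitive_iff.2 fun hb hc' => ?_
    obtain ⟨g, h1, h2⟩ := R1.two_trans hc.hS hb hc'
    exact ⟨QuotientGroup.mk g, (hsm _ _).trans h1, (hsm _ _).trans h2⟩
  · rw [← QuotientGroup.mk_mul, hc.hS.mul_self, QuotientGroup.mk_one]
  · exact hne t hc.hS.ne_one hc.hS.mul_self
  · exact fun h => hc.hS.not_mem ((hsm t a).symm.trans h)
  · rintro _ ⟨q, hq, rfl⟩
    exact (hsm q a).trans (hc.hS.le hq)
  · intro h hh x hx
    obtain ⟨g, rfl⟩ := QuotientGroup.mk_surjective h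
    obtain ⟨q, hq, rfl⟩ := hx
    exact ⟨g * q * g⁻¹, hc.hS.conj_mem g ((hsm g a).symm.trans hh) q hq, by simp⟩
  · rw [Subgroup.eq_bot_iff_forall]
    rintro _ ⟨⟨q, hq, rfl⟩, hq2⟩
    rw [R1.Q_D_bot hc.hS hq ((hsm q (t • a)).symm.trans hq2), map_one]
  · refine le_antisymm (sup_le ?_ inf_le_left) fun h hh => ?_
    · rintro _ ⟨q, hq, rfl⟩
      exact (hsm q a).trans (hc.hS.le hq)
    · obtain ⟨g, rfl⟩ := QuotientGroup.mk_surjective h
      obtain ⟨q, hq, d, hd, e⟩ := R1.mem_sup hc.hS ((hsm g a).symm.trans hh)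
      rw [e, QuotientGroup.mk_mul]
      exact mul_mem (Subgroup.mem_sup_left ⟨q, hq, rfl⟩) (Subgroup.mem_sup_right
        ⟨(hsm d a).trans (Subgroup.mem_inf.1 hd).1, (hsm d (t • a)).trans (Subgroup.mem_inf.1 hd).2⟩)
  · have e : Nat.card Q = Nat.card (Q.map (QuotientGroup.mk' (toPermHom G Ω).ker)) := by
      refine Nat.card_eq_of_bijective ((QuotientGroup.mk' (toPermHom G Ω).ker).subgroupMap Q)
        ⟨fun x y hxy => ?_, (QuotientGroup.mk' (toPermHom G Ω).ker).subgroupMap_surjective Q⟩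
      have h1 : (x : G)⁻¹ * y ∈ (toPermHom G Ω).ker := QuotientGroup.eq.1 (congrArg Subtype.val hxy)
      exact Subtype.ext (inv_mul_eq_one.1 (R1.Q_D_bot hc.hS (mul_mem (inv_mem x.2) y.2) (hker _ h1 _)))
    rw [← e]
    exact hc.hS.even_card
  · refine hc.hS.odd_card.of_dvd_nat ((dvd_of_eq (Nat.card_congr (Equiv.subtypeEquivRight fun x => ?_))).trans
      (Subgroup.card_map_dvd (D G a t) (QuotientGroup.mk' (toPermHom G Ω).ker)))
    constructor
    · intro hx
      obtain ⟨g, rfl⟩ := QuotientGroup.mk_surjective x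
      exact ⟨g, ⟨(hsm g a).symm.trans hx.1, (hsm g (t • a)).symm.trans hx.2⟩, rfl⟩
    · rintro ⟨g, hg, rfl⟩
      exact ⟨(hsm g a).trans hg.1, (hsm g (t • a)).trans hg.2⟩
  · obtain ⟨x, y, hx, hy, hxy, hx2, hy2, hcomm⟩ := hc.h2
    refine ⟨QuotientGroup.mk x, QuotientGroup.mk y, hne x hx hx2, hne y hy hy2, fun e => ?_, ?_, ?_, ?_⟩
    · refine hne (x * y) (fun e' => hxy ?_) ?_ ?_
      · rw [mul_eq_one_iff_eq_inv.1 e', inv_eq_of_mul_eq_one_left hy2]
      · rw [mul_assoc x y, ← mul_assoc y x, ← hcomm, mul_assoc x y y, hy2, mul_one, hx2]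
      · rw [QuotientGroup.mk_mul, e, ← QuotientGroup.mk_mul, hy2, QuotientGroup.mk_one]
    · rw [← QuotientGroup.mk_mul, hx2, QuotientGroup.mk_one]
    · rw [← QuotientGroup.mk_mul, hy2, QuotientGroup.mk_one]
    · rw [← QuotientGroup.mk_mul, ← QuotientGroup.mk_mul, hcomm]

/-- In every set-up of two-rank at least two, `Q` is a two-group. -/
theorem allTwo : ∀ n : ℕ, AllTwo.{u, v} n := by
  intro n
  induction n with
  | zero => intro H Ω _ _ _ a t Q hlt; omega
  | succ n ih =>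
    intro H Ω _ _ _ a t Q hlt hc
    have IH : AllTwo.{u, v} (Nat.card H) := fun K Ω' _ _ _ a' t' Q' hK hc' =>
      ih K Ω' a' t' Q' (by omega) hc'
    by_cases hk : (toPermHom H Ω).ker = ⊥
    · haveI : FaithfulSMul H Ω := ⟨fun {g g'} hgg => by
        have h1 : g⁻¹ * g' ∈ (toPermHom H Ω).ker := Equiv.ext fun b => by
          show (g⁻¹ * g') • b = b
          rw [mul_smul, ← hgg b, inv_smul_smul]
        rw [hk, Subgroup.mem_bot] at h1
        exact inv_mul_eq_one.1 h1⟩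
      by_cases hgen : invClosure H = ⊤
      · haveI := hc.simple_of_gen hgen
        exact hc.two_of_simple IH
      · have hlt' : Nat.card (invClosure H) < Nat.card H :=
          lt_of_le_of_ne (Nat.le_of_dvd Nat.card_pos (Subgroup.card_subgroup_dvd_card _))
            fun e => hgen (Subgroup.eq_top_of_card_eq _ e)
        exact (IH _ _ _ _ _ hlt' hc.inv_ctx).of_equiv (Subgroup.subgroupOfEquivOfLe hc.Q_le_inv)
    · letI : MulAction (H ⧸ (toPermHom H Ω).ker) Ω :=
        MulAction.compHom Ω (QuotientGroup.kerLift (toPermHom H Ω))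
      have hlt' : Nat.card (H ⧸ (toPermHom H Ω).ker) < Nat.card H := by
        rw [Subgroup.card_eq_card_quotient_mul_card_subgroup (toPermHom H Ω).ker]
        refine lt_mul_right Nat.card_pos ?_
        rw [Finite.one_lt_card_iff_nontrivial]
        exact (Subgroup.nontrivial_iff_ne_bot _).2 hk
      have h := IH _ _ _ _ _ hlt' (quot_ctx hc)
      intro x
      obtain ⟨k, hk'⟩ := h ⟨_, Subgroup.mem_map_of_mem _ x.2⟩
      refine ⟨k, Subtype.ext ?_⟩
      have h1 : ((x : H) ^ 2 ^ k) ∈ (toPermHom H Ω).ker :=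
        (QuotientGroup.eq_one_iff _).1 (congrArg Subtype.val hk')
      exact R1.Q_D_bot hc.hS (pow_mem x.2 _) (DFunLike.congr_fun (MonoidHom.mem_ker.1 h1) (t • a))

namespace Ctx

variable (hc : Ctx G Ω a t Q)

include hc

/-- **The classification of faithful rank-one set-ups of two-rank at least two.** -/
theorem main [FaithfulSMul G Ω] :
    ∃ L : Subgroup G, L.Normal ∧ Odd L.index ∧
      ((∃ (F : Type) (_ : Field F) (_ : Fintype F), (∃ n : ℕ, 2 ≤ n ∧ Fintype.card F = 2 ^ n) ∧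
          Nonempty (L ≃* Matrix.ProjectiveSpecialLinearGroup (Fin 2) F)) ∨
        Cfsg.Lie.IsoSuzuki L ∨
        (∃ (F : Type) (_ : Field F) (_ : Fintype F) (n : ℕ), 2 ≤ n ∧ Fintype.card F = (2 ^ n) ^ 2 ∧
          Nonempty (L ≃* Cfsg.PSU 3 F (2 ^ n)))) := by
  refine ⟨invClosure G, inferInstance, ?_, ?_⟩
  · haveI := Fact.mk Nat.prime_two
    obtain ⟨P, hP⟩ := R1.sylow_le hc.hS
    exact Nat.not_even_iff_odd.1 fun he => P.not_dvd_index
      ((even_iff_two_dvd.1 he).trans (Subgroup.index_dvd_of_le (hP.trans hc.Q_le_inv)))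
  · haveI : FaithfulSMul (invClosure G) Ω :=
      ⟨fun {g g'} hgg => Subtype.ext (FaithfulSMul.eq_of_smul_eq_smul (α := Ω) hgg)⟩
    haveI := hc.inv_ctx.simple_of_gen invClosure_self
    exact hc.inv_ctx.classify (allTwo (Nat.card (invClosure G) + 1) _ _ _ _ _ (Nat.lt_succ_self _) hc.inv_ctx)

end Ctx

end Cfsg.Agent.Lie.R1C
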