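import Cfsg.Agent.Lib.Lie.SplitRankOne.CubeClass

/-!
The case `|Q| = q ^ 3` with trivial `W` and nontrivial `V` does not occur.
-/

set_option autoImplicit false
set_option linter.unusedSectionVars false
set_option linter.unusedSimpArgs false
set_option linter.style.haveILetI false

namespace Cfsg.Agent.Lie.R1C

open Cfsg MulAction Matrix
open Cfsg.Agent.Lie.R1 (D tt t_inv tDt)
open scoped MatrixGroups

theorem three_f_bound {f : ℕ} (hf : 4 ≤ f) : 3 * f < 2 ^ f := by
  induction f, hf using Nat.le_induction with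
  | base => norm_num
  | succ f hf ih => rw [pow_succ]; omega

section Eight

variable {L : Type} [Field L] [Fintype L] [CharP L 2]

theorem eight_pow (hL : Fintype.card L = 8) (a : L) : a ^ 8 = a := by rw [← hL]; exact FiniteField.pow_card a

theorem eight_roots (hL : Fintype.card L = 8) {a : L} (h0 : a ≠ 0) (h1 : a ≠ 1) :
    (1 + a + a ^ 3) * (1 + a ^ 2 + a ^ 3) = 0 := by
  have h := eight_pow hL a
  refine mul_left_cancel₀ (sub_ne_zero.2 h1) (mul_left_cancel₀ h0 ?_)
  rw [mul_zero, mul_zero]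
  have h2 : (2 : L) = 0 := CharTwo.two_eq_zero
  linear_combination h + (a ^ 5 - a ^ 4) * h2

/-- The formula for three conjugates. -/
theorem eight_phi (hL : Fintype.card L = 8) {a b c : L} (h0 : a ≠ 0) (h1 : a ≠ 1)
    (h : (b = a ^ 2 ∧ c = a ^ 4) ∨ (b = a ^ 4 ∧ c = a ^ 2)) :
    (1 / (b + a) + 1 / (c + a)) * (1 + a + a ^ 2) = 1 := by
  have h2 : (2 : L) = 0 := CharTwo.two_eq_zero
  have ha2 : a ^ 2 + a ≠ 0 := by
    intro e
    rw [show a ^ 2 + a = a * (a + 1) by ring] at e
    exact h1 (CharTwo.add_eq_zero.1 ((mul_eq_zero.1 e).resolve_left h0))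
  have ha4 : a ^ 4 + a ≠ 0 := by
    intro e
    have e4 := CharTwo.add_eq_zero.1 e
    have h8 := eight_pow hL a
    rw [show a ^ 8 = (a ^ 4) ^ 2 by ring, e4] at h8
    exact ha2 (by rw [h8, CharTwo.add_self_eq_zero])
  have ea2 : a ^ 2 + a = a * (1 + a) := by ring
  have ea4 : a ^ 4 + a = a * (1 + a ^ 3) := by ring
  have hb2 : 1 + a ≠ 0 := fun e => ha2 (by rw [ea2, e, mul_zero])
  have hb4 : 1 + a ^ 3 ≠ 0 := fun e => ha4 (by rw [ea4, e, mul_zero])
  rcases h with ⟨rfl, rfl⟩ | ⟨rfl, rfl⟩ <;> rw [ea2, ea4]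
  · field_simp
    linear_combination (a + a ^ 2 + 1 + a ^ 3) * h2
  · field_simp
    linear_combination (a + a ^ 2 + 1 + a ^ 3) * h2

end Eight

variable {G Ω : Type*} [Group G] [MulAction G Ω] [Finite G] [FaithfulSMul G Ω] {a : Ω} {t : G} {Q : Subgroup G}
  {L : Type} [Field L] [Fintype L] [CharP L 2] {zp kp : L → G} {x0 : Ω}

namespace CSet

variable (hC : CSet G a t Q L zp kp x0)

include hC

theorem Psi_eq_one {v : G} (hv : v ∈ vg G a t) (h : v = 1) (r : L × L) : hC.Psi hv r = r := by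
  subst h
  rw [hC.Psi_wg (one_mem (wg G a t)), hC.rho_one, vm_one]

theorem sg_eq_one {v : G} (hv : v ∈ vg G a t) (h : v = 1) (x : L) : hC.sg hv x = x := by
  subst h
  exact hC.sg_one (one_mem (wg G a t)) x

/-- The pencil of two rows with the same element of `V`. -/
theorem same_class {u r : L × L} (h : dt u r = 1) (hF : hC.F u = hC.F r) :
    hC.F (hC.Aq u r) = hC.F r ∧ hC.Φ r * hC.Φ (hC.Aq u r) = 1 ∧ hC.Φ r * hC.Φ u = 1 := by
  have h1 := hC.F_Aq h
  have he : hC.eps u r = 1 := by rw [eps, hF, mul_inv_cancel]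
  have hA : hC.F (hC.Aq u r) = hC.F r := by rw [h1.1, hF]; group
  have hγ : hC.γ (hC.Aq u r) = hC.γ u := by
    rw [h1.2, hC.sg_eq_one _ (by rw [he, inv_one]), hC.sg_eq_one _ (by rw [he, inv_one]),
      mul_div_cancel_right₀ _ (hC.γ_ne r)]
  have hφ := hC.Φ_ne r
  have hd : dt (hC.Aq u r) r = 1 := dt_add_smul h _
  have hback : hC.Aq (hC.Aq u r) r = u := by
    rw [Aq, Aq, add_assoc, ← add_smul, CharTwo.add_self_eq_zero, zero_smul, add_zero]
  have he' : hC.eps (hC.Aq u r) r = 1 := by rw [eps, hA, mul_inv_cancel]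
  have hp : hC.RR (hC.Aq u r) r (hC.Φ r) = hC.RR u r (hC.Φ r) := (hC.pair h hφ).1
  have hside : ∀ {w : L × L}, hC.eps w r = 1 →
      hC.RR w r (hC.Φ r) = (hC.γ w / hC.γ r) • (r + (hC.Φ (hC.Aq w r) + (hC.Φ r)⁻¹) • hC.Aq w r) := by
    intro w hw
    rw [RR, cc, hC.sg_eq_one _ hw, hC.Psi_eq_one _ hw, R0, ss]
  rw [hside he', hside he, hback, hγ] at hp
  have hp' := smul_right_injective (L × L) (div_ne_zero (hC.γ_ne u) (hC.γ_ne r)) hp
  have e1 := congrArg (fun v => dt v r) hp'
  simp only [dt_add_left, dt_smul_left, dt_self, zero_add, h, hd, mul_one] at e1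
  have e2 := congrArg (fun v => dt v u) hp'
  simp only [dt_add_left, dt_smul_left, dt_self, mul_zero, add_zero, dt_comm r u, h] at e2
  have hAu : dt (hC.Aq u r) u = hC.Φ r := by
    rw [Aq, dt_add_left, dt_self, dt_smul_left, dt_comm r u, h, zero_add, mul_one]
  rw [hAu] at e2
  have h3 : hC.Φ r * hC.Φ (hC.Aq u r) = 1 := by
    have := mul_inv_cancel₀ hφ
    linear_combination -e2 - this - (CharTwo.two_eq_zero : (2 : L) = 0)
  refine ⟨hA, h3, ?_⟩
  rw [add_right_cancel e1, h3]

/-- A class consists of at most three lines. -/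
theorem class_three {u v r : L × L} (hu : dt u r = 1) (hv : dt v r = 1) (hFu : hC.F u = hC.F r)
    (hFv : hC.F v = hC.F r) : v = u ∨ v = hC.Aq u r := by
  obtain ⟨l, hl⟩ := eq_smul_of_dt (u := u + v) (ne_zero_of_dt (by rw [hu]; exact one_ne_zero : dt u r ≠ 0)).2
    (by rw [dt_add_left, hu, hv, CharTwo.add_self_eq_zero])
  have hveq : v = u + l • r := by
    rw [← hl, ← add_assoc, show u + u = 0 by ext <;> simp [CharTwo.add_self_eq_zero], zero_add]
  by_cases hl0 : l = 0
  · left; rw [hveq, hl0, zero_smul, add_zero]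
  right
  obtain ⟨hA, hAφ, huφ⟩ := hC.same_class hu hFu
  obtain ⟨hB, hBφ, hvφ⟩ := hC.same_class hv hFv
  have hφ := hC.Φ_ne r
  have he : hC.eps u r = 1 := by rw [eps, hFu, mul_inv_cancel]
  have he' : hC.eps v r = 1 := by rw [eps, hFv, mul_inv_cancel]
  have hp : hC.RR v r l = hC.RR u r l := by rw [hveq]; exact (hC.pair hu hl0).1
  have hside : ∀ {w : L × L}, hC.eps w r = 1 → hC.Φ r * hC.Φ (hC.Aq w r) = 1 →
      hC.RR w r l = (hC.γ w / hC.γ r) • (r + ((hC.Φ r)⁻¹ + l⁻¹) • hC.Aq w r) := by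
    intro w hw hwφ
    rw [RR, cc, hC.sg_eq_one _ hw, hC.Psi_eq_one _ hw, R0, ss, eq_inv_of_mul_eq_one_right hwφ]
  rw [hside he' hBφ, hside he hAφ] at hp
  set s := (hC.Φ r)⁻¹ + l⁻¹ with hs
  by_cases hs0 : s = 0
  · rw [hveq, Aq, inv_injective (CharTwo.add_eq_zero.1 hs0).symm]
  exfalso
  have hdu : dt (hC.Aq u r) r = 1 := dt_add_smul hu _
  have hdv : dt (hC.Aq v r) r = 1 := dt_add_smul hv _
  have e1 := congrArg (fun w => dt w r) hp
  simp only [dt_add_left, dt_smul_left, dt_self, zero_add, hdu, hdv, mul_one] at e1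
  have hγ : hC.γ v / hC.γ r = hC.γ u / hC.γ r := mul_right_cancel₀ hs0 e1
  rw [hγ] at hp
  have hp' := smul_right_injective (L × L) (div_ne_zero (hC.γ_ne u) (hC.γ_ne r)) hp
  have hne : hC.Aq v r = hC.Aq u r := smul_right_injective (L × L) hs0 (add_left_cancel hp')
  simp only [Aq, add_left_inj] at hne
  have h0 := hl
  rw [hne, show u + u = 0 by ext <;> simp [CharTwo.add_self_eq_zero]] at h0
  rcases smul_eq_zero.1 h0.symm with h | h
  · exact hl0 h
  · exact (ne_zero_of_dt (by rw [hu]; exact one_ne_zero : dt u r ≠ 0)).2 h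

/-- The number of rows with a given element of `V`. -/
theorem class_card [DecidableEq G] [DecidableEq L] {r : L × L} (hr : r ≠ 0) :
    ((Finset.univ : Finset (L × L)).filter fun x => x ≠ 0 ∧ hC.F x = hC.F r).card ≤ 3 * (Fintype.card L - 1) ∧
      ((∀ u, dt u r = 1 → hC.F u ≠ hC.F r) →
        ((Finset.univ : Finset (L × L)).filter fun x => x ≠ 0 ∧ hC.F x = hC.F r).card ≤ Fintype.card L - 1) := by
  classical
  set E := (Finset.univ : Finset L).erase 0 with hE
  have hEc : E.card = Fintype.card L - 1 := by rw [hE, Finset.card_erase_of_mem (Finset.mem_univ _), Finset.card_univ]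
  set C := (Finset.univ : Finset (L × L)).filter fun x => x ≠ 0 ∧ hC.F x = hC.F r with hC'
  have hkey : ∀ x ∈ C, (∃ l ∈ E, x = l • r) ∨ ∃ u, dt u r = 1 ∧ hC.F u = hC.F r ∧ ∃ l ∈ E, x = l • u := by
    intro x hx
    rw [hC', Finset.mem_filter] at hx
    by_cases hd : dt x r = 0
    · obtain ⟨l, rfl⟩ := eq_smul_of_dt hr hd
      exact Or.inl ⟨l, Finset.mem_erase.2 ⟨fun e => hx.2.1 (by rw [e, zero_smul]), Finset.mem_univ _⟩, rfl⟩
    · refine Or.inr ⟨(dt x r)⁻¹ • x, by rw [dt_smul_left, inv_mul_cancel₀ hd], ?_, dt x r,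
        Finset.mem_erase.2 ⟨hd, Finset.mem_univ _⟩, ?_⟩
      · rw [(hC.smul_row (inv_ne_zero hd) hx.2.1).2.1, hx.2.2]
      · rw [smul_smul, mul_inv_cancel₀ hd, one_smul]
  by_cases hex : ∃ u, dt u r = 1 ∧ hC.F u = hC.F r
  · obtain ⟨u, hu, hFu⟩ := hex
    refine ⟨?_, fun h => absurd hFu (h u hu)⟩
    have hsub : C ⊆ E.image (fun l => l • r) ∪ (E.image (fun l => l • u) ∪ E.image (fun l => l • hC.Aq u r)) := by
      intro x hx
      rcases hkey x hx with ⟨l, hl, rfl⟩ | ⟨v, hv, hFv, l, hl, rfl⟩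
      · exact Finset.mem_union_left _ (Finset.mem_image_of_mem _ hl)
      · refine Finset.mem_union_right _ ?_
        rcases hC.class_three hu hv hFu hFv with rfl | rfl
        · exact Finset.mem_union_left _ (Finset.mem_image_of_mem _ hl)
        · exact Finset.mem_union_right _ (Finset.mem_image_of_mem _ hl)
    refine (Finset.card_le_card hsub).trans ((Finset.card_union_le _ _).trans ?_)
    have := Finset.card_union_le (E.image (fun l => l • u)) (E.image (fun l => l • hC.Aq u r))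
    have := Finset.card_image_le (s := E) (f := fun l => l • r)
    have := Finset.card_image_le (s := E) (f := fun l => l • u)
    have := Finset.card_image_le (s := E) (f := fun l => l • hC.Aq u r)
    omega
  · push Not at hex
    have hsub : C ⊆ E.image (fun l => l • r) := by
      intro x hx
      rcases hkey x hx with ⟨l, hl, rfl⟩ | ⟨v, hv, hFv, -⟩
      · exact Finset.mem_image_of_mem _ hl
      · exact absurd hFv (hex v hv)
    have h1 := (Finset.card_le_card hsub).trans Finset.card_image_le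
    rw [hEc] at h1
    exact ⟨by omega, fun _ => h1⟩

/-- The case `W = 1`, `V ≠ 1` does not occur. -/
theorem not_triv {f : ℕ} (hf2 : 2 ≤ f) (hf : Fintype.card L = 2 ^ f) (hW : wg G a t = ⊥) :
    vg G a t = ⊥ := by
  classical
  by_contra hV
  have hct := hC.m.ctx
  haveI : Fintype (vg G a t) := Fintype.ofFinite _
  have hinj : Function.Injective (fun v : vg G a t => hC.sg v.2) := by
    intro u v e
    have hm := mul_mem (inv_mem u.2) v.2
    have hW' : (u : G)⁻¹ * v ∈ wg G a t := by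
      refine Subgroup.mem_inf.2 ⟨hct.vg_le hm, Subgroup.mem_centralizer_iff.2 fun s hs => ?_⟩
      obtain ⟨x, rfl⟩ := (hC.m.coord.mem_zp s).1 (hct.mem_zg.2 (Or.inr hs))
      have hx := hC.sg_z hm x
      rw [hC.sg_mul (inv_mem u.2) v.2, ← show hC.sg u.2 x = hC.sg v.2 x from congrArg (fun σ : L ≃+* L => σ x) e,
        ← hC.sg_mul (inv_mem u.2) u.2, hC.sg_eq_one _ (inv_mul_cancel _), mul_inv_eq_iff_eq_mul] at hx
      exact hx.symm
    rw [hW, Subgroup.mem_bot] at hW'
    exact Subtype.ext (inv_mul_eq_one.1 hW')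
  haveI : Finite (L ≃+* L) := Finite.of_injective _ DFunLike.coe_injective
  have hVf : Nat.card (vg G a t) ≤ f := (Nat.card_le_card_of_injective _ hinj).trans (card_aut_le hf)
  have hVodd := hct.odd_vg
  have hV3 : 3 ≤ Nat.card (vg G a t) := by
    have : Nontrivial (vg G a t) := (Subgroup.nontrivial_iff_ne_bot _).2 hV
    have := Finite.one_lt_card (α := vg G a t)
    obtain ⟨j, hj⟩ := hVodd
    omega
  -- the classes
  set q := Fintype.card L with hq
  set Vc := (Finset.univ : Finset (L × L)).filter (fun x => x ≠ 0) with hVc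
  set I := Vc.image hC.F with hI
  have hVcard : Vc.card + 1 = q ^ 2 := by
    rw [hVc, Finset.filter_ne', Finset.card_erase_add_one (Finset.mem_univ _), Finset.card_univ,
      Fintype.card_prod, pow_two]
  have hIc : I.card ≤ Nat.card (vg G a t) := by
    rw [Nat.card_eq_fintype_card]
    refine Finset.card_le_card_of_injOn (s := I) (t := (Finset.univ : Finset (vg G a t)))
      (fun g => if h : g ∈ vg G a t then ⟨g, h⟩ else 1) (fun _ _ => Finset.mem_univ _) ?_
    intro x hx y hy e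
    obtain ⟨x', -, rfl⟩ := Finset.mem_image.1 hx
    obtain ⟨y', -, rfl⟩ := Finset.mem_image.1 hy
    simp only [dif_pos (hC.F_mem x'), dif_pos (hC.F_mem y')] at e
    exact congrArg Subtype.val e
  have hCl : ∀ r : L × L, r ≠ 0 → (Vc.filter fun x => hC.F x = hC.F r) =
      (Finset.univ : Finset (L × L)).filter fun x => x ≠ 0 ∧ hC.F x = hC.F r := fun r _ => by
    rw [hVc, Finset.filter_filter]
  have hb : ∀ c ∈ I, (Vc.filter fun x => hC.F x = c).card ≤ 3 * (q - 1) := by
    intro c hc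
    obtain ⟨r, hr, rfl⟩ := Finset.mem_image.1 hc
    have hr0 : r ≠ 0 := (Finset.mem_filter.1 hr).2
    rw [hCl r hr0]
    exact (hC.class_card hr0).1
  have hsum := Finset.card_eq_sum_card_image hC.F Vc
  obtain ⟨w, hw⟩ : ∃ w, q = w + 1 := ⟨q - 1, by rw [hq]; have := Fintype.card_pos (α := L); omega⟩
  have hw3 : 3 ≤ w := by
    have h4 : 2 ^ 2 ≤ 2 ^ f := Nat.pow_le_pow_right (show 0 < 2 by norm_num) hf2
    omega
  have hVw : Vc.card = w * (w + 2) := by rw [hw] at hVcard; nlinarith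
  have hmain : Vc.card ≤ Nat.card (vg G a t) * (3 * w) := by
    rw [hsum]
    refine (Finset.sum_le_card_nsmul _ _ _ hb).trans ?_
    rw [smul_eq_mul, hw, Nat.add_sub_cancel]
    exact Nat.mul_le_mul_right _ hIc
  have hq1 : w + 2 ≤ 3 * f := by
    refine Nat.le_of_mul_le_mul_left ?_ (show 0 < w by omega)
    rw [← hVw]
    refine hmain.trans ?_
    rw [show w * (3 * f) = f * (3 * w) by ring]
    exact Nat.mul_le_mul_right _ hVf
  have hf3 : f = 3 := by
    by_contra hne
    have : 4 ≤ f := by omega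
    have := three_f_bound this
    omega
  subst hf3
  have hcard3 : Nat.card (vg G a t) = 3 := by omega
  have hL8 : Fintype.card L = 8 := by rw [← hq, hf]; norm_num
  have hw7 : w = 7 := by omega
  -- every class is full
  have hfull : ∀ r : L × L, r ≠ 0 → ∃ u, dt u r = 1 ∧ hC.F u = hC.F r := by
    intro r hr
    by_contra hcon
    push Not at hcon
    have h7 := (hC.class_card hr).2 hcon
    rw [← hCl r hr] at h7
    have hrI : hC.F r ∈ I := Finset.mem_image_of_mem _ (by simp [hVc, hr])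
    rw [← Finset.add_sum_erase I _ hrI] at hsum
    have h21 : ∑ x ∈ I.erase (hC.F r), (Vc.filter fun v => hC.F v = x).card ≤ (I.erase (hC.F r)).card • (3 * (q - 1)) :=
      Finset.sum_le_card_nsmul _ _ _ fun c hc => hb c (Finset.mem_of_mem_erase hc)
    rw [Finset.card_erase_of_mem hrI, smul_eq_mul, hw, hw7] at h21
    rw [← hq, hw, hw7] at h7
    rw [hVw, hw7] at hsum
    have : I.card - 1 ≤ 2 := by omega
    have := Nat.mul_le_mul_right (3 * (7 + 1 - 1)) this
    omega
  haveI : Fact (Nat.Prime 3) := ⟨Nat.prime_three⟩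
  obtain ⟨⟨v, hv⟩, hv1⟩ := (Subgroup.ne_bot_iff_exists_ne_one.1 hV)
  have hv1' : v ≠ 1 := fun e => hv1 (Subtype.ext e)
  have hgen : ∀ x ∈ vg G a t, ∃ n : ℕ, x = v ^ n := by
    intro x hx
    obtain ⟨n, hn⟩ := mem_powers_of_prime_card (g := (⟨v, hv⟩ : vg G a t)) (g' := ⟨x, hx⟩) hcard3
      (fun e => hv1' (congrArg Subtype.val e))
    exact ⟨n, (congrArg Subtype.val hn).symm⟩
  have hv3 : v ^ 3 = 1 := by
    have := congrArg Subtype.val (pow_card_eq_one' (x := (⟨v, hv⟩ : vg G a t)))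
    rwa [hcard3] at this
  set σ := hC.sg hv with hσdef
  set Ψ := hC.Psi hv with hΨdef
  have hσ3 : ∀ x, σ (σ (σ x)) = x := fun x => by
    have := hC.sg_iter hv 3 x
    simp only [Function.iterate_succ, Function.iterate_zero, Function.comp, id] at this
    rw [hσdef, this]
    exact hC.sg_eq_one _ hv3 x
  have hΨ3 : ∀ x, x ≠ 0 → Ψ (Ψ (Ψ x)) = x := by
    intro x hx
    rw [hΨdef, ← hC.Psi_mul hv hv hx, ← hC.Psi_mul hv (mul_mem hv hv) hx]
    exact hC.Psi_eq_one _ (by rw [← hv3]; simp [pow_succ, mul_assoc]) x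
  have hσne : σ ≠ RingEquiv.refl L := by
    intro e
    refine hv1' ?_
    refine congrArg Subtype.val (hinj (a₁ := ⟨v, hv⟩) (a₂ := 1) ?_)
    exact RingEquiv.ext fun x => by
      show σ x = hC.sg (one_mem (vg G a t)) x
      rw [e, hC.sg_eq_one _ rfl]; rfl
  have hfix : ∀ x, σ x = x → x = 0 ∨ x = 1 := by
    intro x hx
    by_contra hc
    push Not at hc
    have hk := card_fix_cube hσne (n := 3) (by decide) (fun y => by
      simp only [Function.iterate_succ, Function.iterate_zero, Function.comp, id]; exact hσ3 y)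
    have h3 : 3 ≤ Nat.card {y : L // σ y = y} := by
      rw [show (3 : ℕ) = ({0, 1, x} : Finset L).card from (Finset.card_eq_three.2
        ⟨0, 1, x, zero_ne_one, hc.1.symm, hc.2.symm, rfl⟩).symm, Nat.card_eq_fintype_card, Fintype.card_subtype]
      refine Finset.card_le_card fun y hy => ?_
      simp at hy
      rcases hy with rfl | rfl | rfl <;> simp [hx]
    have := Nat.pow_le_pow_left h3 3
    omega
  -- a fixed row
  obtain ⟨r, hr, hΨr⟩ : ∃ r : L × L, r ≠ 0 ∧ Ψ r = r := by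
    by_contra hcon
    push Not at hcon
    obtain ⟨z, hz⟩ : ∃ z : L, σ z ≠ z := by
      by_contra h
      push Not at h
      exact hσne (RingEquiv.ext h)
    set e : L × L := (1, 0)
    have he : e ≠ 0 := by simp [e]
    have he1 : Ψ e ≠ 0 := fun h => by
      obtain ⟨B, hB⟩ := exists_mat he
      have := hC.bot_act hv B
      rw [hB] at this
      exact bot_ne _ (this.trans h)
    have he2 : Ψ (Ψ e) ≠ 0 := fun h => by
      obtain ⟨B, hB⟩ := exists_mat he1
      have := hC.bot_act hv B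
      rw [hB] at this
      exact bot_ne _ (this.trans h)
    have hS : ∀ l : L, l • e + σ l • Ψ e + σ (σ l) • Ψ (Ψ e) = 0 := by
      intro l
      by_contra hne
      refine hcon _ hne ?_
      rw [hΨdef, hC.Psi_add, hC.Psi_add, hC.Psi_smul, hC.Psi_smul, hC.Psi_smul, ← hσdef, ← hΨdef, hσ3,
        hΨ3 e he]
      abel
    have h0 := hS 1
    have h1 := hS z
    have h2 := hS (z ^ 2)
    simp only [map_one, map_pow, one_smul] at h0 h2
    have key : ((z - σ z) * (z - σ (σ z))) • e = 0 := by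
      have a1 := congrArg Prod.fst h0
      have b1 := congrArg Prod.fst h1
      have c1 := congrArg Prod.fst h2
      have a2 := congrArg Prod.snd h0
      have b2 := congrArg Prod.snd h1
      have c2 := congrArg Prod.snd h2
      simp only [Prod.fst_add, Prod.snd_add, Prod.smul_fst, Prod.smul_snd, smul_eq_mul, Prod.fst_zero,
        Prod.snd_zero] at a1 b1 c1 a2 b2 c2
      ext <;> simp only [Prod.smul_fst, Prod.smul_snd, smul_eq_mul, Prod.fst_zero, Prod.snd_zero]
      · linear_combination c1 - (σ z + σ (σ z)) * b1 + σ z * σ (σ z) * a1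
      · linear_combination c2 - (σ z + σ (σ z)) * b2 + σ z * σ (σ z) * a2
    rcases smul_eq_zero.1 key with h | h
    · rcases mul_eq_zero.1 h with h | h
      · exact hz (sub_eq_zero.1 h).symm
      · have := congrArg σ (sub_eq_zero.1 h)
        rw [hσ3] at this
        exact hz this
    · exact he h
  obtain ⟨u, hu, hFu⟩ := hfull r hr
  have hu0 : u ≠ 0 := (ne_zero_of_dt (by rw [hu]; exact one_ne_zero : dt u r ≠ 0)).1
  have hFinv : ∀ {x : L × L}, x ≠ 0 → hC.F (Ψ x) = hC.F x := by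
    intro x hx
    have e1 := (hC.Psi_row hv hr).1
    rw [← hΨdef, hΨr] at e1
    have hcomm : ∀ p ∈ vg G a t, ∀ p' ∈ vg G a t, p * p' = p' * p := fun p hp p' hp' => by
      obtain ⟨i, rfl⟩ := hgen p hp
      obtain ⟨j, rfl⟩ := hgen p' hp'
      rw [← pow_add, ← pow_add, add_comm]
    rw [hcomm v hv _ (hC.F_mem r)] at e1
    have e2 := (hC.Psi_row hv hx).1
    rw [mul_left_cancel e1, hcomm v hv _ (hC.F_mem x), ← hΨdef] at e2
    exact mul_right_cancel e2
  obtain ⟨hFA, hφA, hφu⟩ := hC.same_class hu hFu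
  have hΨd : ∀ {x : L × L}, dt x r = 1 → dt (Ψ x) r = 1 := fun {x} hx => by
    conv_lhs => rw [← hΨr]
    rw [hΨdef, hC.dt_Psi, hx, map_one]
  have hA0 : hC.Aq u r ≠ 0 := (ne_zero_of_dt (r := r) (by rw [Aq, dt_add_smul hu]; exact one_ne_zero)).1
  set φ := hC.Φ r with hφdef
  have hφ : φ ≠ 0 := hC.Φ_ne r
  have hΨA : Ψ (hC.Aq u r) = Ψ u + σ φ • r := by
    rw [Aq, hΨdef, hC.Psi_add, hC.Psi_smul, ← hΨdef, hΨr]
  have hΨu : Ψ u = u ∧ φ = 1 := by
    have hc1 := hC.class_three hu (hΨd hu) hFu ((hFinv hu0).trans hFu)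
    have hc2 := hC.class_three hu (hΨd (dt_add_smul hu φ)) hFu ((hFinv hA0).trans hFA)
    rw [Aq, ← hφdef] at hc2 hΨA
    rw [hΨA] at hc2
    rw [Aq, ← hφdef] at hc1
    have hcan : ∀ {x y : L}, u + x • r = u + y • r → x = y := fun {x y} h =>
      smul_left_injective L hr (add_left_cancel h)
    rcases hc1 with h1 | h1
    · refine ⟨h1, ?_⟩
      rw [h1] at hc2
      rcases hc2 with h | h
      · exact absurd (hcan (h.trans (by rw [zero_smul, add_zero]) : u + σ φ • r = u + (0 : L) • r))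
          (by simpa using hφ)
      · exact (hfix φ (hcan h)).resolve_left hφ
    · exfalso
      rw [h1, add_assoc, ← add_smul] at hc2
      have hσφ : σ φ = φ := by
        rcases hc2 with h | h
        · have := hcan (h.trans (by rw [zero_smul, add_zero]) : u + (φ + σ φ) • r = u + (0 : L) • r)
          exact (CharTwo.add_eq_zero.1 this).symm
        · have := hcan h
          rw [add_eq_left] at this
          exact absurd this (by simpa using hφ)
      have h3 := hΨ3 u hu0
      rw [h1, hΨdef, hC.Psi_add, hC.Psi_smul, ← hΨdef, hΨr, ← hσdef, hσφ, h1, add_assoc, ← add_smul,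
        CharTwo.add_self_eq_zero, zero_smul, add_zero, h1] at h3
      exact hφ (hcan (h3.trans (by rw [zero_smul, add_zero]) : u + φ • r = u + (0 : L) • r))
  obtain ⟨hΨu, hφ1⟩ := hΨu
  -- the coordinates
  have hΨc : ∀ x y : L, Ψ (x • r + y • u) = σ x • r + σ y • u := fun x y => by
    rw [hΨdef, hC.Psi_add, hC.Psi_smul, hC.Psi_smul, ← hΨdef, hΨr, hΨu]
  have hdc : ∀ x y x' y' : L, dt (x • r + y • u) (x' • r + y' • u) = x * y' + x' * y := fun x y x' y' => by
    rw [dt_add_left, dt_smul_left, dt_smul_left, dt_comm r, dt_add_left, dt_smul_left, dt_smul_left, dt_self,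
      hu, dt_comm u (_ + _), dt_add_left, dt_smul_left, dt_smul_left, dt_self, dt_comm r u, hu]
    ring
  -- three conjugates
  have hconj : ∀ b : L, b ≠ 0 → b ≠ 1 → (σ b = b ^ 2 ∧ σ (σ b) = b ^ 4) ∨ (σ b = b ^ 4 ∧ σ (σ b) = b ^ 2) := by
    intro b h0 h1
    have hroot := eight_roots hL8 h0 h1
    have hb1 : σ b ≠ b := fun e => (hfix b e).elim h0 h1
    have h8 := eight_pow hL8 b
    have h2 : (2 : L) = 0 := CharTwo.two_eq_zero
    have hsb : σ b = b ^ 2 ∨ σ b = b ^ 4 := by
      have hroots : ∀ P : L → L, (∀ x, P x = 1 + x + x ^ 3) ∨ (∀ x, P x = 1 + x ^ 2 + x ^ 3) → P b = 0 →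
          P (σ b) = 0 → σ b = b ^ 2 ∨ σ b = b ^ 4 := by
        intro P hP hPb hPs
        have hfac : (σ b + b) * ((σ b + b ^ 2) * (σ b + b ^ 4)) = 0 := by
          rcases hP with hP | hP <;> rw [hP] at hPb hPs
          · linear_combination hPs + (1 - b - b ^ 2 + b ^ 4 - σ b - σ b * b + σ b * b ^ 2 + σ b * b ^ 3 + σ b ^ 2 * b) * hPb +
              (-1 + b ^ 2 + σ b * b) * h2
          · linear_combination hPs + (3 - 2 * b + b ^ 2 - b ^ 3 + b ^ 4 + σ b * b ^ 3 - σ b ^ 2 + σ b ^ 2 * b) * hPb +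
              (-2 + b - 2 * b ^ 2 + σ b ^ 2 * b ^ 2) * h2
        rcases mul_eq_zero.1 hfac with h | h
        · exact absurd (CharTwo.add_eq_zero.1 h) hb1
        · exact (mul_eq_zero.1 h).imp CharTwo.add_eq_zero.1 CharTwo.add_eq_zero.1
      rcases mul_eq_zero.1 hroot with h | h
      · exact hroots _ (Or.inl fun x => rfl) h (by
          have := congrArg σ h
          simpa using this)
      · exact hroots _ (Or.inr fun x => rfl) h (by
          have := congrArg σ h
          simpa using this)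
    rcases hsb with h | h
    · exact Or.inl ⟨h, by rw [h, map_pow, h, ← pow_mul]⟩
    · exact Or.inr ⟨h, by
        rw [h, map_pow, h, ← pow_mul, show b ^ (4 * 4) = (b ^ 8) ^ 2 by ring, h8]⟩
  have hΦ : ∀ b : L, b ≠ 0 → b ≠ 1 → hC.Φ (b • r + u) * (1 + b + b ^ 2) = 1 := by
    intro b h0 h1
    have hCd : dt (b • r + u) r = 1 := by rw [dt_add_left, dt_smul_left, dt_self, mul_zero, zero_add, hu]
    set C := b • r + u with hCdef
    have hC0 : C ≠ 0 := (ne_zero_of_dt (by rw [hCd]; exact one_ne_zero : dt C r ≠ 0)).1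
    have hne : σ b ≠ b := fun e => (hfix b e).elim h0 h1
    have hne2 : σ (σ b) ≠ b := fun e => hne (by
      have := congrArg σ e
      rw [hσ3] at this
      exact this.symm)
    have hCc : C = b • r + (1 : L) • u := by rw [one_smul]
    have hΨC : Ψ C = σ b • r + (1 : L) • u := by rw [hCc, hΨc, map_one]
    have hΨC2 : Ψ (Ψ C) = σ (σ b) • r + (1 : L) • u := by rw [hΨC, hΨc, map_one]
    have hd1 : dt (Ψ C) C = σ b + b := by rw [hΨC, hCc, hdc]; ring
    have hd2 : dt (Ψ (Ψ C)) C = σ (σ b) + b := by rw [hΨC2, hCc, hdc]; ring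
    have hn1 : σ b + b ≠ 0 := fun e => hne (CharTwo.add_eq_zero.1 e)
    have hn2 : σ (σ b) + b ≠ 0 := fun e => hne2 (CharTwo.add_eq_zero.1 e)
    have hΨC0 := (ne_zero_of_dt (by rw [hd1]; exact hn1 : dt (Ψ C) C ≠ 0)).1
    have hΨC20 := (ne_zero_of_dt (by rw [hd2]; exact hn2 : dt (Ψ (Ψ C)) C ≠ 0)).1
    set D := (σ b + b)⁻¹ • Ψ C with hD
    set E := (σ (σ b) + b)⁻¹ • Ψ (Ψ C) with hE
    have hDd : dt D C = 1 := by rw [hD, dt_smul_left, hd1, inv_mul_cancel₀ hn1]
    have hEd : dt E C = 1 := by rw [hE, dt_smul_left, hd2, inv_mul_cancel₀ hn2]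
    have hFD : hC.F D = hC.F C := by rw [hD, (hC.smul_row (inv_ne_zero hn1) hΨC0).2.1, hFinv hC0]
    have hFE : hC.F E = hC.F C := by
      rw [hE, (hC.smul_row (inv_ne_zero hn2) hΨC20).2.1, hFinv hΨC0, hFinv hC0]
    rcases hC.class_three hDd hEd hFD hFE with h | h
    · exfalso
      have e1 := congrArg (fun x => dt x r) h
      have e2 := congrArg (fun x => dt x u) h
      rw [hE, hD, hΨC2, hΨC] at e1 e2
      simp only [dt_smul_left, dt_add_left, dt_self, mul_zero, zero_add, add_zero, dt_comm r u, hu, mul_one] at e1 e2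
      rw [e1] at e2
      exact hne (σ.injective (mul_left_cancel₀ (inv_ne_zero hn1) e2))
    · have e1 := congrArg (fun x => dt x r) h
      rw [Aq, hE, hD, hΨC2, hΨC] at e1
      simp only [dt_smul_left, dt_add_left, dt_self, mul_zero, zero_add, hu, mul_one, hCd] at e1
      have he := eight_phi hL8 h0 h1 (hconj b h0 h1)
      simp only [one_div] at he
      linear_combination he - (1 + b + b ^ 2) * e1 +
        (-(σ b + b)⁻¹ * (1 + b + b ^ 2)) * (CharTwo.two_eq_zero : (2 : L) = 0)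
  -- the contradiction
  obtain ⟨b, hb0, hb1⟩ : ∃ b : L, b ≠ 0 ∧ b ≠ 1 := by
    obtain ⟨z, hz⟩ : ∃ z : L, σ z ≠ z := by
      by_contra h
      push Not at h
      exact hσne (RingEquiv.ext h)
    exact ⟨z, fun e => hz (by rw [e, map_zero]), fun e => hz (by rw [e, map_one])⟩
  have hb2 : b + 1 ≠ 0 := fun e => hb1 (CharTwo.add_eq_zero.1 e)
  have hb3 : b + 1 ≠ 1 := fun e => hb0 (add_eq_right.1 e)
  set C := b • r + u with hCdef
  have hCd : dt C r = 1 := by rw [hCdef, dt_add_left, dt_smul_left, dt_self, mul_zero, zero_add, hu]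
  have hB : C + (1 : L) • r = (b + 1) • r + u := by rw [hCdef, add_smul]; abel
  have hAC : hC.Aq C r = (b + 1) • r + u := by rw [Aq, ← hφdef, hφ1, hB]
  have hAB : hC.Aq (C + (1 : L) • r) r = b • r + u := by
    rw [Aq, ← hφdef, hφ1, add_assoc, ← add_smul, CharTwo.add_self_eq_zero, zero_smul, add_zero]
  set S := (1 + b + b ^ 2)⁻¹ + 1 with hS
  have h2 : (2 : L) = 0 := CharTwo.two_eq_zero
  have hΦ1 : hC.Φ ((b + 1) • r + u) = (1 + b + b ^ 2)⁻¹ := by
    have h := eq_inv_of_mul_eq_one_left (hΦ (b + 1) hb2 hb3)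
    rw [h]
    congr 1
    linear_combination (b + 1) * h2
  have hΦ0 : hC.Φ (b • r + u) = (1 + b + b ^ 2)⁻¹ := eq_inv_of_mul_eq_one_left (hΦ b hb0 hb1)
  have hR1 : hC.R0 C r 1 = (1 + S * (b + 1)) • r + S • u := by
    rw [R0, ss, hAC, hΦ1, inv_one, ← hS]
    module
  have hR2 : hC.R0 (C + (1 : L) • r) r 1 = (1 + S * b) • r + S • u := by
    rw [R0, ss, hAB, hΦ0, inv_one, ← hS]
    module
  have hden : 1 + b + b ^ 2 ≠ 0 := by
    intro e
    have := hΦ b hb0 hb1
    rw [e, mul_zero] at this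
    exact zero_ne_one this
  have hS0 : S ≠ 0 := by
    intro e
    have e' : (1 + b + b ^ 2)⁻¹ = 1 := CharTwo.add_eq_zero.1 e
    rw [inv_eq_one] at e'
    have : b * (b + 1) = 0 := by linear_combination e'
    exact (mul_eq_zero.1 this).elim hb0 hb2
  have hprod : (1 + S * (b + 1)) * (1 + S * b) = 0 ∧ 1 + S * (b + 1) ≠ 1 + S * b := by
    refine ⟨?_, fun e => hS0 (by linear_combination e)⟩
    have hroot := eight_roots hL8 hb0 hb1
    have hi : (1 + b + b ^ 2) * (1 + b + b ^ 2)⁻¹ = 1 := mul_inv_cancel₀ hden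
    refine (mul_eq_zero.1 (?_ : (1 + b + b ^ 2) ^ 2 * ((1 + S * (b + 1)) * (1 + S * b)) = 0)).resolve_left
      (pow_ne_zero 2 hden)
    have hE1 : (1 + b + b ^ 2) * (1 + S * (b + 1)) = b ^ 3 + b ^ 2 + 1 := by
      rw [hS]
      linear_combination (b + 1) * hi + (b ^ 2 + b + 1 + b) * h2
    have hE2 : (1 + b + b ^ 2) * (1 + S * b) = b ^ 3 + b + 1 := by
      rw [hS]
      linear_combination b * hi + (b ^ 2 + b) * h2
    linear_combination hroot + (1 + b + b ^ 2) * (1 + S * b) * hE1 + (b ^ 3 + b ^ 2 + 1) * hE2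
  have hΨall : ∀ {w : G} (hw : w ∈ vg G a t) (x y : L),
      hC.Psi hw (x • r + y • u) = hC.sg hw x • r + hC.sg hw y • u := by
    intro w hw x y
    have hfixr : ∀ n : ℕ, ∀ z : L × L, z ≠ 0 → Ψ z = z → hC.Psi (pow_mem hv n) z = z := by
      intro n
      induction n with
      | zero => intro z _ _; exact hC.Psi_eq_one _ (pow_zero v) z
      | succ n ih =>
        intro z hz hzfix
        have e := hC.Psi_mul (pow_mem hv n) hv hz
        simp only [← pow_succ] at e
        rw [e, ← hΨdef, hzfix, ih z hz hzfix]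
    obtain ⟨n, rfl⟩ := hgen w hw
    rw [hC.Psi_add, hC.Psi_smul, hC.Psi_smul, hfixr n r hr hΨr, hfixr n u hu0 hΨu]
  obtain ⟨hp, -⟩ := hC.pair hCd (one_ne_zero (α := L))
  rw [RR, RR, hR1, hR2, hΨall, hΨall, smul_add, smul_add, smul_smul, smul_smul, smul_smul, smul_smul] at hp
  have hx := congrArg (fun z => dt z u) hp
  simp only [dt_add_left, dt_smul_left, dt_self, dt_comm r u, hu, mul_zero, add_zero, mul_one] at hx
  have hk : ∀ w : L × L, hC.γ w / hC.cc w r ≠ 0 := fun w => div_ne_zero (hC.γ_ne w) (hC.cc_ne w r)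
  rcases mul_eq_zero.1 hprod.1 with h | h
  · rw [h, map_zero, mul_zero] at hx
    exact hprod.2 (h.trans ((map_eq_zero_iff _ (RingEquiv.injective _)).1
      ((mul_eq_zero.1 hx).resolve_left (hk _))).symm)
  · rw [h, map_zero, mul_zero] at hx
    exact hprod.2 (((map_eq_zero_iff _ (RingEquiv.injective _)).1
      ((mul_eq_zero.1 hx.symm).resolve_left (hk _))).trans h.symm)

end CSet

end Cfsg.Agent.Lie.R1C
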