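import Cfsg.Agent.Lib.Lie.SplitRankOne.CubeLaw
import Cfsg.Agent.Lib.Lie.SplitRankOne.CubeTriv
import Cfsg.Agent.S1137
import Cfsg.Agent.S1138

/-!
A simple group whose `Q` is a two-group and whose `V` is nontrivial has Hermitian coordinates on `Q`.
-/

set_option autoImplicit false
set_option linter.unusedSectionVars false
set_option linter.unusedSimpArgs false
set_option linter.style.haveILetI false

namespace Cfsg.Agent.Lie.R1C

open Cfsg MulAction Matrix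
open Cfsg.Agent.Lie.R1 (D tt t_inv tDt)
open scoped MatrixGroups

variable {G Ω : Type*} [Group G] [MulAction G Ω] {a : Ω} {t : G} {Q : Subgroup G}

/-- Hermitian coordinates on `Q`. -/
structure HermQ (hS : IsRankOneSetup G Ω a t Q) (F : Type) [Field F] [Fintype F] (n : ℕ) (c : Q → F × F) :
    Prop where
  two_le : 2 ≤ n
  card_zg : Nat.card (zg G a) = 2 ^ n
  card : Fintype.card F = (2 ^ n) ^ 2
  charTwo : CharP F 2
  inj : Function.Injective c
  herm : ∀ x, (c x).2 + (c x).2 ^ 2 ^ n = (c x).1 * (c x).1 ^ 2 ^ n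
  surj : ∀ p : F × F, p.2 + p.2 ^ 2 ^ n = p.1 * p.1 ^ 2 ^ n → ∃ x, c x = p
  map_mul : ∀ x y, c (x * y) = ((c x).1 + (c y).1, (c x).2 + (c y).2 + (c x).1 ^ 2 ^ n * (c y).1)
  map_gc : ∀ (x : G) (hx : x ∈ Q) (hx1 : x ≠ 1),
    (c ⟨x, hx⟩).2 ≠ 0 ∧ c ⟨gc hS x, gc_mem hS hx hx1⟩ = ((c ⟨x, hx⟩).1 / (c ⟨x, hx⟩).2, (c ⟨x, hx⟩).2⁻¹)

variable [Finite G] (hc : Ctx G Ω a t Q)

include hc

namespace Ctx

/-- A non-abelian two-subgroup of `Q` containing `Z` and invariant under the torus is a Suzuki two-group. -/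
theorem suzukiTwo' {S : Subgroup G} (hSQ : S ≤ Q) (hZS : zg G a ≤ S)
    (hK : ∀ k ∈ kg G a t, ∀ x ∈ S, k * x * k⁻¹ ∈ S) (hP : IsPGroup 2 S)
    (hnc : ∃ x ∈ S, ∃ y ∈ S, x * y ≠ y * x) : IsSuzukiTwoGroup S := by
  obtain ⟨x, hx, y, hy, hxy⟩ := hnc
  refine ⟨inferInstance, hP, ⟨⟨x, hx⟩, ⟨y, hy⟩, fun h => hxy (congrArg Subtype.val h)⟩, ?_, ?_⟩
  · obtain ⟨u, v, hu, hv, huv⟩ := R1.two_inv hc.hS hc.h2
    have huQ := hZS (hc.mem_zg.2 (Or.inr hu))
    have hvQ := hZS (hc.mem_zg.2 (Or.inr hv))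
    exact ⟨⟨u, huQ⟩, ⟨v, hvQ⟩, fun h => huv (congrArg Subtype.val h),
      fun h => hu.2.1 (congrArg Subtype.val h), Subtype.ext hu.2.2,
      fun h => hv.2.1 (congrArg Subtype.val h), Subtype.ext hv.2.2⟩
  let φ : kg G a t →* MulAut S :=
    MonoidHom.mk' (fun k =>
      { toFun := fun x => ⟨(k : G) * x * (k : G)⁻¹, hK k k.2 x x.2⟩
        invFun := fun x => ⟨(k : G)⁻¹ * x * k, by
          simpa using hK _ (inv_mem k.2) x x.2⟩
        left_inv := fun x => Subtype.ext (by simp [mul_assoc])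
        right_inv := fun x => Subtype.ext (by simp [mul_assoc])
        map_mul' := fun x y => Subtype.ext (by simp [mul_assoc]) })
      fun k k' => MulEquiv.ext fun x => Subtype.ext (by simp [mul_assoc])
  haveI := hc.kg_cyclic
  refine ⟨φ.range, isCyclic_of_surjective φ.rangeRestrict φ.rangeRestrict_surjective, ?_⟩
  intro u v hu1 hu2 hv1 hv2
  have hz : ∀ w : S, w * w = 1 → (w : G) ∈ zg G a := fun w hw =>
    hc.mem_zg_of_sq (hc.hS.le (hSQ w.2)) (congrArg Subtype.val hw)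
  obtain ⟨k, hk, hke⟩ := hc.kg_trans (hz u hu2) (fun h => hu1 (Subtype.ext h)) (hz v hv2)
    (fun h => hv1 (Subtype.ext h))
  refine ⟨⟨φ ⟨k, hk⟩, ⟨⟨k, hk⟩, rfl⟩⟩, Subtype.ext hke, ?_⟩
  rintro ⟨_, ⟨k', rfl⟩⟩ hk'
  have e : (k' : G) * u * (k' : G)⁻¹ = v := congrArg Subtype.val hk'
  have hkk : k⁻¹ * (k' : G) = 1 := by
    by_contra hne
    refine hu1 (Subtype.ext (hc.kg_fpf (mul_mem (inv_mem hk) k'.2) hne (hSQ u.2) (mul_inv_eq_iff_eq_mul.1 ?_)))
    rw [show k⁻¹ * (k' : G) * u * (k⁻¹ * (k' : G))⁻¹ = k⁻¹ * ((k' : G) * u * (k' : G)⁻¹) * k by group, e,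
      ← hke]
    group
  have : k' = ⟨k, hk⟩ := Subtype.ext (inv_mul_eq_one.1 hkk).symm
  subst this
  rfl

/-- The squares and the order of such a subgroup. -/
theorem s_struct {S : Subgroup G} (hSQ : S ≤ Q) (hZS : zg G a ≤ S)
    (hK : ∀ k ∈ kg G a t, ∀ x ∈ S, k * x * k⁻¹ ∈ S) (hP : IsPGroup 2 S)
    (hnc : ∃ x ∈ S, ∃ y ∈ S, x * y ≠ y * x) :
    (∀ x ∈ S, x * x ∈ zg G a) ∧
      (∀ x ∈ S, ∀ y ∈ S, x⁻¹ * y⁻¹ * x * y ∈ zg G a) ∧
      (Nat.card S = Nat.card (zg G a) ^ 2 ∨ Nat.card S = Nat.card (zg G a) ^ 3) := by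
  have hS' := hc.suzukiTwo' hSQ hZS hK hP hnc
  have hcen : ∀ x : S, x ∈ Subgroup.center S ↔ (x : G) ∈ zg G a := by
    intro x
    refine ⟨fun h => hc.mem_zg_of_sq (hc.hS.le (hSQ x.2)) (congrArg Subtype.val ((S1137.result hS').2 x h)),
      fun h => ?_⟩
    exact Subgroup.mem_center_iff.2 fun g => Subtype.ext (hc.zg_central h (hSQ g.2)).symm
  obtain ⟨h1, h2, h3, -⟩ := S1138.result hS'
  have hcard : Nat.card (Subgroup.center S) = Nat.card (zg G a) :=
    Nat.card_congr ⟨fun x => ⟨(x.1 : G), (hcen x.1).1 x.2⟩,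
      fun z => ⟨⟨z, hZS z.2⟩, (hcen _).2 z.2⟩, fun _ => rfl, fun _ => rfl⟩
  rw [hcard] at h3
  exact ⟨fun x hx => (hcen ⟨x * x, mul_mem hx hx⟩).1 (h1 ⟨x, hx⟩),
    fun x hx y hy => (hcen _).1 (h2 ⟨x, hx⟩ ⟨y, hy⟩), h3⟩

/-- When `|Q| = q ^ 3` and every nontrivial torus character has both constituents nonlinear, the linear group and
its coordinates exist. -/
theorem exists_cset (hQ3 : Nat.card Q = Nat.card (zg G a) ^ 3) (hsq : ∀ x ∈ Q, x * x ∈ zg G a)
    (hgn : ∀ [Fintype Ω] [Fintype Q] (χ : stabilizer G a →* ℂˣ), IsTorusChar G a t Q χ → χ ≠ 1 →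
      ∀ (g m n : ℕ) (α β : IrrCharacter G), IsHecke χ hc.hS g m n α β → g * n ≠ 1)
    (hex : ∃ χ : stabilizer G a →* ℂˣ, IsTorusChar G a t Q χ ∧ χ ≠ 1) :
    ∃ (L : Type) (_ : Field L) (_ : Fintype L) (_ : CharP L 2) (f : ℕ) (zp kp : L → G) (x0 : Ω)
      (hCS : CSet G a t Q L zp kp x0),
      hCS.HSum ∧ 2 ≤ f ∧ Fintype.card L = 2 ^ f ∧ Nat.card (zg G a) = 2 ^ f := by
  classical
  haveI := R1.finite_Ω hc.hS
  haveI := Fintype.ofFinite Ω
  haveI := Fintype.ofFinite Q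
  obtain ⟨L, _, _, f, zp, kp, hf, hLf, hzf, hL⟩ := hc.exists_coord
  haveI := hL.charTwo
  have hC : CubeCtx hc.hS (zg G a) (kg G a t) f :=
    ⟨hf, hzf, by rw [hQ3, hzf], hc.zg_le_Q, fun z hz x hx => hc.zg_central hz hx, fun z hz => hc.zg_sq hz,
      fun x hx h => hc.mem_zg_of_sq (hc.hS.le hx) h, hsq, hc.kg_eq, by rw [hc.card_kg, hzf],
      fun k hk hk1 x hx h => hc.kg_fpf hk hk1 hx h⟩
  have hcoset : ∀ χ : stabilizer G a →* ℂˣ, IsTorusChar G a t Q χ → χ ≠ 1 → ∀ x ∈ Q, x ∉ zg G a →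
      (∀ z ∈ zg G a, lam χ (R1C.hc hc.hS (x * z)) = 1) → False := by
    intro χ hχ hne x hx hxZ hall
    obtain ⟨g, m, n, α, β, hH⟩ := exists_hecke χ hc.hS hχ
    obtain ⟨-, -, hsum⟩ := cube_off_centre hH hχ hC (hgn χ hχ hne g m n α β hH) hx hxZ
    rw [Finset.sum_congr rfl fun z hz => hall z ((Set.Finite.mem_toFinset _).1 hz), Finset.sum_const,
      nsmul_eq_mul, mul_one] at hsum
    have := congrArg Complex.re hsum
    simp at this
    have h0 : (0 : ℝ) ≤ ((Set.toFinite (zg G a : Set G)).toFinset.card : ℝ) := Nat.cast_nonneg _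
    linarith
  obtain ⟨χ₀, hχ₀, hne₀⟩ := hex
  obtain ⟨r, hr, he⟩ := hL.pair
  have hrZ : r ∈ zg G a := by
    by_contra hrZ
    exact hcoset χ₀ hχ₀ hne₀ r hr hrZ fun z hz => hL.lam_rz hc hr he hrZ hχ₀ hz
  rw [hL.pair_eq hc hr he hrZ, inv_eq_of_mul_eq_one_left (hc.zg_sq (hL.zp_mem hc 1))] at he
  have hM : MCtx G a t Q L zp kp := ⟨hc, hL, he⟩
  have hcardL : Nat.card Q = Fintype.card L ^ 3 := by rw [hQ3, hL.card_eq hc]
  obtain ⟨x0, hx0⟩ : ∃ x0, ¬ hM.inB x0 := by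
    by_contra hh
    push Not at hh
    have hB : (Set.univ : Set Ω) ⊆ insert a (Set.range fun x : L => zp x • (t • a)) := by
      rintro b -
      rcases hh b with rfl | ⟨x, rfl⟩
      exacts [Or.inl rfl, Or.inr ⟨x, rfl⟩]
    have h1 := (Set.ncard_le_ncard hB (Set.toFinite _)).trans (Set.ncard_insert_le _ _)
    have h2 : (Set.range fun x : L => zp x • (t • a)).ncard ≤ Fintype.card L := by
      rw [← Nat.card_coe_set_eq, ← Nat.card_eq_fintype_card]
      exact Finite.card_range_le _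
    rw [Set.ncard_univ, R1.card_Ω hc.hS, hcardL] at h1
    have hq : 2 ≤ Fintype.card L := Fintype.one_lt_card
    have h3 : Fintype.card L ^ 3 ≤ Fintype.card L := by omega
    have h4 : Fintype.card L * 4 ≤ Fintype.card L ^ 3 := by
      calc Fintype.card L * 4 ≤ Fintype.card L * (Fintype.card L * Fintype.card L) :=
            Nat.mul_le_mul_left _ (Nat.mul_le_mul hq hq)
        _ = _ := by ring
    omega
  have hCS : CSet G a t Q L zp kp x0 := ⟨hM, hx0, hcardL, hsq⟩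
  have hsum : hCS.HSum := by
    intro χ hχ hne A
    by_contra hall
    push Not at hall
    refine hcoset χ hχ hne (hCS.elt A) (hCS.elt_mem A) (hCS.elt_not_zg A) fun z hz => ?_
    obtain ⟨α, rfl⟩ := (hL.mem_zp z).1 hz
    rw [← hc.zg_central hz (hCS.elt_mem A), ← hCS.elt_z]
    exact hall α
  exact ⟨L, inferInstance, inferInstance, inferInstance, f, zp, kp, x0, hCS, hsum, hf, hLf, hzf⟩

variable [IsSimpleGroup G] [FaithfulSMul G Ω]

/-- Hermitian coordinates exist. -/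
theorem exists_herm (hQ : IsPGroup 2 Q) (hV : vg G a t ≠ ⊥) :
    ∃ (F : Type) (_ : Field F) (_ : Fintype F) (n : ℕ) (c : Q → F × F), HermQ hc.hS F n c := by
  classical
  have hnc : ∃ x ∈ Q, ∃ y ∈ Q, x * y ≠ y * x := by
    by_contra h
    push Not at h
    exact hc.no_abelian hQ h hV
  obtain ⟨hsq, -, hcardQ⟩ := hc.s_struct le_rfl hc.zg_le_Q
    (fun k hk x hx => R1.conj_Q hc.hS (hc.kg_fix hk) hx) hQ hnc
  rcases hcardQ with hcardQ | hcardQ
  · obtain ⟨L, _, _, f, zp, kp, -, -, -, hL⟩ := hc.exists_coord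
    haveI := hL.charTwo
    exact (hL.no_q2 hc hQ hcardQ hsq hV).elim
  obtain ⟨L, _, _, _, f, zp, kp, x0, hCS, hsum, hf, hLf, hzf⟩ := hc.exists_cset hcardQ hsq
    (fun χ hχ hne g m n α β hH => (gm_ne hH hχ hne).2) (hc.exists_char hV)
  have hL := hCS.m.coord
  have hcardL := hCS.cardQ
  have hW : wg G a t ≠ ⊥ := fun hW => hV (hCS.not_triv hf hLf hW)
  have hVW := hCS.vg_eq_wg hsum hW hf hLf
  obtain ⟨F, _, _, ι, cj, e, hLM⟩ := hCS.exists_lmod hsum hW
  choose c hco using fun x : Q => hLM.co_total x.2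
  have hcj : ∀ y : F, cj y = y ^ 2 ^ f := fun y => by rw [hLM.cj_pow, hLf]
  have hherm : ∀ x, (c x).2 + (c x).2 ^ 2 ^ f = (c x).1 * (c x).1 ^ 2 ^ f := fun x => by
    rw [← hcj, ← hcj]; exact hLM.co_herm (hco x)
  have hinj : Function.Injective c := fun x y h => Subtype.ext (hLM.co_inj (hco x) (h ▸ hco y))
  refine ⟨F, inferInstance, inferInstance, f, c, hf, hzf, by rw [hLM.card, hLf], hLM.charTwo, hinj, hherm, ?_,
    fun x y => ?_, fun x hx hx1 => ?_⟩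
  · intro p hp
    let S := {p : F × F // p.2 + cj p.2 = p.1 * cj p.1}
    have hS' : ∀ p : S, ∃ l : L, ι l = p.1.2 + Classical.epsilon fun y : F => y + cj y = p.1.1 * cj p.1.1 := by
      intro p
      refine hLM.fixed _ ?_
      have h1 := Classical.epsilon_spec (p := fun y : F => y + cj y = p.1.1 * cj p.1.1) ⟨p.1.2, p.2⟩
      have h2 := p.2
      rw [map_add]
      linear_combination h2 - h1 +
        hLM.two_zero * (cj (Classical.epsilon fun y : F => y + cj y = p.1.1 * cj p.1.1) - p.1.2)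
    choose l hl using hS'
    have hle : Nat.card S ≤ Nat.card (F × L) :=
      Nat.card_le_card_of_injective (fun p => (p.1.1, l p)) fun p p' h => by
        simp only [Prod.mk.injEq] at h
        have h2 := hl p
        rw [h.2, hl p', h.1] at h2
        exact Subtype.ext (Prod.ext h.1 (add_right_cancel h2).symm)
    let cS : Q → S := fun x => ⟨c x, hLM.co_herm (hco x)⟩
    have hinj' : Function.Injective cS := fun x y h => hinj (congrArg Subtype.val h)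
    have hge := Nat.card_le_card_of_injective cS hinj'
    have hFL : Nat.card (F × L) = Nat.card Q := by
      rw [Nat.card_prod, Nat.card_eq_fintype_card, Nat.card_eq_fintype_card, hLM.card, hcardL]; ring
    obtain ⟨x, hx⟩ := ((Nat.bijective_iff_injective_and_card cS).2 ⟨hinj', by omega⟩).2
      ⟨p, by rw [hcj, hcj]; exact hp⟩
    exact ⟨x, congrArg Subtype.val hx⟩
  · rw [hLM.co_fun (hco (x * y)) (hLM.co_mul hVW hsum hW (hco x) (hco y)), ← hcj]
    rfl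
  · obtain ⟨h1, h2⟩ := hLM.co_gc (hco ⟨x, hx⟩) hx1
    exact ⟨h1, hLM.co_fun (hco _) h2⟩

end Ctx

end Cfsg.Agent.Lie.R1C
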