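import Cfsg.Agent.Lib.Lie.SplitRankOne.HeckeFacts
import Cfsg.Agent.Lib.Char.Linear

/-!
The monomial characters when `Q` has the cube of the number of its central involutions as order: their values and
the distribution of the `D`-coordinate on the cosets of the centre.
-/

set_option autoImplicit false
set_option linter.unusedSectionVars false
set_option linter.unusedSimpArgs false
set_option linter.style.haveILetI false

namespace Cfsg.Agent.Lie.R1C

open Cfsg MulAction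
open Cfsg.Agent.Lie.R1 (D tt t_inv tDt)
open scoped ComplexConjugate

universe u v

/-- Numerical conclusion. -/
theorem cube_arith {g m n f : ℕ} (hf : 2 ≤ f) (hN : g ^ 2 * m * n = (2 ^ f) ^ 3) (hc : Nat.Coprime m n)
    (hg : 2 ∣ g) (hd : m + n ∣ g * m + 1) (hq : ((2 : ℤ) ^ f - 1) ∣ (g : ℤ) * ((m : ℤ) - n)) :
    g = 2 ^ f ∧ m = 1 ∧ n = 2 ^ f := by
  rw [← pow_mul] at hN
  obtain ⟨i, -, hi⟩ := (Nat.dvd_prime_pow Nat.prime_two).1 (hN ▸ dvd_mul_of_dvd_left (dvd_mul_of_dvd_left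
    (dvd_pow_self g two_ne_zero) m) n : g ∣ 2 ^ (f * 3))
  obtain ⟨j, -, hj⟩ := (Nat.dvd_prime_pow Nat.prime_two).1 (hN ▸ dvd_mul_of_dvd_left (dvd_mul_left m _) n :
    m ∣ 2 ^ (f * 3))
  obtain ⟨l, -, hl⟩ := (Nat.dvd_prime_pow Nat.prime_two).1 (hN ▸ dvd_mul_left n _ : n ∣ 2 ^ (f * 3))
  subst hi hj hl
  have hi0 : i ≠ 0 := fun h => by simp [h] at hg
  have hexp : i * 2 + j + l = f * 3 := by
    have h : 2 ^ (i * 2 + j + l) = 2 ^ (f * 3) := by rw [pow_add, pow_add, pow_mul, hN]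
    exact Nat.pow_right_injective le_rfl h
  have hcopq : IsCoprime ((2 : ℤ) ^ f - 1) ((2 : ℤ) ^ i) := by
    have h1 : IsCoprime ((2 : ℤ) ^ f - 1) 2 := by
      obtain ⟨k, rfl⟩ := Nat.exists_eq_succ_of_ne_zero (show f ≠ 0 by omega)
      exact ⟨-1, 2 ^ k, by rw [Nat.succ_eq_add_one, pow_succ]; ring⟩
    exact h1.pow_right
  push_cast at hq
  have hq' := hcopq.dvd_of_dvd_mul_left hq
  have hdiv : ∀ e : ℕ, ((2 : ℤ) ^ f - 1) ∣ (2 : ℤ) ^ e - 1 → e = 0 ∨ f ≤ e := by
    intro e he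
    by_contra h
    push Not at h
    have h1 : (2 : ℤ) ^ e < 2 ^ f := pow_lt_pow_right₀ (by norm_num) h.2
    have h2 : (2 : ℤ) ≤ 2 ^ e := le_self_pow₀ (by norm_num) h.1
    have := Int.le_of_dvd (by omega) he
    omega
  by_cases hj0 : j = 0
  · subst hj0
    simp only [pow_zero, mul_one] at hd
    simp only [Int.reducePow, pow_zero] at hq'
    have hl0 : l ≠ 0 := by
      rintro rfl
      simp only [pow_zero] at hd
      obtain ⟨k, rfl⟩ := Nat.exists_eq_succ_of_ne_zero hi0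
      rw [pow_succ] at hd
      omega
    have h1 := hdiv l ((dvd_neg).1 (by rwa [neg_sub]))
    have h2 : 2 ^ l ≤ 2 ^ i := by
      have := Nat.le_of_dvd (by positivity) hd
      omega
    have h3 := (Nat.pow_le_pow_iff_right (by norm_num)).1 h2
    refine ⟨?_, pow_zero 2, ?_⟩ <;> congr 1 <;> omega
  · exfalso
    have hl0 : l = 0 := by
      by_contra h
      exact absurd (Nat.eq_one_of_dvd_coprimes hc (dvd_pow_self 2 hj0) (dvd_pow_self 2 h)) (by norm_num)
    subst hl0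
    simp only [pow_zero] at hd hq'
    have h1 := (hdiv j hq').resolve_left hj0
    -- `2 ^ j + 1` divides `2 ^ i - 1`
    have h2 : ((2 : ℤ) ^ j + 1) ∣ (2 : ℤ) ^ i - 1 := by
      have h3 : ((2 : ℤ) ^ j + 1) ∣ (2 : ℤ) ^ i * 2 ^ j + 1 := by exact_mod_cast hd
      have := (dvd_mul_left ((2 : ℤ) ^ j + 1) ((2 : ℤ) ^ i)).sub h3
      rwa [show (2 : ℤ) ^ i * (2 ^ j + 1) - (2 ^ i * 2 ^ j + 1) = 2 ^ i - 1 by ring] at this
    have h4 : (2 : ℤ) ≤ 2 ^ i := le_self_pow₀ (by norm_num) hi0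
    have h5 : (2 : ℤ) ^ j < 2 ^ i := by have := Int.le_of_dvd (by omega) h2; omega
    have h6 : j < i := (pow_lt_pow_iff_right₀ (by norm_num)).1 h5
    omega

/-- If a group acts freely on a finite set, an invariant sum is a multiple of the order of the group. -/
theorem sum_of_free {K X : Type*} [Group K] [Fintype K] [MulAction K X] [Fintype X]
    (hfree : ∀ x : X, stabilizer K x = ⊥) (F : X → ℂ) (hF : ∀ (k : K) x, F (k • x) = F x)
    (hint : ∀ x, IsIntegral ℤ (F x)) :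
    ∃ w : ℂ, IsIntegral ℤ w ∧ ∑ x, F x = (Fintype.card K : ℂ) * w := by
  classical
  refine ⟨∑ ω : Quotient (orbitRel K X), F ω.out, IsIntegral.sum _ fun ω _ => hint _, ?_⟩
  rw [Finset.mul_sum, ← Finset.sum_fiberwise Finset.univ (fun x => (Quotient.mk'' x : Quotient (orbitRel K X))) F]
  refine Finset.sum_congr rfl fun ω _ => ?_
  have hm : ∀ x, (Quotient.mk'' x : Quotient (orbitRel K X)) = ω ↔ ∃ k : K, k • ω.out = x := by
    intro x
    rw [← Quotient.out_eq' ω, Quotient.eq'', orbitRel_apply, Quotient.out_eq']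
    exact mem_orbit_iff
  have hinj : Function.Injective fun k : K => k • ω.out := by
    intro k k' h
    have : k'⁻¹ * k ∈ stabilizer K ω.out := by
      rw [mem_stabilizer_iff, mul_smul]
      exact (congrArg (fun y => k'⁻¹ • y) h).trans (inv_smul_smul _ _)
    rw [hfree, Subgroup.mem_bot, inv_mul_eq_one] at this
    exact this.symm
  rw [show (Finset.univ.filter fun x => (Quotient.mk'' x : Quotient (orbitRel K X)) = ω) =
      Finset.univ.image fun k : K => k • ω.out from by ext x; simp [hm], Finset.sum_image hinj.injOn]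
  simp only [hF, Finset.sum_const, Finset.card_univ, nsmul_eq_mul]

variable {G : Type u} {Ω : Type v} [Group G] [MulAction G Ω] [Finite G] {a : Ω} {t : G}
  {Q : Subgroup G}

/-- The point stabiliser's regular subgroup is a two-group whose order is the cube of that of its centre. -/
structure CubeCtx (hS : IsRankOneSetup G Ω a t Q) (Z K : Subgroup G) (f : ℕ) : Prop where
  two_le : 2 ≤ f
  card_Z : Nat.card Z = 2 ^ f
  card_Q : Nat.card Q = (2 ^ f) ^ 3
  Z_le : Z ≤ Q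
  Z_central : ∀ z ∈ Z, ∀ x ∈ Q, z * x = x * z
  Z_sq : ∀ z ∈ Z, z * z = 1
  inv_Z : ∀ x ∈ Q, x * x = 1 → x ∈ Z
  sq_Z : ∀ x ∈ Q, x * x ∈ Z
  K_eq : (K : Set G) = invertedBy (D G a t) t
  card_K : Nat.card K + 1 = 2 ^ f
  fpf : ∀ k ∈ K, k ≠ 1 → ∀ x ∈ Q, k * x = x * k → x = 1

variable [Fintype Ω] [Fintype Q] {χ : stabilizer G a →* ℂˣ} {hS : IsRankOneSetup G Ω a t Q}
  {g m n f : ℕ} {α β : IrrCharacter G} {Z K : Subgroup G}

theorem lam_conj_K (hχ : IsTorusChar G a t Q χ) {k : G} (hk : k ∈ invertedBy (D G a t) t) {x : G} (hx : x ∈ Q)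
    (hx1 : x ≠ 1) : lam χ (hc hS (k * x * k⁻¹)) = lam χ (hc hS x) := by
  obtain ⟨hkD, hki⟩ := id hk
  have h' := (coords_conj hS hx hx1 hkD).2.1
  rw [t_inv hS] at hki
  rw [h', hki, lam_mul_right χ (Subgroup.mem_inf.1 (inv_mem hkD)).1,
    lam_mul_left χ (Subgroup.mem_inf.1 (inv_mem hkD)).1]
  have : k⁻¹ ∈ invertedBy (D G a t) t := ⟨inv_mem hkD, by
    rw [t_inv hS, inv_inv, ← hki]; simp only [mul_assoc, tt hS, hS.mul_self, mul_one]⟩
  rw [lam_K χ hS hχ this, one_mul, mul_one]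

/-- Gaussian integers divisible by an even number as algebraic integers. -/
theorem gaussian_dvd {A B : ℤ} {q : ℕ} (hq : 0 < q) {w : ℂ} (hw : IsIntegral ℤ w)
    (h : (A : ℂ) + B * Complex.I = q * w) : (q : ℤ) ∣ A ∧ (q : ℤ) ∣ B := by
  have hqC : (q : ℂ) ≠ 0 := Nat.cast_ne_zero.2 hq.ne'
  have hw' : IsIntegral ℤ (conj w) := hw.map ((starRingEnd ℂ).toIntAlgHom)
  have hI : IsIntegral ℤ Complex.I := IsIntegral.of_pow (n := 4) (by norm_num) (by
    rw [show Complex.I ^ 4 = (1 : ℂ) by simp [pow_succ]]; exact isIntegral_one)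
  have h' : (A : ℂ) - B * Complex.I = q * conj w := by
    have := congrArg conj h
    simpa [map_add, map_mul, map_intCast, map_natCast, sub_eq_add_neg] using this
  obtain ⟨a', ha⟩ := int_of_rat (x := w + conj w) (r := (2 * A : ℚ) / q) (by
    push_cast; rw [eq_div_iff hqC]; linear_combination -h - h') (hw.add hw')
  obtain ⟨b', hb⟩ := int_of_rat (x := Complex.I * (conj w - w)) (r := (2 * B : ℚ) / q) (by
    push_cast; rw [eq_div_iff hqC]
    linear_combination Complex.I * h - Complex.I * h' - 2 * (B : ℂ) * Complex.I_sq) (hI.mul (hw'.sub hw))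
  obtain ⟨c', hc'⟩ := int_of_rat (x := w * conj w) (r := ((A : ℚ) ^ 2 + B ^ 2) / q ^ 2) (by
    push_cast; rw [eq_div_iff (pow_ne_zero 2 hqC)]
    linear_combination -(q : ℂ) * conj w * h - ((A : ℂ) + B * Complex.I) * h' - (B : ℂ) ^ 2 * Complex.I_sq)
    (hw.mul hw')
  have hA : 2 * A = q * a' := by
    have : (2 : ℂ) * A = q * a' := by rw [← ha]; linear_combination h + h'
    exact_mod_cast this
  have hB : 2 * B = q * b' := by
    have : (2 : ℂ) * B = q * b' := by
      rw [← hb]; linear_combination -Complex.I * h + Complex.I * h' + 2 * (B : ℂ) * Complex.I_sq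
    exact_mod_cast this
  have hC : A ^ 2 + B ^ 2 = (q : ℤ) ^ 2 * c' := by
    have : (A : ℂ) ^ 2 + (B : ℂ) ^ 2 = (q : ℂ) ^ 2 * c' := by
      rw [← hc']
      linear_combination (q : ℂ) * conj w * h + ((A : ℂ) + B * Complex.I) * h' + (B : ℂ) ^ 2 * Complex.I_sq
    exact_mod_cast this
  have hq' : (q : ℤ) ≠ 0 := by exact_mod_cast hq.ne'
  have h4 : a' ^ 2 + b' ^ 2 = 4 * c' := mul_left_cancel₀ (pow_ne_zero 2 hq') (by
    linear_combination -(2 * A + q * a') * hA - (2 * B + q * b') * hB + 4 * hC)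
  have key : ∀ x : ℤ, Even x ∨ x ^ 2 % 4 = 1 := fun x => by
    rcases Int.even_or_odd x with h | ⟨k, rfl⟩
    · exact Or.inl h
    · right; ring_nf; omega
  have ha2 : Even a' := (key a').resolve_right fun h1 => by
    rcases key b' with ⟨k, rfl⟩ | h2
    · ring_nf at h4 h1; omega
    · omega
  obtain ⟨k, rfl⟩ := ha2
  have hb2 : Even b' := (key b').resolve_right fun h1 => by ring_nf at h4 h1; omega
  obtain ⟨l, rfl⟩ := hb2
  exact ⟨⟨k, by linarith⟩, ⟨l, by linarith⟩⟩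

/-- The value of a character at an element of order dividing four is a Gaussian integer. -/
theorem gaussian_value {φ : G → ℂ} (hφ : IsCharacter G φ) {x : G} (hx : x ^ 4 = 1) :
    ∃ A B : ℤ, φ x = (A : ℂ) + B * Complex.I := by
  obtain ⟨k, ρ, rfl⟩ := hφ
  obtain ⟨μ, hμ, htr, -⟩ := Char.exists_eigenvalues ρ x
  have h1 : ρ.character x = ∑ i, μ i := by simpa using htr 1
  have hi : ∀ i, ∃ A B : ℤ, μ i = (A : ℂ) + B * Complex.I := fun i => by
    have h4 : μ i ^ 4 = 1 := by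
      obtain ⟨c, hc⟩ := orderOf_dvd_of_pow_eq_one hx
      rw [hc, pow_mul, hμ i, one_pow]
    rcases sq_eq_one_iff.1 (show (μ i ^ 2) ^ 2 = 1 by rw [← pow_mul]; exact h4) with e | e
    · rcases sq_eq_one_iff.1 e with e | e
      · exact ⟨1, 0, by simp [e]⟩
      · exact ⟨-1, 0, by simp [e]⟩
    · rcases sq_eq_sq_iff_eq_or_eq_neg.1 (e.trans Complex.I_sq.symm) with e | e
      · exact ⟨0, 1, by simp [e]⟩
      · exact ⟨0, -1, by simp [e]⟩
  choose A B hAB using hi
  exact ⟨∑ i, A i, ∑ i, B i, by rw [h1]; simp only [hAB, Finset.sum_add_distrib, ← Finset.sum_mul]; push_cast; rfl⟩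

variable (hH : IsHecke χ hS g m n α β) (hχ : IsTorusChar G a t Q χ) (hC : CubeCtx hS Z K f)

include hH hχ hC

theorem cube_K_dvd : ((2 : ℤ) ^ f - 1) ∣ (g : ℤ) * ((m : ℤ) - n) := by
  classical
  haveI := Fintype.ofFinite K
  have hKD : ∀ k : K, (k : G) ∈ invertedBy (D G a t) t := fun k => by
    rw [← hC.K_eq]; exact k.2
  let X := {x : Q // (x : G) ≠ 1}
  letI : MulAction K X :=
    { smul := fun k x => ⟨⟨(k : G) * ((x.1 : Q) : G) * (k : G)⁻¹,
          R1.conj_Q hS (Subgroup.mem_inf.1 (hKD k).1).1 x.1.2⟩, fun h => x.2 (conj_eq_one_iff.1 h)⟩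
      one_smul := fun x => Subtype.ext (Subtype.ext (by
        show ((1 : K) : G) * _ * ((1 : K) : G)⁻¹ = _; simp))
      mul_smul := fun k k' x => Subtype.ext (Subtype.ext (by
        show ((k * k' : K) : G) * _ * ((k * k' : K) : G)⁻¹ = (k : G) * ((k' : G) * _ * (k' : G)⁻¹) * (k : G)⁻¹
        simp [mul_assoc])) }
  obtain ⟨w, hw, he⟩ := sum_of_free (K := K) (X := X) (fun x => by
      rw [Subgroup.eq_bot_iff_forall]
      intro k hk
      have h1 : (k : G) * ((x.1 : Q) : G) * (k : G)⁻¹ = ((x.1 : Q) : G) :=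
        congrArg (fun y : X => ((y.1 : Q) : G)) hk
      by_contra hne
      exact x.2 (hC.fpf k k.2 (fun e => hne (Subtype.ext e)) _ x.1.2 (mul_inv_eq_iff_eq_mul.1 h1)))
    (fun x => lam χ (hc hS ((x.1 : Q) : G)))
    (fun k x => lam_conj_K hχ (hKD k) x.1.2 x.2)
    (fun x => IsIntegral.of_pow (n := Nat.card (D G a t)) Nat.card_pos (lam_pow (hS := hS) hχ x.1.2 x.2 ▸ isIntegral_one))
  have hA : heckeA χ hS = ∑ x : X, lam χ (hc hS ((x.1 : Q) : G)) := by
    rw [heckeA, Finset.sum_ite, Finset.sum_const_zero, zero_add]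
    exact Finset.sum_subtype _ (fun x => by simp) _
  rw [← hA, heckeA_eq hH hχ, ← Nat.card_eq_fintype_card] at he
  have hK : (Nat.card K : ℂ) = (((2 : ℤ) ^ f - 1 : ℤ) : ℂ) := by
    have : ((Nat.card K : ℤ)) = (2 : ℤ) ^ f - 1 := by
      have : ((Nat.card K : ℤ)) + 1 = (2 : ℤ) ^ f := by exact_mod_cast hC.card_K
      linarith
    rw [← this]; norm_cast
  rw [hK] at he
  have hne : (((2 : ℤ) ^ f - 1 : ℤ) : ℂ) ≠ 0 := by
    rw [← hK]; exact Nat.cast_ne_zero.2 Nat.card_pos.ne'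
  obtain ⟨z, hz⟩ := int_of_rat (x := w) (r := ((g : ℤ) * ((m : ℤ) - n) : ℤ) / (((2 : ℤ) ^ f - 1 : ℤ) : ℚ)) (by
    rw [Rat.cast_div, Rat.cast_intCast, Rat.cast_intCast, eq_div_iff hne, he]; ring) hw
  exact ⟨z, by rw [hz] at he; exact_mod_cast he⟩

theorem cube_params (hgn : g * n ≠ 1) : g = 2 ^ f ∧ m = 1 ∧ n = 2 ^ f := by
  refine cube_arith hC.two_le (hH.card.trans hC.card_Q) hH.cop ?_ hH.dvd (cube_K_dvd hH hχ hC)
  obtain ⟨s, hsQ, hs1, hs2⟩ := R1.exists_inv hS
  exact prime_dvd_g hH hχ hgn Nat.prime_two hsQ (orderOf_eq_prime (by rw [pow_two, hs2]) hs1)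
    (fun y hy => hC.Z_central s (hC.inv_Z s hsQ hs2) y hy)
    (fun h => Nat.not_even_iff_odd.2 hS.odd_card (even_iff_two_dvd.2 h))

/-- The linear part: on the non-central elements the average of `β` over the centre is one. -/
theorem cube_avg (hgn : g * n ≠ 1) {x : G} (hx : x ∈ Q) :
    ∑ z ∈ (Set.toFinite (Z : Set G)).toFinset, (β : G → ℂ) (x * z) = (2 : ℂ) ^ f := by
  classical
  haveI := Fintype.ofFinite Z
  obtain ⟨hg, hm, hn⟩ := cube_params hH hχ hC hgn
  set q : ℂ := (2 : ℂ) ^ f with hq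
  have hq0 : q ≠ 0 := pow_ne_zero _ two_ne_zero
  obtain ⟨d, ρ, hρ, hρe⟩ := id β.2
  let M : Q →* Matrix (Fin d) (Fin d) ℂ :=
    (LinearMap.toMatrixAlgEquiv' : ((Fin d → ℂ) →ₗ[ℂ] (Fin d → ℂ)) ≃ₐ[ℂ] _).toMonoidHom.comp (ρ.comp Q.subtype)
  have hMtr : ∀ y : Q, (M y).trace = (β : G → ℂ) y := by
    intro y
    rw [← hρe]
    show (LinearMap.toMatrixAlgEquiv' (ρ y)).trace = LinearMap.trace ℂ _ (ρ y)
    rw [← Matrix.trace_toLin'_eq]
    congr 1
    exact LinearMap.toMatrix'.symm_apply_apply _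
  set zQ : Z → Q := fun z => ⟨z, hC.Z_le z.2⟩ with hzQ
  set E : Matrix (Fin d) (Fin d) ℂ := q⁻¹ • ∑ z : Z, M (zQ z) with hE
  have hcardZ : (Fintype.card Z : ℂ) = q := by
    rw [← Nat.card_eq_fintype_card, hC.card_Z, hq]; norm_cast
  have habs : ∀ z : Z, M (zQ z) * ∑ z : Z, M (zQ z) = ∑ z : Z, M (zQ z) := by
    intro z
    rw [Finset.mul_sum]
    simp only [← map_mul]
    exact Fintype.sum_equiv (Equiv.mulLeft z) _ _ fun z' => rfl
  have hEE : E * E = E := by
    rw [hE, smul_mul_assoc, mul_smul_comm, smul_smul, Finset.sum_mul, Finset.sum_congr rfl fun z _ => habs z,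
      Finset.sum_const, Finset.card_univ, ← Nat.cast_smul_eq_nsmul ℂ, smul_smul, hcardZ, mul_assoc,
      inv_mul_cancel₀ hq0, mul_one]
  have hEc : ∀ y : Q, M y * E = E * M y := fun y => by
    rw [hE, mul_smul_comm, smul_mul_assoc, Finset.mul_sum, Finset.sum_mul]
    simp only [← map_mul]
    congr 1
    exact Finset.sum_congr rfl fun z _ => congrArg M (Subtype.ext (hC.Z_central z z.2 y y.2).symm)
  have hchar := isCharacter_idem M E hEE hEc
  have hev : ∀ y : Q, (M y * E).trace = q⁻¹ * ∑ z : Z, (β : G → ℂ) ((y : G) * z) := fun y => by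
    rw [hE, mul_smul_comm, Matrix.trace_smul, Finset.mul_sum, Matrix.trace_sum, smul_eq_mul]
    simp only [← map_mul, hMtr]
    rfl
  have hβz : ∀ z : Z, z ≠ 1 → (β : G → ℂ) z = 1 - q := by
    intro z hz
    have := (val_inv hH hχ (R1.fix_a hS (hC.Z_le z.2)) (fun e => hz (Subtype.ext e)) (hC.Z_sq z z.2)).2
    rw [hg, hm, hn] at this
    push_cast at this
    rw [← hq] at this
    have h1 : (1 : ℂ) + q ≠ 0 := by
      rw [hq]
      exact_mod_cast (show 1 + 2 ^ f ≠ 0 by positivity)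
    refine mul_left_cancel₀ h1 ?_
    linear_combination this
  have hβ1 : (β : G → ℂ) 1 = q ^ 2 - q + 1 := by
    have := (val_one hH hχ).2
    rw [hm, hn, hC.card_Q] at this
    push_cast at this
    rw [← hq] at this
    have h1 : (1 : ℂ) + q ≠ 0 := by
      rw [hq]
      exact_mod_cast (show 1 + 2 ^ f ≠ 0 by positivity)
    refine mul_left_cancel₀ h1 ?_
    linear_combination this
  have hdeg : (M 1 * E).trace = 1 := by
    rw [hev]
    simp only [OneMemClass.coe_one, one_mul]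
    rw [← Finset.add_sum_erase _ _ (Finset.mem_univ (1 : Z)), OneMemClass.coe_one, hβ1,
      Finset.sum_congr rfl fun z hz => hβz z (Finset.ne_of_mem_erase hz), Finset.sum_const,
      Finset.card_erase_of_mem (Finset.mem_univ _), Finset.card_univ, nsmul_eq_mul,
      Nat.cast_sub (Fintype.card_pos (α := Z)), hcardZ, Nat.cast_one]
    field_simp
    ring
  obtain ⟨e, he⟩ := Char.exists_hom_of_degree_one hchar hdeg
  have heq : ∀ y : Q, (e y : ℂ) = q⁻¹ * ∑ z : Z, (β : G → ℂ) ((y : G) * z) := fun y =>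
    (congrFun he y).symm.trans (hev y)
  -- invariance under `K`
  obtain ⟨k, hkK, hk1⟩ : ∃ k ∈ K, k ≠ 1 := by
    by_contra h
    push Not at h
    have h1 := hC.card_K
    rw [show K = ⊥ from (Subgroup.eq_bot_iff_forall K).2 h, Subgroup.card_bot] at h1
    have : 4 ≤ 2 ^ f := Nat.pow_le_pow_right (show 0 < 2 by norm_num) hC.two_le
    omega
  have hkI : k ∈ invertedBy (D G a t) t := hC.K_eq ▸ hkK
  have hka : k ∈ stabilizer G a := (Subgroup.mem_inf.1 hkI.1).1
  have hcls := Char.isClassFunction_character (Char.irr_isCharacter β.2)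
  have hinv : ∀ y : Q, e ⟨k * (y : G) * k⁻¹, R1.conj_Q hS hka y.2⟩ = e y := by
    intro y
    refine Units.ext ?_
    rw [heq, heq]
    congr 1
    have hkZ : ∀ z : Z, k * (z : G) * k⁻¹ ∈ Z := fun z => by
      refine hC.inv_Z _ (R1.conj_Q hS hka (hC.Z_le z.2)) ?_
      rw [show k * (z : G) * k⁻¹ * (k * z * k⁻¹) = k * ((z : G) * z) * k⁻¹ by group, hC.Z_sq z z.2]; group
    refine (Fintype.sum_bijective (fun z : Z => (⟨k * (z : G) * k⁻¹, hkZ z⟩ : Z)) ?_ _ _ fun z => ?_).symm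
    · rw [Finite.injective_iff_bijective.symm]
      intro z z' h
      exact Subtype.ext (mul_left_cancel (mul_right_cancel (congrArg Subtype.val h :)))
    · show (β : G → ℂ) ((y : G) * z) = (β : G → ℂ) (k * y * k⁻¹ * (k * z * k⁻¹))
      rw [show k * (y : G) * k⁻¹ * (k * z * k⁻¹) = k * (y * z) * k⁻¹ by group, hcls]
  have htriv : ∀ y : Q, e y = 1 := by
    intro y
    let c : Q → Q := fun u => u⁻¹ * ⟨k * (u : G) * k⁻¹, R1.conj_Q hS hka u.2⟩
    have hbij : Function.Bijective c := by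
      refine Finite.injective_iff_bijective.1 fun u u' h => ?_
      have h' : (u : G)⁻¹ * (k * u * k⁻¹) = (u' : G)⁻¹ * (k * u' * k⁻¹) := congrArg Subtype.val h
      have h2 : k * ((u' : G) * (u : G)⁻¹) = (u' : G) * (u : G)⁻¹ * k := by
        have := congrArg (fun y : G => (u' : G) * y * (k * (u : G)⁻¹)) h'
        simp only [mul_assoc, mul_inv_cancel_left, inv_mul_cancel_left, mul_inv_cancel, mul_one] at this
        simpa only [mul_assoc] using this.symm
      exact Subtype.ext (mul_inv_eq_one.1 (hC.fpf k hkK hk1 _ (mul_mem u'.2 (inv_mem u.2)) h2)).symm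
    obtain ⟨u, rfl⟩ := hbij.2 y
    rw [map_mul, map_inv, hinv, inv_mul_cancel]
  have := heq ⟨x, hx⟩
  rw [htriv, Units.val_one, eq_inv_mul_iff_mul_eq₀ hq0, mul_one] at this
  rw [this]
  exact Finset.sum_subtype _ (fun z => Set.Finite.mem_toFinset _) _

/-- **The values off the centre.** -/
theorem cube_off_centre (hgn : g * n ≠ 1) {x : G} (hx : x ∈ Q) (hxZ : x ∉ Z) :
    (β : G → ℂ) x = 1 ∧ (∀ z ∈ Z, ∃ y ∈ Q, y⁻¹ * x * y = x * z) ∧
      ∑ z ∈ (Set.toFinite (Z : Set G)).toFinset, lam χ (hc hS (x * z)) = -1 := by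
  classical
  haveI := Fintype.ofFinite Z
  obtain ⟨hg, hm, hn⟩ := cube_params hH hχ hC hgn
  set q : ℕ := 2 ^ f with hq
  have hq4 : 4 ≤ q := Nat.pow_le_pow_right (show 0 < 2 by norm_num) hC.two_le
  have hxz : ∀ z ∈ Z, x * z ∈ Q ∧ x * z ≠ 1 ∧ x * z ∉ Z := fun z hz => by
    have h : x * z ∉ Z := fun h => hxZ (by simpa using mul_mem h (inv_mem hz))
    exact ⟨mul_mem hx (hC.Z_le hz), fun e => h (e ▸ one_mem Z), h⟩
  -- the commutator map
  have key : ∀ x ∈ Q, x ∉ Z → ∃ c : Q →* Z, (∀ y : Q, (y : G)⁻¹ * x * y = x * (c y : G)) := by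
    intro x hx _
    have hmem : ∀ y : Q, x⁻¹ * (y : G)⁻¹ * x * y ∈ Z := fun y => by
      have e : x⁻¹ * (y : G)⁻¹ * x * y =
          x⁻¹ * x⁻¹ * ((x * (y : G)⁻¹) * (x * (y : G)⁻¹)) * ((y : G) * y) := by group
      rw [e, ← _root_.mul_inv_rev]
      exact mul_mem (mul_mem (inv_mem (hC.sq_Z x hx)) (hC.sq_Z _ (mul_mem hx (inv_mem y.2)))) (hC.sq_Z _ y.2)
    refine ⟨MonoidHom.mk' (fun y => (⟨x⁻¹ * (y : G)⁻¹ * x * y, hmem y⟩ : Z)) fun y y' => Subtype.ext ?_,
      fun y => by simp [mul_assoc]⟩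
    show x⁻¹ * ((y : G) * y')⁻¹ * x * ((y : G) * y') =
      (x⁻¹ * (y : G)⁻¹ * x * y) * (x⁻¹ * (y' : G)⁻¹ * x * y')
    have h1 := hC.Z_central _ (hmem y) (y' : G) y'.2
    calc x⁻¹ * ((y : G) * y')⁻¹ * x * ((y : G) * y')
        = (x⁻¹ * (y' : G)⁻¹ * x) * ((x⁻¹ * (y : G)⁻¹ * x * y) * y') := by group
      _ = (x⁻¹ * (y' : G)⁻¹ * x * y') * (x⁻¹ * (y : G)⁻¹ * x * y) := by rw [h1]; group
      _ = _ := (hC.Z_central _ (hmem y') _ (hC.Z_le (hmem y))).trans rfl
  have hval : ∀ x ∈ Q, x ∉ Z → ∀ c : Q →* Z, (∀ y : Q, (y : G)⁻¹ * x * y = x * (c y : G)) →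
      ((q * (q + 1) : ℕ) : ℂ) * (β : G → ℂ) x =
        q - (Nat.card c.ker : ℂ) * ∑ z ∈ (c.range : Set Z).toFinite.toFinset, lam χ (hc hS (x * (z : G))) := by
    intro x hx hxZ c hc'
    have h1 := (val_Q hH hχ hx (fun e => hxZ (e ▸ one_mem Z))).2
    rw [hg, hm, hn] at h1
    simp only [hc'] at h1
    rw [show 2 ^ f * (1 + 2 ^ f) = q * (q + 1) by rw [hq]; ring, mul_one] at h1
    rw [h1, sub_right_inj, Finset.mul_sum,
      ← Finset.sum_fiberwise_of_maps_to (s := Finset.univ) (t := (c.range : Set Z).toFinite.toFinset) (g := c)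
        (fun y _ => (Set.Finite.mem_toFinset _).2 ⟨y, rfl⟩)]
    refine Finset.sum_congr rfl fun z hz => ?_
    obtain ⟨y₀, rfl⟩ := (Set.Finite.mem_toFinset _).1 hz
    rw [Finset.sum_congr rfl fun y hy => by rw [(Finset.mem_filter.1 hy).2], Finset.sum_const, nsmul_eq_mul]
    congr 2
    rw [Nat.card_eq_fintype_card, ← Finset.card_univ]
    refine Finset.card_bij (fun y hy => ⟨y₀⁻¹ * y, by
        rw [MonoidHom.mem_ker, map_mul, map_inv, (Finset.mem_filter.1 hy).2, inv_mul_cancel]⟩)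
      (fun _ _ => Finset.mem_univ _) (fun y _ y' _ h => mul_left_cancel (congrArg Subtype.val h :))
      fun k _ => ⟨y₀ * (k : Q), Finset.mem_filter.2 ⟨Finset.mem_univ _, by
        rw [map_mul, MonoidHom.mem_ker.1 k.2, mul_one]⟩, Subtype.ext (inv_mul_cancel_left _ _)⟩
  have hker : ∀ c : Q →* Z, ∃ i : ℕ, Nat.card c.ker = q ^ 2 * i ∧ (i = 1 → c.range = ⊤) := by
    intro c
    have h1 := Subgroup.card_mul_index c.ker
    rw [Subgroup.index_ker, hC.card_Q, ← hq] at h1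
    obtain ⟨i, hi⟩ : Nat.card c.range ∣ q := by
      have := Subgroup.card_subgroup_dvd_card c.range
      rwa [hC.card_Z, ← hq] at this
    refine ⟨i, Nat.eq_of_mul_eq_mul_right (Nat.card_pos (α := c.range)) (h1.trans ?_), fun hi1 => ?_⟩
    · rw [show q ^ 2 * i * Nat.card c.range = q ^ 2 * (Nat.card c.range * i) by ring, ← hi]; ring
    · exact Subgroup.eq_top_of_card_eq _ (by rw [hC.card_Z, ← hq, hi, hi1, mul_one])
  have hLint : ∀ x ∈ Q, x ∉ Z → ∀ c : Q →* Z,
      IsIntegral ℤ (∑ z ∈ (c.range : Set Z).toFinite.toFinset, lam χ (hc hS (x * (z : G)))) := by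
    intro x hx hxZ c
    refine IsIntegral.sum _ fun z _ => ?_
    have h : x * (z : G) ∈ Q ∧ x * (z : G) ≠ 1 := ⟨mul_mem hx (hC.Z_le z.2), fun e => hxZ (by
      rw [eq_inv_of_mul_eq_one_left e]; exact inv_mem z.2)⟩
    exact IsIntegral.of_pow (n := Nat.card (D G a t)) Nat.card_pos (lam_pow (hS := hS) hχ h.1 h.2 ▸ isIntegral_one)
  -- each value is 1 or 1 - q
  have hcases : ∀ x ∈ Q, x ∉ Z → (β : G → ℂ) x = 1 ∨ (β : G → ℂ) x = 1 - q := by
    intro x hx hxZ
    obtain ⟨c, hc'⟩ := key x hx hxZ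
    have h1 := hval x hx hxZ c hc'
    obtain ⟨i, hi, -⟩ := hker c
    have h4 : x ^ 4 = 1 := by
      rw [show x ^ 4 = x * x * (x * x) by simp [pow_succ, mul_assoc]]
      exact hC.Z_sq _ (hC.sq_Z x hx)
    obtain ⟨A, B, hAB⟩ := gaussian_value (Char.irr_isCharacter β.2) h4
    set L := ∑ z ∈ (c.range : Set Z).toFinite.toFinset, lam χ (hc hS (x * (z : G))) with hL
    rw [hi, hAB] at h1
    push_cast at h1
    have hqC : (q : ℂ) ≠ 0 := Nat.cast_ne_zero.2 (by omega)
    obtain ⟨hA, hB⟩ := gaussian_dvd (A := A - 1) (B := B) (show 0 < q by omega)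
      (w := -((A : ℂ) + B * Complex.I) - (i : ℂ) * L)
      (((isIntegral_algebraMap (R := ℤ) (A := ℂ) (x := A)).add ((isIntegral_algebraMap (R := ℤ) (A := ℂ) (x := B)).mul
        (IsIntegral.of_pow (n := 4) (by norm_num) (by
          rw [show Complex.I ^ 4 = (1 : ℂ) by simp [pow_succ]]; exact isIntegral_one)))).neg.sub
        ((isIntegral_algebraMap (R := ℤ) (A := ℂ) (x := (i : ℤ))).mul (hLint x hx hxZ c)))
      (by
        refine mul_left_cancel₀ hqC ?_
        push_cast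
        linear_combination h1)
    have hbound : ‖(A : ℂ) + B * Complex.I‖ < q := by
      have h2 := (val_Q hH hχ hx (fun e => hxZ (e ▸ one_mem Z))).2
      rw [hg, hm, hn, show 2 ^ f * (1 + 2 ^ f) = q * (q + 1) by rw [hq]; ring, mul_one, hAB] at h2
      have h3 : ‖((q * (q + 1) : ℕ) : ℂ) * ((A : ℂ) + B * Complex.I)‖ ≤ q + (q : ℝ) ^ 3 := by
        rw [h2]
        refine (norm_sub_le _ _).trans (add_le_add (Complex.norm_natCast q).le ?_)
        refine (norm_sum_le _ _).trans ?_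
        rw [Finset.sum_congr rfl fun y _ => lam_norm (hS := hS) hχ (mul_mem (mul_mem (inv_mem y.2) hx) y.2)
          (fun e => hxZ (by
            have := congrArg (fun z => (y : G) * z * (y : G)⁻¹) e
            simp only [mul_assoc, mul_inv_cancel, mul_inv_cancel_left, mul_one, inv_mul_cancel_left] at this
            rw [this]; exact one_mem Z)), Finset.sum_const, Finset.card_univ, nsmul_one,
          ← Nat.card_eq_fintype_card, hC.card_Q]
        rw [hq]; push_cast; rfl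
      rw [norm_mul, Complex.norm_natCast] at h3
      push_cast at h3
      have hqR : (4 : ℝ) ≤ q := by exact_mod_cast hq4
      by_contra hlt
      push Not at hlt
      nlinarith [mul_le_mul_of_nonneg_left hlt (show (0 : ℝ) ≤ (q : ℝ) * (q + 1) by positivity)]
    have hsq : A ^ 2 + B ^ 2 < (q : ℤ) ^ 2 := by
      have h2 : ‖(A : ℂ) + B * Complex.I‖ ^ 2 < (q : ℝ) ^ 2 := pow_lt_pow_left₀ hbound (norm_nonneg _) two_ne_zero
      rw [← Complex.normSq_eq_norm_sq, Complex.normSq_apply] at h2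
      simp at h2
      have h2' : (A : ℝ) ^ 2 + (B : ℝ) ^ 2 < (q : ℝ) ^ 2 := by linarith [pow_two (A : ℝ), pow_two (B : ℝ)]
      exact_mod_cast h2'
    obtain ⟨l, rfl⟩ := hB
    obtain ⟨j, hj⟩ := hA
    rw [show A = 1 + (q : ℤ) * j by omega] at hsq hAB
    have hl : l = 0 := by
      by_contra hl
      nlinarith [mul_self_pos.2 hl, sq_nonneg (1 + (q : ℤ) * j), sq_nonneg ((q : ℤ))]
    subst hl
    have hj' : j = 0 ∨ j = -1 := by
      by_contra hne
      push Not at hne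
      have hqZ : (4 : ℤ) ≤ q := by exact_mod_cast hq4
      rcases lt_or_gt_of_ne hne.1 with h | h
      · have h2 : (q : ℤ) * j ≤ q * (-2) := mul_le_mul_of_nonneg_left (by omega) (by omega)
        nlinarith
      · have h2 : (q : ℤ) * 1 ≤ q * j := mul_le_mul_of_nonneg_left (by omega) (by omega)
        nlinarith
    rw [hAB]
    rcases hj' with rfl | rfl
    · left; push_cast; ring
    · right; push_cast; ring
  have havg := cube_avg hH hχ hC hgn hx
  set s := (Set.toFinite (Z : Set G)).toFinset with hs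
  have hone : ∀ z ∈ s, (β : G → ℂ) (x * z) = 1 := by
    intro z hz
    have hmem : ∀ y ∈ s, x * y ∈ Q ∧ x * y ∉ Z := fun y hy =>
      ⟨(hxz y ((Set.Finite.mem_toFinset _).1 hy)).1, (hxz y ((Set.Finite.mem_toFinset _).1 hy)).2.2⟩
    have hre : ∀ y ∈ s, 0 ≤ 1 - ((β : G → ℂ) (x * y)).re := fun y hy => by
      rcases hcases _ (hmem y hy).1 (hmem y hy).2 with e | e <;> simp [e]
    have h0 : ∑ y ∈ s, (1 - ((β : G → ℂ) (x * y)).re) = 0 := by
      rw [Finset.sum_sub_distrib, ← Complex.re_sum, havg, Finset.sum_const, nsmul_one]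
      have : s.card = 2 ^ f := by
        rw [hs, ← Nat.card_eq_card_finite_toFinset]; exact hC.card_Z
      rw [this, ← hq, show (2 : ℂ) ^ f = ((q : ℕ) : ℂ) by rw [hq]; push_cast; rfl, Complex.natCast_re, sub_self]
    rcases hcases _ (hmem z hz).1 (hmem z hz).2 with e | e
    · exact e
    · exfalso
      have := (Finset.sum_eq_zero_iff_of_nonneg hre).1 h0 z hz
      rw [e] at this
      simp only [Complex.sub_re, Complex.one_re, Complex.natCast_re, sub_sub_cancel] at this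
      exact absurd this (Nat.cast_ne_zero.2 (by omega))
  have hb : (β : G → ℂ) x = 1 := by simpa using hone 1 ((Set.Finite.mem_toFinset _).2 (one_mem Z))
  obtain ⟨c, hc'⟩ := key x hx hxZ
  have h1 := hval x hx hxZ c hc'
  obtain ⟨i, hi, hitop⟩ := hker c
  rw [hb, hi] at h1
  set L := ∑ z ∈ (c.range : Set Z).toFinite.toFinset, lam χ (hc hS (x * (z : G))) with hL
  have h2 : (i : ℂ) * L = -1 := by
    push_cast at h1
    refine mul_left_cancel₀ (pow_ne_zero 2 (Nat.cast_ne_zero.2 (by omega : q ≠ 0)) : ((q : ℂ) ^ 2) ≠ 0) ?_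
    linear_combination h1
  have hi1 : i = 1 := by
    have hi0 : i ≠ 0 := fun e => by rw [e, Nat.cast_zero, zero_mul] at h2; norm_num at h2
    exact Nat.dvd_one.1 (Char.OddCent.dvd_of_eq_mul hi0 (hLint x hx hxZ c).neg (by
      rw [mul_neg, h2, neg_neg, Nat.cast_one]))
  have htop := hitop hi1
  refine ⟨hb, fun z hz => ?_, ?_⟩
  · obtain ⟨y, hy⟩ : (⟨z, hz⟩ : Z) ∈ c.range := htop ▸ Subgroup.mem_top _
    exact ⟨y, y.2, by rw [hc', hy]⟩
  · rw [hi1, Nat.cast_one, one_mul] at h2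
    rw [← h2, hL]
    refine (Finset.sum_bij (fun (z : Z) _ => (z : G)) (fun z _ => (Set.Finite.mem_toFinset _).2 z.2)
      (fun _ _ _ _ h => Subtype.ext h) (fun z hz => ⟨⟨z, (Set.Finite.mem_toFinset _).1 hz⟩,
        (Set.Finite.mem_toFinset _).2 (htop ▸ Subgroup.mem_top _), rfl⟩) fun _ _ => rfl).symm

end Cfsg.Agent.Lie.R1C
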