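import Cfsg.Agent.Lib.Lie.SplitRankOne.Hecke
import Cfsg.Agent.S0165
import Cfsg.Agent.Lib.Char.OddCentralizerDefectZero
import Cfsg.Agent.Lib.Char.DegreeDvd

/-!
Values and arithmetic of the two constituents of the monomial character.
-/

set_option autoImplicit false
set_option linter.unusedSectionVars false
set_option linter.unusedSimpArgs false
set_option linter.style.haveILetI false

namespace Cfsg.Agent.Lie.R1C

open Cfsg MulAction
open Cfsg.Agent.Lie.R1 (D tt t_inv tDt)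
open scoped ComplexConjugate

universe u v

/-- A root of unity of odd order congruent to one modulo `M ≥ 2` is one. -/
theorem eq_one_of_congr {ζ : ℂ} {k M : ℕ} (hk : Odd k) (hζ : ζ ^ k = 1) (hM : 2 ≤ M) {w : ℂ}
    (hw : IsIntegral ℤ w) (h : ζ - 1 = M * w) : ζ = 1 := by
  by_contra hne
  set r := orderOf ζ with hr
  have hrk : r ∣ k := orderOf_dvd_of_pow_eq_one hζ
  have hrodd : Odd r := hk.of_dvd_nat hrk
  have hprim : IsPrimitiveRoot ζ r := IsPrimitiveRoot.orderOf ζ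
  have hr1 : r ≠ 1 := fun e => hne (orderOf_eq_one_iff.1 (hr ▸ e))
  obtain ⟨j, hj⟩ := Nat.exists_eq_succ_of_ne_zero hrodd.pos.ne'
  have hζi : IsIntegral ℤ ζ := hprim.isIntegral hrodd.pos
  have hprod : ∏ i ∈ Finset.range j, (1 - ζ ^ (i + 1)) = ((j + 1 : ℕ) : ℂ) := by
    rw [hj] at hprim
    have e := hprim.prod_one_sub_pow_eq_order
    exact_mod_cast e
  have hfac : ∀ i : ℕ, 1 - ζ ^ (i + 1) = (M : ℂ) * (-w * ∑ l ∈ Finset.range (i + 1), ζ ^ l) := by
    intro i
    rw [← neg_sub (ζ ^ (i + 1)) 1, ← geom_sum_mul ζ (i + 1), h]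
    ring
  rw [Finset.prod_congr rfl fun i _ => hfac i, Finset.prod_mul_distrib, Finset.prod_const,
    Finset.card_range, ← Nat.cast_pow] at hprod
  have hint : IsIntegral ℤ (∏ i ∈ Finset.range j, -w * ∑ l ∈ Finset.range (i + 1), ζ ^ l) :=
    IsIntegral.prod _ fun i _ => hw.neg.mul (IsIntegral.sum _ fun l _ => hζi.pow l)
  have hd : M ^ j ∣ j + 1 :=
    Char.OddCent.dvd_of_eq_mul (pow_ne_zero _ (by omega)) hint hprod.symm
  have h1 : 2 ^ j ≤ j + 1 := le_trans (Nat.pow_le_pow_left hM j) (Nat.le_of_dvd (by omega) hd)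
  have h2 : j < 2 := by
    by_contra h3
    obtain ⟨i, rfl⟩ : ∃ i, j = i + 2 := ⟨j - 2, by omega⟩
    have := Nat.lt_two_pow_self (n := i)
    rw [show 2 ^ (i + 2) = 4 * 2 ^ i by ring] at h1
    omega
  rcases Nat.lt_succ_iff.1 h2 |>.eq_or_lt with h3 | h3
  · exact (Nat.not_even_iff_odd.2 hrodd) ⟨1, by omega⟩
  · exact hr1 (by omega)

variable {G : Type u} {Ω : Type v} [Group G] [MulAction G Ω] [Finite G] [Fintype Ω] {a : Ω} {t : G}
  {Q : Subgroup G} [Fintype Q] {χ : stabilizer G a →* ℂˣ} {hS : IsRankOneSetup G Ω a t Q}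
  {g m n : ℕ} {α β : IrrCharacter G}

theorem lam_inv_fix (hS : IsRankOneSetup G Ω a t Q) (hχ : IsTorusChar G a t Q χ) {s : G} (hs : s • a = a)
    (hs1 : s ≠ 1) (hs2 : s * s = 1) : lam χ (hc hS s) = 1 := by
  obtain ⟨s₀, r, e0, e1, e2, hr, hre⟩ := R1.exists_pair hS
  have hQ := R1.inv_mem_Q hS e0 e2
  obtain ⟨-, h2, -⟩ := coords_unique hS hQ e1 (inv_mem hr) (one_mem (D G a t)) hr (by rw [mul_one]; exact hre)
  obtain ⟨k, hk, rfl⟩ := R1.K_trans hS e0 e1 e2 hs hs1 hs2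
  obtain ⟨hkD, hki⟩ := id hk
  rw [t_inv hS] at hki
  have e := (coords_conj hS hQ e1 (inv_mem hkD)).2.1
  rw [h2, mul_one, inv_inv] at e
  rw [e, show t * k⁻¹ * t = k by rw [← hki]; simp only [mul_assoc, tt hS, hS.mul_self, mul_one],
    lam_mul_left χ (Subgroup.mem_inf.1 hkD).1, lam_K χ hS hχ hk, one_mul]

variable (hH : IsHecke χ hS g m n α β) (hχ : IsTorusChar G a t Q χ)

include hH hχ

theorem val_one : ((m + n : ℕ) : ℂ) * (α : G → ℂ) 1 = (n * (Nat.card Q + 1) : ℕ) ∧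
    ((m + n : ℕ) : ℂ) * (β : G → ℂ) 1 = (m * (Nat.card Q + 1) : ℕ) := by
  classical
  have hg : (g : ℂ) ≠ 0 := Nat.cast_ne_zero.2 hH.g_pos.ne'
  have h := hH.eqα 1
  have h' := hH.add 1
  rw [trace_monM_one χ hS hχ] at h h'
  rw [monM_one χ hS hχ, one_mul, trace_opT χ hS hχ] at h
  push_cast at h ⊢
  constructor
  · refine mul_left_cancel₀ hg ?_
    linear_combination h
  · refine mul_left_cancel₀ hg ?_
    linear_combination -h + (g : ℂ) * ((m : ℂ) + n) * h'

theorem val_Q {x : G} (hx : x ∈ Q) (hx1 : x ≠ 1) :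
    ((g * (m + n) : ℕ) : ℂ) * (α : G → ℂ) x = (∑ y : Q, lam χ (hc hS ((y : G)⁻¹ * x * y))) + (g * n : ℕ) ∧
      ((g * (m + n) : ℕ) : ℂ) * (β : G → ℂ) x = (g * m : ℕ) - ∑ y : Q, lam χ (hc hS ((y : G)⁻¹ * x * y)) := by
  have h := hH.eqα x
  have h' := hH.add x
  rw [trace_monM_Q χ hS hχ hx hx1] at h h'
  rw [trace_opT_Q χ hS hχ hx hx1, mul_one] at h
  refine ⟨h, ?_⟩
  push_cast at h ⊢
  linear_combination -h + (g : ℂ) * ((m : ℂ) + n) * h'

theorem val_of_const {x : G} (hx : x ∈ Q) (hx1 : x ≠ 1)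
    (h : ∀ y : Q, lam χ (hc hS ((y : G)⁻¹ * x * y)) = 1) :
    ((m + n : ℕ) : ℂ) * (α : G → ℂ) x = (n * (g * m + 1) : ℕ) ∧
      ((m + n : ℕ) : ℂ) * (β : G → ℂ) x = (m : ℂ) * (1 - (g : ℂ) * n) := by
  classical
  have hg : (g : ℂ) ≠ 0 := Nat.cast_ne_zero.2 hH.g_pos.ne'
  obtain ⟨h1, h2⟩ := val_Q hH hχ hx hx1
  simp only [h, Finset.sum_const, Finset.card_univ, nsmul_eq_mul, mul_one] at h1 h2
  rw [← Nat.card_eq_fintype_card, ← hH.card] at h1 h2
  push_cast at h1 h2 ⊢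
  constructor
  · refine mul_left_cancel₀ hg ?_
    linear_combination h1
  · refine mul_left_cancel₀ hg ?_
    linear_combination h2

/-- The values at the involutions of the point stabiliser. -/
theorem val_inv {s : G} (hs : s • a = a) (hs1 : s ≠ 1) (hs2 : s * s = 1) :
    ((m + n : ℕ) : ℂ) * (α : G → ℂ) s = (n * (g * m + 1) : ℕ) ∧
      ((m + n : ℕ) : ℂ) * (β : G → ℂ) s = (m : ℂ) * (1 - (g : ℂ) * n) := by
  refine val_of_const hH hχ (R1.inv_mem_Q hS hs hs2) hs1 fun y => ?_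
  refine lam_inv_fix hS hχ ?_ (fun h => hs1 ?_) ?_
  · rw [mul_smul, mul_smul, R1.fix_a hS y.2, hs, R1.fix_a hS (inv_mem y.2)]
  · have := congrArg (fun z => (y : G) * z * (y : G)⁻¹) h
    simpa [mul_assoc] using this
  · rw [show (y : G)⁻¹ * s * y * ((y : G)⁻¹ * s * y) = (y : G)⁻¹ * (s * s) * y by group, hs2]; group

omit hχ in
theorem cop_g : Nat.Coprime g (m + n) :=
  Nat.Coprime.coprime_dvd_right hH.dvd (by simp)

/-- The function `h` has value one on the central elements of `Q`. -/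
theorem lam_central {x : G} (hx : x ∈ Q) (hx1 : x ≠ 1) (hc' : ∀ y ∈ Q, x * y = y * x) :
    lam χ (hc hS x) = 1 := by
  classical
  set ζ := lam χ (hc hS x) with hζ
  have hsum : ∀ y : Q, lam χ (hc hS ((y : G)⁻¹ * x * y)) = ζ := fun y => by
    rw [mul_assoc, hc' y y.2, inv_mul_cancel_left]
  obtain ⟨h1, -⟩ := val_Q hH hχ hx hx1
  simp only [hsum, Finset.sum_const, Finset.card_univ, nsmul_eq_mul] at h1
  rw [← Nat.card_eq_fintype_card, ← hH.card] at h1
  obtain ⟨c, hcd⟩ := hH.dvd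
  have hg : (g : ℂ) ≠ 0 := Nat.cast_ne_zero.2 hH.g_pos.ne'
  have hco : Nat.Coprime (g * m * n) (m + n) := by
    refine Nat.Coprime.mul_left (Nat.Coprime.mul_left (cop_g hH) ?_) ?_
    · simpa using hH.cop
    · simpa [Nat.coprime_comm] using hH.cop
  obtain ⟨e, f, hef⟩ : ∃ e f : ℤ, e * (g * m * n : ℕ) + f * (m + n : ℕ) = 1 := by
    exact Nat.Coprime.isCoprime hco
  have hef' : (e : ℂ) * ((g : ℂ) * m * n) + (f : ℂ) * ((m : ℂ) + n) = 1 := by exact_mod_cast hef
  have hcC : (g : ℂ) * m + 1 = ((m : ℂ) + n) * c := by exact_mod_cast hcd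
  have hkey : (g : ℂ) * m * n * (ζ - 1) = ((m : ℂ) + n) * ((α : G → ℂ) x - n * c) := by
    refine mul_left_cancel₀ hg ?_
    push_cast at h1
    linear_combination -h1 - (g : ℂ) * n * hcC
  have hmem := (Subgroup.mem_inf.1 (hc_mem hS hx hx1)).1
  have hζodd : ζ ^ Nat.card (D G a t) = 1 := by
    rw [hζ, lam_of_mem χ hmem, ← Units.val_pow_eq_pow_val, ← map_pow,
      show (⟨hc hS x, hmem⟩ : stabilizer G a) ^ Nat.card (D G a t) = 1 from Subtype.ext (by
        show hc hS x ^ Nat.card (D G a t) = 1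
        exact orderOf_dvd_iff_pow_eq_one.1 (Subgroup.orderOf_dvd_natCard _ (hc_mem hS hx hx1))),
      map_one, Units.val_one]
  have hζi : IsIntegral ℤ ζ := IsIntegral.of_pow Nat.card_pos (hζodd ▸ isIntegral_one)
  have hαi := Char.char_isIntegral (Char.irr_isCharacter α.2) x
  have hn : IsIntegral ℤ ((n : ℂ) * c) := by
    exact_mod_cast (isIntegral_algebraMap (R := ℤ) (A := ℂ) (x := ((n * c : ℕ) : ℤ)))
  have hei : ∀ z : ℤ, IsIntegral ℤ (z : ℂ) := fun z => isIntegral_algebraMap (R := ℤ) (A := ℂ) (x := z)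
  refine eq_one_of_congr hS.odd_card hζodd (M := m + n) (by have := hH.m_pos; have := hH.n_pos; omega)
    (((hei e).mul (hαi.sub hn)).add ((hei f).mul (hζi.sub isIntegral_one))) ?_
  push_cast
  linear_combination -(ζ - 1) * hef' + (e : ℂ) * hkey

theorem val_central {x : G} (hx : x ∈ Q) (hx1 : x ≠ 1) (hc' : ∀ y ∈ Q, x * y = y * x) :
    ((m + n : ℕ) : ℂ) * (α : G → ℂ) x = (n * (g * m + 1) : ℕ) ∧
      ((m + n : ℕ) : ℂ) * (β : G → ℂ) x = (m : ℂ) * (1 - (g : ℂ) * n) := by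
  refine val_of_const hH hχ hx hx1 fun y => ?_
  rw [mul_assoc, hc' y y.2, inv_mul_cancel_left]
  exact lam_central hH hχ hx hx1 hc'

theorem deg_eqs : (m + n) * Char.deg (α : G → ℂ) = n * (Nat.card Q + 1) ∧
    (m + n) * Char.deg (β : G → ℂ) = m * (Nat.card Q + 1) := by
  obtain ⟨h1, h2⟩ := val_one hH hχ
  rw [Char.char_one_eq_deg (Char.irr_isCharacter α.2)] at h1
  rw [Char.char_one_eq_deg (Char.irr_isCharacter β.2)] at h2
  exact ⟨by exact_mod_cast h1, by exact_mod_cast h2⟩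

omit hH in
theorem not_linear [IsSimpleGroup G] (hne : χ ≠ 1) {γ δ : IrrCharacter G}
    (hadd : ∀ x, (γ : G → ℂ) x + (δ : G → ℂ) x = (monM χ hS x).trace) :
    Char.deg (γ : G → ℂ) ≠ 1 := by
  classical
  intro hd
  haveI := Fintype.ofFinite G
  haveI : Fintype (stabilizer G a) := Fintype.ofFinite _
  obtain ⟨k, ρ, hρ, e⟩ := id γ.2
  have hγ1 : (γ : G → ℂ) 1 = 1 := by rw [Char.char_one_eq_deg (Char.irr_isCharacter γ.2), hd, Nat.cast_one]
  have htriv : ∀ x, (γ : G → ℂ) x = 1 := by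
    obtain ⟨f, hf⟩ := Char.exists_hom_of_degree_one (Char.irr_isCharacter γ.2) hγ1
    intro x
    rcases Subgroup.Normal.eq_bot_or_eq_top (inferInstance : f.ker.Normal) with hb | ht
    · exfalso
      have hinj : Function.Injective f := (MonoidHom.ker_eq_bot_iff f).1 hb
      obtain ⟨s, hsQ, hs1, hs2⟩ := R1.exists_inv hS
      have hconj : t * s * t⁻¹ = s := hinj (by rw [map_mul, map_mul, map_inv, mul_comm (f t), mul_inv_cancel_right])
      refine R1.Q_inv_ne hS hsQ hs1 ?_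
      rw [show t * s * t = t * s * t⁻¹ by rw [t_inv hS], hconj, R1.fix_a hS hsQ]
    · simp only [hf]; rw [(MonoidHom.mem_ker).1 (ht ▸ Subgroup.mem_top x : x ∈ f.ker), Units.val_one]
  have h1 : classInner (indFun (stabilizer G a) (fun b => (χ b : ℂ))) (γ : G → ℂ) = 0 := by
    rw [Char.frobenius _ _ (Char.isClassFunction_character (Char.irr_isCharacter γ.2))]
    have hb : ∀ b : stabilizer G a, (χ b : ℂ) * conj ((γ : G → ℂ) b) = (χ b : ℂ) := fun b => by
      rw [htriv, map_one, mul_one]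
    obtain ⟨b₀, hb₀⟩ : ∃ b₀, χ b₀ ≠ 1 := by
      by_contra h
      exact hne (MonoidHom.ext fun b => by
        by_contra hb
        exact h ⟨b, hb⟩)
    rw [classInner, Finset.sum_congr rfl fun b _ => hb b]
    have h2 : (χ b₀ : ℂ) * ∑ b : stabilizer G a, (χ b : ℂ) = ∑ b : stabilizer G a, (χ b : ℂ) := by
      rw [Finset.mul_sum, ← Equiv.sum_comp (Equiv.mulLeft b₀) fun b => (χ b : ℂ)]
      simp
    rcases mul_left_eq_self₀.1 h2 with h3 | h3
    · exact absurd (Units.val_eq_one.1 h3) hb₀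
    · rw [h3, mul_zero]
  have h2 : classInner ((γ : G → ℂ) + (δ : G → ℂ)) (γ : G → ℂ) = 0 := by
    rw [← h1]
    congr 1
    exact funext fun x => by rw [Pi.add_apply, hadd, trace_monM_eq_indFun χ hS hχ]
  rw [Char.classInner_add_left, Char.irr_self γ.2] at h2
  obtain ⟨j, hj⟩ := Char.classInner_natCast (Char.irr_isCharacter δ.2) (Char.irr_isCharacter γ.2)
  rw [hj] at h2
  have : 1 + j = 0 := by exact_mod_cast h2
  omega

theorem gm_ne [IsSimpleGroup G] (hne : χ ≠ 1) : g * m ≠ 1 ∧ g * n ≠ 1 := by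
  obtain ⟨h1, h2⟩ := deg_eqs hH hχ
  constructor <;> intro h <;> obtain ⟨hg, hm⟩ := mul_eq_one.1 h
  · refine not_linear (γ := β) (δ := α) hχ hne (fun x => by rw [add_comm, hH.add]) ?_
    rw [hm, ← hH.card, hg, hm] at h2
    simp only [one_pow, one_mul, mul_one] at h2
    have : 0 < 1 + n := by omega
    rw [show n + 1 = (1 + n) * 1 by ring] at h2
    exact mul_left_cancel₀ this.ne' h2
  · refine not_linear (γ := α) (δ := β) hχ hne hH.add ?_
    rw [hm, ← hH.card, hg, hm] at h1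
    simp only [one_pow, one_mul, mul_one] at h1
    rw [show m + 1 = (m + 1) * 1 by ring, mul_one] at h1
    exact (Nat.mul_eq_left (by omega)).1 h1

/-- A prime with a central element of `Q` which does not divide the order of `D` divides `g`. -/
theorem prime_dvd_g (hgn : g * n ≠ 1) {p : ℕ} (hp : p.Prime) {x : G} (hx : x ∈ Q)
    (hxp : orderOf x = p) (hc' : ∀ y ∈ Q, x * y = y * x) (hpD : ¬ p ∣ Nat.card (D G a t)) : p ∣ g := by
  classical
  haveI := Fintype.ofFinite G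
  haveI : Fact p.Prime := ⟨hp⟩
  by_contra hpg
  have hx1 : x ≠ 1 := fun h => hp.ne_one (by rw [← hxp, h, orderOf_one])
  have hpN : p ∣ Nat.card Q := hxp ▸ Subgroup.orderOf_dvd_natCard Q hx
  have hN1 : ¬ p ∣ Nat.card Q + 1 := fun h => hp.ne_one (Nat.dvd_one.1 ((Nat.dvd_add_right hpN).1 h))
  set k := (Nat.card Q).factorization p with hk
  have hkG : (Nat.card G).factorization p = k := by
    rw [R1.card_G hS, Nat.factorization_mul (mul_ne_zero Nat.card_pos.ne' Nat.card_pos.ne') (by omega),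
      Nat.factorization_mul Nat.card_pos.ne' Nat.card_pos.ne', Finsupp.add_apply, Finsupp.add_apply,
      Nat.factorization_eq_zero_of_not_dvd hpD, Nat.factorization_eq_zero_of_not_dvd hN1, add_zero, add_zero]
  have hmain : ∀ (γ : IrrCharacter G) (i : ℕ), p ^ k ∣ i → (m + n) * Char.deg (γ : G → ℂ) = i * (Nat.card Q + 1) →
      ¬ p ∣ m + n → (γ : G → ℂ) x = 0 := by
    intro γ i hi he hmn
    obtain ⟨l, ρ, hρ, e⟩ := id γ.2
    haveI := hρ
    rw [← e]
    refine S0165.result ρ p k hp ((hp.pow_dvd_iff_le_factorization Nat.card_pos.ne').2 hkG.ge) ?_ ?_ x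
      (hxp.symm ▸ dvd_rfl)
    · rw [hp.pow_dvd_iff_le_factorization Nat.card_pos.ne', hkG]; omega
    · have h1 : p ^ k ∣ (m + n) * Char.deg (γ : G → ℂ) := he ▸ hi.mul_right _
      have h2 := ((Nat.Coprime.pow_left k ((hp.coprime_iff_not_dvd).2 hmn))).dvd_of_dvd_mul_left h1
      rwa [← e, Char.deg_character ρ] at h2
  have hkd : p ^ k ∣ Nat.card Q := Nat.ordProj_dvd _ p
  rw [← hH.card, mul_assoc] at hkd
  have hkd' : p ^ k ∣ m * n :=
    (Nat.Coprime.pow k 2 ((hp.coprime_iff_not_dvd).2 hpg)).dvd_of_dvd_mul_left hkd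
  obtain ⟨h1, h2⟩ := deg_eqs hH hχ
  obtain ⟨v1, v2⟩ := val_central hH hχ hx hx1 hc'
  have hk0 : k ≠ 0 := (hp.factorization_pos_of_dvd Nat.card_pos.ne' hpN).ne'
  by_cases hpm : p ∣ m
  · have hpn : ¬ p ∣ n := fun h => hp.ne_one (Nat.eq_one_of_dvd_coprimes hH.cop hpm h)
    have := hmain β m ((Nat.Coprime.pow_left k ((hp.coprime_iff_not_dvd).2 hpn)).dvd_of_dvd_mul_right hkd') h2
      (fun h => hpn ((Nat.dvd_add_right hpm).1 h))
    rw [this, mul_zero] at v2
    rcases mul_eq_zero.1 v2.symm with h3 | h3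
    · exact hH.m_pos.ne' (by exact_mod_cast h3)
    · exact hgn (by exact_mod_cast (sub_eq_zero.1 h3).symm)
  · have hkn := (Nat.Coprime.pow_left k ((hp.coprime_iff_not_dvd).2 hpm)).dvd_of_dvd_mul_left hkd'
    have := hmain α n hkn h1 (fun h => hpm ((Nat.dvd_add_left (dvd_trans (dvd_pow_self p hk0) hkn)).1 h))
    rw [this, mul_zero] at v1
    have h3 : n * (g * m + 1) = 0 := by exact_mod_cast v1.symm
    exact (Nat.mul_pos hH.n_pos (Nat.succ_pos _)).ne' h3

/-- If the second constituent is constant on the non-trivial elements of a Sylow subgroup of `Q`, the prime does not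
divide `g`. -/
theorem not_dvd_of_const {p : ℕ} (hp : p.Prime) {P : Subgroup G} (hPQ : P ≤ Q)
    (hPc : Nat.card P = p ^ (Nat.card Q).factorization p)
    (h : ∀ x ∈ P, x ≠ 1 → ((m + n : ℕ) : ℂ) * (β : G → ℂ) x = (m : ℂ) * (1 - (g : ℂ) * n)) : ¬ p ∣ g := by
  classical
  intro hpg
  haveI := Fintype.ofFinite P
  obtain ⟨j, hj⟩ := Char.classInner_natCast
    (Char.isCharacter_comp P.subtype (Char.irr_isCharacter β.2)) (Char.isCharacter_one (G := P))
  obtain ⟨-, v1⟩ := val_one hH hχ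
  obtain ⟨c, hc⟩ := hH.dvd
  have hcC : (g : ℂ) * m + 1 = ((m : ℂ) + n) * c := by exact_mod_cast hc
  have hmn : (m : ℂ) + n ≠ 0 := by
    exact_mod_cast (show m + n ≠ 0 by have := hH.m_pos; omega)
  rw [classInner, inv_mul_eq_iff_eq_mul₀ (Nat.cast_ne_zero.2 Nat.card_pos.ne')] at hj
  simp only [map_one, mul_one] at hj
  rw [← Finset.add_sum_erase _ _ (Finset.mem_univ (1 : P))] at hj
  have he : ∀ x ∈ (Finset.univ : Finset P).erase 1,
      ((β : G → ℂ) (x : G)) = (m : ℂ) * (1 - (g : ℂ) * n) / ((m : ℂ) + n) := fun x hx => by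
    rw [eq_div_iff hmn, mul_comm]
    have := h x x.2 (fun e => Finset.ne_of_mem_erase hx (Subtype.ext e))
    push_cast at this
    exact this
  have he' : ∑ x ∈ (Finset.univ : Finset P).erase 1, ((β : G → ℂ) ∘ P.subtype) x =
      ((Fintype.card P : ℂ) - 1) * ((m : ℂ) * (1 - (g : ℂ) * n) / ((m : ℂ) + n)) := by
    simp only [Function.comp, Subgroup.coe_subtype]
    rw [Finset.sum_congr rfl he, Finset.sum_const, Finset.card_erase_of_mem (Finset.mem_univ _),
      Finset.card_univ, nsmul_eq_mul, Nat.cast_sub (Fintype.card_pos (α := P)), Nat.cast_one]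
  simp only [Function.comp, Subgroup.coe_subtype, OneMemClass.coe_one] at hj he'
  rw [he'] at hj
  have hNC : (Nat.card Q : ℂ) = (g : ℂ) ^ 2 * m * n := by exact_mod_cast hH.card.symm
  push_cast at v1
  have h1 : ((m + n : ℕ) : ℤ) * (g * m * n * c : ℕ) =
      (Nat.card P : ℤ) * ((j : ℤ) * (m + n) - (m : ℤ) * (1 - (g : ℤ) * n)) := by
    have : ((m : ℂ) + n) * ((g : ℂ) * m * n * c) =
        (Nat.card P : ℂ) * ((j : ℂ) * ((m : ℂ) + n) - (m : ℂ) * (1 - (g : ℂ) * n)) := by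
      rw [← Nat.card_eq_fintype_card] at hj
      field_simp at hj
      linear_combination hj - v1 - (g : ℂ) * m * n * hcC - (m : ℂ) * hNC
    exact_mod_cast this
  have h2 : Nat.card P ∣ (m + n) * (g * m * n * c) :=
    Int.natCast_dvd_natCast.1 ⟨_, by rw [← h1]; push_cast; ring⟩
  rw [hPc] at h2
  have hpmn : ¬ p ∣ m + n := fun h => hp.ne_one (Nat.eq_one_of_dvd_coprimes (cop_g hH) hpg h)
  have hpc : ¬ p ∣ c := fun h => hp.ne_one (Nat.dvd_one.1
    ((Nat.dvd_add_right (hpg.mul_right m)).1 (hc ▸ h.mul_left _)))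
  have h3 := ((Nat.Coprime.pow_left _ ((hp.coprime_iff_not_dvd).2 hpc))).dvd_of_dvd_mul_right
    ((Nat.Coprime.pow_left _ ((hp.coprime_iff_not_dvd).2 hpmn)).dvd_of_dvd_mul_left h2)
  have hgmn : g * m * n ≠ 0 := (Nat.mul_pos (Nat.mul_pos hH.g_pos hH.m_pos) hH.n_pos).ne'
  rw [hp.pow_dvd_iff_le_factorization hgmn, ← hH.card, show g ^ 2 * m * n = g * (g * m * n) by ring,
    Nat.factorization_mul hH.g_pos.ne' hgmn, Finsupp.add_apply] at h3
  have := hp.factorization_pos_of_dvd hH.g_pos.ne' hpg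
  omega

/-- The sum of the values of `h` over `Q \ 1`. -/
theorem heckeA_eq : heckeA χ hS = ((g : ℤ) * ((m : ℤ) - n) : ℤ) := by
  rw [hH.sum]; push_cast; rfl

omit hH in
theorem lam_pow {x : G} (hx : x ∈ Q) (hx1 : x ≠ 1) : lam χ (hc hS x) ^ Nat.card (D G a t) = 1 := by
  have hmem := (Subgroup.mem_inf.1 (hc_mem hS hx hx1)).1
  rw [lam_of_mem χ hmem, ← Units.val_pow_eq_pow_val, ← map_pow,
    show (⟨hc hS x, hmem⟩ : stabilizer G a) ^ Nat.card (D G a t) = 1 from Subtype.ext (by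
      show hc hS x ^ Nat.card (D G a t) = 1
      exact orderOf_dvd_iff_pow_eq_one.1 (Subgroup.orderOf_dvd_natCard _ (hc_mem hS hx hx1))),
    map_one, Units.val_one]

omit hH in
theorem lam_norm {x : G} (hx : x ∈ Q) (hx1 : x ≠ 1) : ‖lam χ (hc hS x)‖ = 1 :=
  Complex.norm_eq_one_of_pow_eq_one (lam_pow hχ hx hx1) Nat.card_pos.ne'

/-- If one constituent is linear then `h` has value one throughout. -/
theorem all_one_of_linear (h : g * m = 1 ∨ g * n = 1) :
    g * n = 1 ∧ ∀ x ∈ Q, x ≠ 1 → lam χ (hc hS x) = 1 := by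
  classical
  obtain ⟨k, hk⟩ := hS.even_card
  have hN := hH.card
  have hsum : heckeA χ hS = ∑ x ∈ (Finset.univ : Finset Q).erase 1, lam χ (hc hS (x : G)) := by
    rw [heckeA, ← Finset.add_sum_erase _ _ (Finset.mem_univ (1 : Q)), if_pos (Subgroup.coe_one Q), zero_add]
    exact Finset.sum_congr rfl fun x hx =>
      if_neg fun e => Finset.ne_of_mem_erase hx (Subtype.ext e)
  have hne : ∀ x ∈ (Finset.univ : Finset Q).erase 1, (x : G) ≠ 1 := fun x hx e =>
    Finset.ne_of_mem_erase hx (Subtype.ext e)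
  have hre : ∀ x ∈ (Finset.univ : Finset Q).erase 1, |(lam χ (hc hS (x : G))).re| ≤ 1 := fun x hx =>
    lam_norm hχ x.2 (hne x hx) ▸ Complex.abs_re_le_norm _
  have hc1 : (((Finset.univ : Finset Q).erase 1).card : ℝ) = (Nat.card Q : ℝ) - 1 := by
    rw [Finset.card_erase_of_mem (Finset.mem_univ _), Finset.card_univ, ← Nat.card_eq_fintype_card,
      Nat.cast_sub Nat.card_pos, Nat.cast_one]
  have hval : ∀ ε : ℝ, ε * ε = 1 → (heckeA χ hS).re = ε * ((Nat.card Q : ℝ) - 1) →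
      ∀ x ∈ (Finset.univ : Finset Q).erase 1, lam χ (hc hS (x : G)) = (ε : ℂ) := by
    intro ε hε he x hx
    rw [hsum, Complex.re_sum, ← hc1] at he
    have h0 : ∑ y ∈ (Finset.univ : Finset Q).erase 1, (1 - ε * (lam χ (hc hS (y : G))).re) = 0 := by
      rw [Finset.sum_sub_distrib, ← Finset.mul_sum, he, ← mul_assoc, hε, one_mul, Finset.sum_const, nsmul_one,
        sub_self]
    have habs : ∀ y ∈ (Finset.univ : Finset Q).erase 1, 0 ≤ 1 - ε * (lam χ (hc hS (y : G))).re := fun y hy => by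
      rcases mul_self_eq_one_iff.1 hε with rfl | rfl <;> linarith [abs_le.1 (hre y hy)]
    have h1 := (Finset.sum_eq_zero_iff_of_nonneg habs).1 h0 x hx
    have hr : (lam χ (hc hS (x : G))).re = ε := by
      rcases mul_self_eq_one_iff.1 hε with rfl | rfl <;> linarith
    have h2 := lam_norm (hS := hS) hχ x.2 (hne x hx)
    rw [← sq_eq_sq₀ (norm_nonneg _) zero_le_one, one_pow, ← Complex.normSq_eq_norm_sq, Complex.normSq_apply, hr,
      hε] at h2
    exact Complex.ext (by simpa using hr)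
      (by simpa using mul_self_eq_zero.1 (show (lam χ (hc hS (x : G))).im * (lam χ (hc hS (x : G))).im = 0 by
        linarith))
  obtain ⟨s, hsQ, hs1, hs2⟩ := R1.exists_inv hS
  rcases h with h | h <;> obtain ⟨hg, hm⟩ := mul_eq_one.1 h
  · exfalso
    have h1 := hval (-1) (by norm_num) (by
      rw [hH.sum, ← hN, hg, hm]; simp) ⟨s, hsQ⟩ (Finset.mem_erase.2 ⟨fun e => hs1 (congrArg Subtype.val e),
        Finset.mem_univ _⟩)
    rw [lam_inv_fix hS hχ (R1.fix_a hS hsQ) hs1 hs2] at h1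
    norm_num at h1
  · refine ⟨h, fun x hx hx1 => ?_⟩
    have h1 := hval 1 (by norm_num) (by
      rw [hH.sum, ← hN, hg, hm]; simp) ⟨x, hx⟩ (Finset.mem_erase.2 ⟨fun e => hx1 (congrArg Subtype.val e),
        Finset.mem_univ _⟩)
    simpa using h1

end Cfsg.Agent.Lie.R1C
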