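import Cfsg.Agent.Lib.Lie.SplitRankOne.Semireg
import Cfsg.Agent.Lib.Lie.SplitRankOne.HeckeFacts
import Cfsg.Agent.Lib.Lie.SplitRankOne.Cube
import Cfsg.Agent.S0205
import Mathlib.GroupTheory.FiniteAbelian.Duality

/-!
Torus characters attached to `V`, the dichotomy for the coset of the pair element, and the basic contradiction.
-/

set_option autoImplicit false
set_option linter.unusedSectionVars false
set_option linter.unusedSimpArgs false
set_option linter.style.haveILetI false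

namespace Cfsg.Agent.Lie.R1C

open Cfsg MulAction
open Cfsg.Agent.Lie.R1 (D tt t_inv tDt)
open scoped ComplexConjugate

/-- A nontrivial group of odd order has a nontrivial linear character. -/
theorem exists_linear {H : Type*} [Group H] [Finite H] (hodd : Odd (Nat.card H)) (h : Nontrivial H) :
    ∃ ψ : H →* ℂˣ, ψ ≠ 1 := by
  haveI := Cfsg.Agent.S0205.result hodd
  have hlt := Group.IsSolvable.commutator_lt_top_of_nontrivial H
  obtain ⟨x, -, hx⟩ := SetLike.exists_of_lt hlt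
  haveI : Finite (Abelianization H) := Quotient.finite _
  haveI : NeZero (Monoid.exponent (Abelianization H) : ℂ) := ⟨by
    exact_mod_cast Monoid.exponent_ne_zero_of_finite⟩
  obtain ⟨φ, hφ⟩ := CommGroup.exists_apply_ne_one_of_hasEnoughRootsOfUnity (Abelianization H) ℂ
    (a := Abelianization.of x) (fun e => hx ((QuotientGroup.eq_one_iff x).1 e))
  exact ⟨φ.comp Abelianization.of, fun e => hφ (DFunLike.congr_fun e x)⟩

variable {G Ω : Type*} [Group G] [MulAction G Ω] [Finite G] {a : Ω} {t : G} {Q : Subgroup G} (hc : Ctx G Ω a t Q)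

include hc

namespace Ctx

theorem odd_vg : Odd (Nat.card (vg G a t)) :=
  hc.hS.odd_card.of_dvd_nat (Subgroup.card_dvd_of_le hc.vg_le)

/-- A linear character of `V` gives a torus character. -/
theorem exists_torus_char (ψ : vg G a t →* ℂˣ) :
    ∃ χ : stabilizer G a →* ℂˣ, IsTorusChar G a t Q χ ∧
      ∀ (b : stabilizer G a) (hb : (b : G) ∈ vg G a t), χ b = ψ ⟨b, hb⟩ := by
  classical
  have hex : ∀ b : stabilizer G a, ∃ v : vg G a t, ∃ q ∈ Q, ∃ k ∈ kg G a t, (b : G) = q * v * k := fun b => by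
    obtain ⟨q, hq, d, hd, e⟩ := R1.mem_sup hc.hS b.2
    obtain ⟨v, hv, k, hk, rfl⟩ := hc.decomp hd
    exact ⟨⟨v, hv⟩, q, hq, k, hk, by rw [e, mul_assoc]⟩
  choose π q hq k hk he using hex
  have huniq : ∀ (b : stabilizer G a) (v : vg G a t) (q' k' : G), q' ∈ Q → k' ∈ kg G a t →
      (b : G) = q' * v * k' → π b = v := by
    intro b v q' k' hq' hk' e
    rw [he b, mul_assoc, mul_assoc] at e
    obtain ⟨-, h2⟩ := R1.D_unique hc.hS (hq b) (mul_mem (hc.vg_le (π b).2) (hc.kg_le (hk b))) hq'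
      (mul_mem (hc.vg_le v.2) (hc.kg_le hk')) e
    exact Subtype.ext (hc.decomp_unique (π b).2 v.2 (hk b) hk' h2).1
  have hmul : ∀ b b', π (b * b') = π b * π b' := by
    intro b b'
    have hd : (π b : G) * k b ∈ D G a t := mul_mem (hc.vg_le (π b).2) (hc.kg_le (hk b))
    refine huniq _ _ (q b * ((π b : G) * k b * q b' * ((π b : G) * k b)⁻¹))
      (((π b' : G)⁻¹ * k b * (π b' : G)) * k b') (mul_mem (hq b) (R1.conj_Q hc.hS (Subgroup.mem_inf.1 hd).1 (hq b')))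
      (mul_mem ?_ (hk b')) ?_
    · have := hc.conj_kg (inv_mem (hc.vg_le (π b').2)) (hk b)
      simpa only [inv_inv] using this
    · rw [Subgroup.coe_mul, Subgroup.coe_mul, he b, he b']
      group
  let π' : stabilizer G a →* vg G a t := MonoidHom.mk' π hmul
  refine ⟨ψ.comp π', ⟨fun b hb => ?_, fun b hb => ?_⟩, fun b hb => ?_⟩
  · show ψ (π b) = 1
    rw [huniq b 1 b 1 hb (one_mem _) (by simp), map_one]
  · show ψ (π b) = 1
    rw [huniq b 1 1 b (one_mem _) (by rw [← SetLike.mem_coe, hc.kg_eq]; exact hb) (by simp), map_one]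
  · show ψ (π b) = _
    rw [huniq b ⟨b, hb⟩ 1 1 (one_mem _) (one_mem _) (by simp)]

/-- If `V` is nontrivial there is a nontrivial torus character. -/
theorem exists_char (hV : vg G a t ≠ ⊥) : ∃ χ : stabilizer G a →* ℂˣ, IsTorusChar G a t Q χ ∧ χ ≠ 1 := by
  obtain ⟨ψ, hψ⟩ := exists_linear hc.odd_vg ((Subgroup.nontrivial_iff_ne_bot _).2 hV)
  obtain ⟨χ, hχ, hval⟩ := hc.exists_torus_char ψ
  refine ⟨χ, hχ, fun e => hψ (MonoidHom.ext fun v => ?_)⟩
  rw [← hval ⟨v, hc.vg_fix v.2⟩ v.2, e]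
  rfl

theorem exists_invol : ∃ s ∈ Q, orderOf s = 2 ∧ (∀ y ∈ Q, s * y = y * s) ∧ ¬ 2 ∣ Nat.card (D G a t) := by
  obtain ⟨s, hs, hs1, hs2⟩ := R1.exists_inv hc.hS
  exact ⟨s, hs, orderOf_eq_prime (by rw [pow_two, hs2]) hs1,
    fun y hy => hc.zg_central (hc.mem_zg_of_sq (hc.hS.le hs) hs2) hy,
    fun h => Nat.not_even_iff_odd.2 hc.hS.odd_card (even_iff_two_dvd.2 h)⟩

/-- A torus character on a simple group cannot take the value one throughout the two-group `Q`. -/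
theorem contra_two [IsSimpleGroup G] (hQ : IsPGroup 2 Q) {χ : stabilizer G a →* ℂˣ} (hχ : IsTorusChar G a t Q χ)
    (hne : χ ≠ 1) (h : ∀ x ∈ Q, x ≠ 1 → lam χ (R1C.hc hc.hS x) = 1) : False := by
  classical
  haveI := R1.finite_Ω hc.hS
  haveI := Fintype.ofFinite Ω
  haveI := Fintype.ofFinite Q
  haveI : Fact (Nat.Prime 2) := ⟨Nat.prime_two⟩
  obtain ⟨g, m, n, α, β, hH⟩ := exists_hecke χ hc.hS hχ
  obtain ⟨s, hs, hs2, hsc, hsD⟩ := hc.exists_invol
  have hgn := (gm_ne hH hχ hne).2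
  refine not_dvd_of_const hH hχ Nat.prime_two le_rfl ?_ (fun x hx hx1 => ?_)
    (prime_dvd_g hH hχ hgn Nat.prime_two hs hs2 hsc hsD)
  · obtain ⟨j, hj⟩ := hQ.exists_card_eq
    rw [hj, Nat.prime_two.factorization_pow, Finsupp.single_eq_same]
  · refine (val_of_const hH hχ hx hx1 fun y => h _ ?_ ?_).2
    · simpa using mul_mem (mul_mem (inv_mem y.2) hx) y.2
    · intro e
      exact hx1 (by simpa [mul_assoc] using congrArg (fun w => (y : G) * w * (y : G)⁻¹) e)

end Ctx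

variable {L : Type} [Field L] {zp kp : L → G} (hL : Coord G a t Q L zp kp)

include hL

/-- The pair involution and the element attached to it. -/
theorem Coord.lam_rz {r : G} (hr : r ∈ Q) (he : t * zp 1 * t = r⁻¹ * t * r) (hrZ : r ∉ zg G a)
    {χ : stabilizer G a →* ℂˣ} (hχ : IsTorusChar G a t Q χ) {z : G} (hz : z ∈ zg G a) :
    lam χ (R1C.hc hc.hS (r * z)) = 1 := by
  have hS := hc.hS
  haveI := R1.finite_Ω hS
  haveI := Fintype.ofFinite Ω
  haveI := Fintype.ofFinite Q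
  set s := zp 1 with hs
  have hsZ : s ∈ zg G a := hL.zp_mem hc 1
  have hsQ := hc.zg_le_Q hsZ
  have hs1 : s ≠ 1 := fun h => one_ne_zero (α := L) (hL.zp_inj (h.trans (hL.zp_zero hc).symm))
  have hr1 : r ≠ 1 := fun h => hrZ (h ▸ one_mem _)
  have hr1' : r⁻¹ ≠ 1 := inv_ne_one.2 hr1
  obtain ⟨c1, c2, c3⟩ := coords_unique hS hsQ hs1 (inv_mem hr) (one_mem (D G a t)) hr (by rw [mul_one]; exact he)
  obtain ⟨d1, d2, d3⟩ := coords_gc hS hsQ hs1
  rw [c1] at d1 d2 d3
  rw [c2] at d2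
  rw [c2, c3, inv_one, mul_one, hS.mul_self, inv_one, one_mul, mul_one] at d3
  obtain ⟨e1, e2, e3⟩ := coords_inv hS (inv_mem hr) hr1'
  rw [inv_inv] at e1 e2 e3
  rw [d1] at e3
  rw [d2, inv_one, inv_one, mul_one, hS.mul_self] at e2
  rw [show s⁻¹ = s from inv_eq_of_mul_eq_one_left (hc.zg_sq hsZ)] at e3
  by_cases hz1 : z = 1
  · rw [hz1, mul_one, e2, lam_one]
  have hzQ := hc.zg_le_Q hz
  have hrz : r * z ≠ 1 := fun h => hrZ (by rw [mul_eq_one_iff_eq_inv.1 h]; exact inv_mem hz)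
  obtain ⟨-, -, -, h4, -⟩ := coords_mul hS hr hr1 hzQ hz1 hrz
  obtain ⟨k, hk, hkz⟩ := hc.kg_trans hsZ hs1 hz hz1
  have hkD := hc.kg_le hk
  have g1 := (coords_conj hS hsQ hs1 hkD).1
  rw [hkz, c1, hc.kg_inv hk, inv_inv] at g1
  have hw : fc hS r * gc hS z = k⁻¹ * (z * r⁻¹) * k⁻¹⁻¹ := by
    rw [e3, g1, ← hkz, inv_inv]; group
  have hzr : z * r⁻¹ = (r * z)⁻¹ := by
    rw [_root_.mul_inv_rev, inv_eq_of_mul_eq_one_left (hc.zg_sq hz)]
  have hkK : k⁻¹ ∈ invertedBy (D G a t) t := by rw [← hc.kg_eq]; exact inv_mem hk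
  have hzfix := R1C.lam_inv_fix hS hχ (s := z) (hS.le hzQ) hz1 (hc.zg_sq hz)
  have hrzQ := mul_mem hr hzQ
  have hmemD := hc_mem hS hrzQ hrz
  have hconj : lam χ (R1C.hc hS (fc hS r * gc hS z)) = conj (lam χ (R1C.hc hS (r * z))) := by
    rw [hw, lam_conj_K hχ hkK (by rw [hzr]; exact inv_mem hrzQ) (by rw [hzr]; exact inv_ne_one.2 hrz), hzr,
      (coords_inv hS hrzQ hrz).2.1, lam_t χ hS hχ (inv_mem hmemD), lam_conj χ (Subgroup.mem_inf.1 hmemD).1]
  have key : lam χ (R1C.hc hS (r * z)) = conj (lam χ (R1C.hc hS (r * z))) := by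
    conv_lhs => rw [h4, e2, one_mul, lam_mul_right χ (Subgroup.mem_inf.1 (hc_mem hS hzQ hz1)).1, hzfix, mul_one,
      hconj]
  set ζ := lam χ (R1C.hc hS (r * z)) with hζ
  have hnorm : ζ ^ 2 = 1 := by
    rw [pow_two]
    nth_rewrite 2 [key]
    rw [Complex.mul_conj, Complex.normSq_eq_norm_sq, lam_norm hχ hrzQ hrz]
    norm_num
  have hodd : ζ ^ Nat.card (D G a t) = 1 := lam_pow hχ hrzQ hrz
  obtain ⟨j, hj⟩ := hS.odd_card
  rw [hj, pow_succ, pow_mul, hnorm, one_pow, one_mul] at hodd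
  exact hodd

end Cfsg.Agent.Lie.R1C
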