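import Cfsg.Agent.Lib.Lie.SplitRankOne.Coord

/-!
When the involution of the pair lies in `Z`, the subgroup generated by `Z`, the torus and `t` is a two-dimensional
special linear group.
-/

set_option autoImplicit false
set_option linter.unusedSectionVars false
set_option linter.unusedSimpArgs false
set_option linter.style.haveILetI false

namespace Cfsg.Agent.Lie.R1C

open Cfsg MulAction Matrix
open Cfsg.Agent.Lie.R1 (D tt t_inv tDt)
open scoped MatrixGroups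

variable {G Ω : Type*} [Group G] [MulAction G Ω]

/-- The element of `G` attached to a matrix. -/
noncomputable def mfun {L : Type} [Field L] (t : G) (zp kp : L → G) (A : SL(2, L)) : G :=
  haveI := Classical.dec (A.1 1 0 = 0)
  if A.1 1 0 = 0 then zp (A.1 0 0 * A.1 0 1) * kp (A.1 0 0)
    else zp (A.1 0 0 / A.1 1 0) * kp (A.1 1 0)⁻¹ * t * zp (A.1 1 1 / A.1 1 0)

/-- The data for the linear group inside `G`. -/
structure MCtx (G : Type*) {Ω : Type*} [Group G] [MulAction G Ω] (a : Ω) (t : G) (Q : Subgroup G) (L : Type)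
    [Field L] [CharP L 2] (zp kp : L → G) : Prop where
  ctx : Ctx G Ω a t Q
  coord : Coord G a t Q L zp kp
  base : t * zp 1 * t = zp 1 * t * zp 1

section Mat

variable {L : Type} [Field L] [CharP L 2]

theorem det_eq (A : SL(2, L)) : A.1 0 0 * A.1 1 1 + A.1 0 1 * A.1 1 0 = 1 := by
  have := A.2
  rw [Matrix.det_fin_two, CharTwo.sub_eq_add] at this
  exact this

/-- Upper unitriangular matrices. -/
def zmat (x : L) : SL(2, L) := ⟨!![1, x; 0, 1], by simp [Matrix.det_fin_two]⟩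

/-- Diagonal matrices. -/
noncomputable def kmat (x : L) : SL(2, L) :=
  haveI := Classical.dec (x = 0)
  ⟨if x = 0 then 1 else !![x, 0; 0, x⁻¹], by split <;> simp [Matrix.det_fin_two, *]⟩

/-- The swap. -/
def tmat : SL(2, L) := ⟨!![0, 1; 1, 0], by simp [Matrix.det_fin_two, CharTwo.neg_eq]⟩

theorem kmat_val {x : L} (hx : x ≠ 0) : (kmat x).1 = !![x, 0; 0, x⁻¹] := by
  show (@ite _ (x = 0) (Classical.dec _) 1 !![x, 0; 0, x⁻¹]) = _
  rw [if_neg hx]

theorem zmat_val (x : L) : (zmat x).1 = !![1, x; 0, 1] := rfl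

theorem tmat_val : (tmat : SL(2, L)).1 = !![0, 1; 1, 0] := rfl

theorem sl_ext {A B : SL(2, L)} (h1 : A.1 0 0 = B.1 0 0) (h2 : A.1 0 1 = B.1 0 1) (h3 : A.1 1 0 = B.1 1 0)
    (h4 : A.1 1 1 = B.1 1 1) : A = B := by
  apply Subtype.ext
  ext i j
  fin_cases i <;> fin_cases j <;> assumption

theorem tmat_mul_apply (A : SL(2, L)) :
    (tmat * A).1 0 0 = A.1 1 0 ∧ (tmat * A).1 0 1 = A.1 1 1 ∧ (tmat * A).1 1 0 = A.1 0 0 ∧
      (tmat * A).1 1 1 = A.1 0 1 := by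
  rw [Matrix.SpecialLinearGroup.coe_mul, tmat_val]
  simp [Matrix.mul_apply, Fin.sum_univ_two]

theorem zmat_mul_apply (x : L) (A : SL(2, L)) :
    (zmat x * A).1 0 0 = A.1 0 0 + x * A.1 1 0 ∧ (zmat x * A).1 0 1 = A.1 0 1 + x * A.1 1 1 ∧
      (zmat x * A).1 1 0 = A.1 1 0 ∧ (zmat x * A).1 1 1 = A.1 1 1 := by
  rw [Matrix.SpecialLinearGroup.coe_mul, zmat_val]
  simp [Matrix.mul_apply, Fin.sum_univ_two]

theorem kmat_mul_apply {x : L} (hx : x ≠ 0) (A : SL(2, L)) :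
    (kmat x * A).1 0 0 = x * A.1 0 0 ∧ (kmat x * A).1 0 1 = x * A.1 0 1 ∧
      (kmat x * A).1 1 0 = x⁻¹ * A.1 1 0 ∧ (kmat x * A).1 1 1 = x⁻¹ * A.1 1 1 := by
  rw [Matrix.SpecialLinearGroup.coe_mul, kmat_val hx]
  simp [Matrix.mul_apply, Fin.sum_univ_two]

theorem bruhat_small {A : SL(2, L)} (h : A.1 1 0 = 0) :
    A.1 0 0 ≠ 0 ∧ A = zmat (A.1 0 0 * A.1 0 1) * kmat (A.1 0 0) := by
  have hd := det_eq A
  rw [h, mul_zero, add_zero] at hd
  have ha : A.1 0 0 ≠ 0 := fun h' => by rw [h', zero_mul] at hd; exact zero_ne_one hd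
  have h11 : A.1 1 1 = (A.1 0 0)⁻¹ := eq_inv_of_mul_eq_one_right hd
  refine ⟨ha, sl_ext ?_ ?_ ?_ ?_⟩
  · rw [(zmat_mul_apply _ _).1, kmat_val ha]; simp
  · rw [(zmat_mul_apply _ _).2.1, kmat_val ha]; simp; field_simp
  · rw [(zmat_mul_apply _ _).2.2.1, kmat_val ha]; simp [h]
  · rw [(zmat_mul_apply _ _).2.2.2, kmat_val ha]; simp [h11]

theorem bruhat_big {A : SL(2, L)} (h : A.1 1 0 ≠ 0) :
    A = zmat (A.1 0 0 / A.1 1 0) * (kmat (A.1 1 0)⁻¹ * (tmat * zmat (A.1 1 1 / A.1 1 0))) := by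
  have hd := det_eq A
  obtain ⟨t1, t2, t3, t4⟩ := tmat_mul_apply (zmat (A.1 1 1 / A.1 1 0))
  obtain ⟨k1, k2, k3, k4⟩ := kmat_mul_apply (inv_ne_zero h) (tmat * zmat (A.1 1 1 / A.1 1 0))
  obtain ⟨z1, z2, z3, z4⟩ := zmat_mul_apply (A.1 0 0 / A.1 1 0)
    (kmat (A.1 1 0)⁻¹ * (tmat * zmat (A.1 1 1 / A.1 1 0)))
  refine sl_ext ?_ ?_ ?_ ?_
  · rw [z1, k1, k3, t1, t3]; simp [zmat_val]; field_simp
  · rw [z2, k2, k4, t2, t4]; simp [zmat_val]; field_simp
    linear_combination hd - (CharTwo.two_eq_zero : (2 : L) = 0) * A.1 0 0 * A.1 1 1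
  · rw [z3, k3, t3]; simp [zmat_val]
  · rw [z4, k4, t4]; simp [zmat_val]; field_simp

end Mat

variable [Finite G] {a : Ω} {t : G} {Q : Subgroup G} {L : Type} [Field L] [CharP L 2] {zp kp : L → G}
  (hM : MCtx G a t Q L zp kp)

include hM

namespace MCtx

theorem tzt {x : L} (hx : x ≠ 0) : t * zp x * t = zp x⁻¹ * kp x⁻¹ * t * zp x⁻¹ := by
  have hz : (zp (1 : L))⁻¹ = zp 1 := inv_eq_of_mul_eq_one_left (hM.ctx.zg_sq (hM.coord.zp_mem hM.ctx 1))
  exact hM.coord.tzt hM.ctx (hM.ctx.zg_le_Q (hM.coord.zp_mem hM.ctx 1))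
    (by rw [hz]; exact hM.base) (hM.coord.zp_mem hM.ctx 1) hx

theorem kz {x : L} (hx : x ≠ 0) (y : L) : kp x * zp y = zp (x ^ 2 * y) * kp x := by
  rw [← hM.coord.conj _ _ hx]; group

theorem zz (x y : L) : zp x * zp y = zp (x + y) := (hM.coord.zp_add x y).symm

theorem kk {x y : L} (hx : x ≠ 0) (hy : y ≠ 0) : kp x * kp y = kp (x * y) := (hM.coord.kp_mul x y hx hy).symm

theorem tk {x : L} (hx : x ≠ 0) : t * kp x = kp x⁻¹ * t := by
  rw [← hM.coord.kp_t hM.ctx hx]; simp only [mul_assoc, hM.ctx.hS.mul_self, mul_one]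

theorem left_z (x : L) (A : SL(2, L)) : mfun t zp kp (zmat x * A) = zp x * mfun t zp kp A := by
  obtain ⟨h1, h2, h3, h4⟩ := zmat_mul_apply x A
  unfold mfun
  rw [h1, h2, h3, h4]
  by_cases hc : A.1 1 0 = 0
  · have hd := det_eq A
    rw [if_pos hc, if_pos hc, ← mul_assoc, hM.zz, hc, mul_zero, add_zero]
    congr 2
    rw [hc, mul_zero, add_zero] at hd
    linear_combination x * hd
  · rw [if_neg hc, if_neg hc, ← mul_assoc, ← mul_assoc, ← mul_assoc, hM.zz]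
    congr 4
    field_simp
    ring

theorem left_k {x : L} (hx : x ≠ 0) (A : SL(2, L)) : mfun t zp kp (kmat x * A) = kp x * mfun t zp kp A := by
  obtain ⟨h1, h2, h3, h4⟩ := kmat_mul_apply hx A
  unfold mfun
  rw [h1, h2, h3, h4]
  by_cases hc : A.1 1 0 = 0
  · have ha := (bruhat_small hc).1
    rw [if_pos hc, if_pos (by rw [hc, mul_zero]), ← mul_assoc (kp x), hM.kz hx, mul_assoc (zp _), hM.kk hx ha]
    congr 2
    ring
  · rw [if_neg hc, if_neg (mul_ne_zero (inv_ne_zero hx) hc), ← mul_assoc (kp x), ← mul_assoc (kp x),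
      ← mul_assoc (kp x), hM.kz hx, mul_assoc (zp (x ^ 2 * _)) (kp x), hM.kk hx (inv_ne_zero hc)]
    have e1 : x * A.1 0 0 / (x⁻¹ * A.1 1 0) = x ^ 2 * (A.1 0 0 / A.1 1 0) := by field_simp
    have e2 : (x⁻¹ * A.1 1 0)⁻¹ = x * (A.1 1 0)⁻¹ := by field_simp
    have e3 : x⁻¹ * A.1 1 1 / (x⁻¹ * A.1 1 0) = A.1 1 1 / A.1 1 0 := by field_simp
    rw [e1, e2, e3]

theorem left_t (A : SL(2, L)) : mfun t zp kp (tmat * A) = t * mfun t zp kp A := by
  obtain ⟨h1, h2, h3, h4⟩ := tmat_mul_apply A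
  have hd := det_eq A
  have h0 := hM.coord.zp_zero hM.ctx
  have htt := hM.ctx.hS.mul_self
  unfold mfun
  rw [h1, h2, h3, h4]
  by_cases hc : A.1 1 0 = 0
  · have ha := (bruhat_small hc).1
    rw [if_pos hc, if_neg ha, hc, zero_div, h0, one_mul]
    rw [← mul_assoc, show A.1 0 1 / A.1 0 0 = (A.1 0 0)⁻¹ ^ 2 * (A.1 0 0 * A.1 0 1) by field_simp,
      ← hM.tk ha, mul_assoc, hM.kz ha]
    rw [show A.1 0 0 ^ 2 * ((A.1 0 0)⁻¹ ^ 2 * (A.1 0 0 * A.1 0 1)) = A.1 0 0 * A.1 0 1 by field_simp, mul_assoc]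
  · rw [if_neg hc]
    by_cases ha : A.1 0 0 = 0
    · rw [if_pos ha, ha, zero_div, h0, one_mul, ← mul_assoc, ← mul_assoc, hM.tk (inv_ne_zero hc), inv_inv,
        mul_assoc (kp _) t t, htt, mul_one, hM.kz hc]
      congr 2
      field_simp
    · rw [if_neg ha, ← mul_assoc t, ← mul_assoc t, ← mul_assoc t]
      have hr : A.1 0 0 / A.1 1 0 ≠ 0 := div_ne_zero ha hc
      rw [show t * zp (A.1 0 0 / A.1 1 0) * kp (A.1 1 0)⁻¹ * t =
          t * zp (A.1 0 0 / A.1 1 0) * (kp (A.1 1 0)⁻¹ * t) by group,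
        show kp (A.1 1 0)⁻¹ * t = t * kp (A.1 1 0) by rw [hM.tk hc], ← mul_assoc _ t (kp _), hM.tzt hr, inv_div]
      rw [show zp (A.1 1 0 / A.1 0 0) * kp (A.1 1 0 / A.1 0 0) * t * zp (A.1 1 0 / A.1 0 0) * kp (A.1 1 0) =
          zp (A.1 1 0 / A.1 0 0) * kp (A.1 1 0 / A.1 0 0) * t *
            (zp (A.1 1 0 / A.1 0 0) * kp (A.1 1 0)) by group,
        show zp (A.1 1 0 / A.1 0 0) * kp (A.1 1 0) = kp (A.1 1 0) * zp (1 / (A.1 1 0 * A.1 0 0)) by
          rw [hM.kz hc]; congr 2; field_simp]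
      rw [show zp (A.1 1 0 / A.1 0 0) * kp (A.1 1 0 / A.1 0 0) * t *
          (kp (A.1 1 0) * zp (1 / (A.1 1 0 * A.1 0 0))) * zp (A.1 1 1 / A.1 1 0) =
          zp (A.1 1 0 / A.1 0 0) * kp (A.1 1 0 / A.1 0 0) * (t * kp (A.1 1 0)) *
            (zp (1 / (A.1 1 0 * A.1 0 0)) * zp (A.1 1 1 / A.1 1 0)) by group,
        hM.tk hc, hM.zz, ← mul_assoc (zp _ * kp _), mul_assoc (zp _) (kp _) (kp _),
        hM.kk (div_ne_zero hc ha) (inv_ne_zero hc),
        show A.1 1 0 / A.1 0 0 * (A.1 1 0)⁻¹ = (A.1 0 0)⁻¹ by field_simp,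
        show 1 / (A.1 1 0 * A.1 0 0) + A.1 1 1 / A.1 1 0 = A.1 0 1 / A.1 0 0 by
          field_simp
          linear_combination -hd + (CharTwo.two_eq_zero : (2 : L) = 0) * A.1 0 0 * A.1 1 1]

theorem mfun_one : mfun t zp kp 1 = 1 := by
  unfold mfun
  simp [hM.coord.zp_zero hM.ctx, hM.coord.kp_one hM.ctx]

theorem mfun_mul (A B : SL(2, L)) : mfun t zp kp (A * B) = mfun t zp kp A * mfun t zp kp B := by
  have hgen : ∀ x : L, mfun t zp kp (zmat x) = zp x := fun x => by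
    have := hM.left_z x 1
    rwa [mul_one, hM.mfun_one, mul_one] at this
  have hgenk : ∀ x : L, x ≠ 0 → mfun t zp kp (kmat x) = kp x := fun x hx => by
    have := hM.left_k hx 1
    rwa [mul_one, hM.mfun_one, mul_one] at this
  have hgent : mfun t zp kp tmat = t := by
    have := hM.left_t 1
    rwa [mul_one, hM.mfun_one, mul_one] at this
  by_cases hc : A.1 1 0 = 0
  · obtain ⟨ha, hA⟩ := bruhat_small hc
    rw [hA, mul_assoc, hM.left_z, hM.left_k ha, hM.left_z, hgenk _ ha, mul_assoc]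
  · have hA := bruhat_big hc
    rw [hA, mul_assoc, hM.left_z, mul_assoc, hM.left_k (inv_ne_zero hc), mul_assoc, hM.left_t, hM.left_z,
      hM.left_z, hM.left_k (inv_ne_zero hc), hM.left_t, hgen]
    simp only [mul_assoc]

/-- The homomorphism from the special linear group. -/
noncomputable def mg : SL(2, L) →* G := MonoidHom.mk' (mfun t zp kp) hM.mfun_mul

theorem mg_z (x : L) : hM.mg (zmat x) = zp x := by
  have := hM.left_z x 1
  rwa [mul_one, hM.mfun_one, mul_one] at this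

theorem mg_k {x : L} (hx : x ≠ 0) : hM.mg (kmat x) = kp x := by
  have := hM.left_k hx 1
  rwa [mul_one, hM.mfun_one, mul_one] at this

theorem mg_t : hM.mg tmat = t := by
  have := hM.left_t 1
  rwa [mul_one, hM.mfun_one, mul_one] at this

theorem mg_fix_iff (A : SL(2, L)) : hM.mg A • a = a ↔ A.1 1 0 = 0 := by
  have hc := hM.ctx
  show mfun t zp kp A • a = a ↔ _
  unfold mfun
  constructor
  · intro h
    by_contra hne
    rw [if_neg hne] at h
    have hk := hM.coord.kp_mem hc (inv_ne_zero hne)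
    rw [mul_smul, mul_smul, mul_smul, R1.fix_a hc.hS (hc.zg_le_Q (hM.coord.zp_mem hc _)),
      show kp (A.1 1 0)⁻¹ • (t • a) = t • a from (Subgroup.mem_inf.1 (hc.kg_le hk)).2] at h
    exact R1.ta_ne hc.hS (MulAction.injective (zp (A.1 0 0 / A.1 1 0))
      (h.trans (R1.fix_a hc.hS (hc.zg_le_Q (hM.coord.zp_mem hc _))).symm))
  · intro h
    rw [if_pos h, mul_smul, hc.kg_fix (hM.coord.kp_mem hc (bruhat_small h).1),
      R1.fix_a hc.hS (hc.zg_le_Q (hM.coord.zp_mem hc _))]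

theorem mg_injective : Function.Injective hM.mg := by
  rw [injective_iff_map_eq_one]
  intro A hA
  have hc := hM.ctx
  have h10 : A.1 1 0 = 0 := (hM.mg_fix_iff A).1 (by rw [hA, one_smul])
  obtain ⟨ha, hA'⟩ := bruhat_small h10
  rw [hA', map_mul, hM.mg_z, hM.mg_k ha] at hA
  obtain ⟨h1, h2⟩ := R1.D_unique hc.hS (hc.zg_le_Q (hM.coord.zp_mem hc _)) (hc.kg_le (hM.coord.kp_mem hc ha))
    (one_mem Q) (one_mem (D G a t)) (by rw [hA, one_mul])
  have hx : A.1 0 0 * A.1 0 1 = 0 := hM.coord.zp_inj (h1.trans (hM.coord.zp_zero hc).symm)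
  have hy : A.1 0 0 = 1 := hM.coord.kp_inj _ _ ha one_ne_zero (h2.trans (hM.coord.kp_one hc).symm)
  rw [hA', hx, hy]
  refine sl_ext ?_ ?_ ?_ ?_ <;> simp [Matrix.SpecialLinearGroup.coe_mul, zmat_val, kmat_val (one_ne_zero (α := L)), Matrix.mul_apply, Fin.sum_univ_two]

end MCtx

end Cfsg.Agent.Lie.R1C
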