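import Cfsg.Agent.Lib.Lie.SplitRankOne.Sub
import Cfsg.Agent.Lib.Char.ZStar
import Cfsg.Agent.Lib.Perm.Fpf.Entry
import Cfsg.Agent.S0205

/-!
Centralizers in `Q` of subsets of `V`: two-groups by induction, or cyclic odd parts by the theorem on isolated
involutions.
-/

set_option autoImplicit false
set_option linter.unusedSectionVars false
set_option linter.unusedSimpArgs false
set_option linter.style.haveILetI false

namespace Cfsg.Agent.Lie.R1C

open Cfsg MulAction
open Cfsg.Agent.Lie.R1 (D tt t_inv tDt)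

universe u v

/-- Every rank-one set-up of two-rank at least two in a group of order less than `n` has a two-group `Q`. -/
def AllTwo (n : ℕ) : Prop :=
  ∀ (H : Type u) (Ω : Type v) [Group H] [Finite H] [MulAction H Ω] (a : Ω) (t : H) (Q : Subgroup H),
    Nat.card H < n → Ctx H Ω a t Q → IsPGroup 2 Q

variable {G : Type u} {Ω : Type v} [Group G] [MulAction G Ω] [Finite G] {a : Ω} {t : G} {Q : Subgroup G}
  (hc : Ctx G Ω a t Q)

include hc

/-- A simple group with a set-up has trivial centre. -/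
theorem Ctx.center_eq [IsSimpleGroup G] : Subgroup.center G = ⊥ := by
  refine (inferInstance : (Subgroup.center G).Normal).eq_bot_or_eq_top.resolve_right fun htop => ?_
  have hcomm : ∀ x y : G, x * y = y * x := fun x y =>
    Subgroup.mem_center_iff.1 (htop ▸ Subgroup.mem_top y : y ∈ Subgroup.center G) x
  obtain ⟨s, hs, hs1, -⟩ := R1.exists_inv hc.hS
  let Z : Subgroup G := Subgroup.zpowers s
  haveI : Z.Normal := ⟨fun x hx g => by rwa [hcomm g x, mul_inv_cancel_right]⟩
  have hZ : Z = ⊤ := (inferInstance : Z.Normal).eq_bot_or_eq_top.resolve_left fun h =>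
    hs1 (Subgroup.mem_bot.1 (h ▸ Subgroup.mem_zpowers s))
  exact hc.hS.not_mem (Subgroup.zpowers_le.2 (hc.hS.le hs) (hZ ▸ Subgroup.mem_top t : t ∈ Z))

/-- If the centralizer of `X` in `Z` has order at least four, the centralizer in `Q` is a two-group. -/
theorem Ctx.cent_two [IsSimpleGroup G] (IH : AllTwo.{u, v} (Nat.card G)) {X : Set G}
    (hX : X ⊆ (vg G a t : Set G)) {x : G} (hxX : x ∈ X) (hx1 : x ≠ 1) {z z' : G} (hz : z ∈ zg G a) (hz1 : z ≠ 1)
    (hz' : z' ∈ zg G a) (hz'1 : z' ≠ 1) (hne : z ≠ z') (hzX : ∀ x ∈ X, x * z = z * x)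
    (hzX' : ∀ x ∈ X, x * z' = z' * x) {q : G} (hq : q ∈ Q) (hqX : ∀ x ∈ X, x * q = q * x) :
    ∃ k : ℕ, q ^ 2 ^ k = 1 := by
  have hlt : Nat.card (Subgroup.centralizer X) < Nat.card G := by
    refine lt_of_le_of_ne (Nat.le_of_dvd Nat.card_pos (Subgroup.card_subgroup_dvd_card _)) fun h => hx1 ?_
    have htop := Subgroup.eq_top_of_card_eq _ h
    rw [← Subgroup.mem_bot (G := G), ← hc.center_eq]
    refine Subgroup.mem_center_iff.2 fun g => ?_
    exact (Subgroup.mem_centralizer_iff.1 (htop ▸ Subgroup.mem_top g : g ∈ Subgroup.centralizer X) x hxX).symm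
  have h2 := IH _ _ _ _ _ hlt (Sub.ctx hc.hS hX hc hz hz1 hz' hz'1 hne hzX hzX')
  obtain ⟨k, hk⟩ := h2 ⟨⟨q, Subgroup.mem_centralizer_iff.2 hqX⟩, hq⟩
  exact ⟨k, congrArg (fun y : Q.subgroupOf (Subgroup.centralizer X) => ((y : Subgroup.centralizer X) : G)) hk⟩

/-- If `v` centralises just one involution of `Z`, odd `p`-subgroups of `C_Q(v)` are cyclic. -/
theorem Ctx.cent_cyclic {v : G} (hv : v ∈ vg G a t) {s : G} (hs : s ∈ zg G a) (hs1 : s ≠ 1)
    (hsv : v * s = s * v) (huniq : ∀ z ∈ zg G a, v * z = z * v → z = 1 ∨ z = s) {p : ℕ} [Fact p.Prime]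
    (hp : p ≠ 2) {R : Subgroup G} (hRQ : R ≤ Q) (hRv : ∀ r ∈ R, v * r = r * v) (hR : IsPGroup p R) :
    IsCyclic R := by
  classical
  have hX : ({v} : Set G) ⊆ (vg G a t : Set G) := Set.singleton_subset_iff.2 hv
  have hS' := Sub.setup hc.hS hX
  obtain ⟨H, hH⟩ : ∃ H, H = Subgroup.centralizer ({v} : Set G) := ⟨_, rfl⟩
  subst hH
  set H := Subgroup.centralizer ({v} : Set G) with hH
  set Y := fixSpace G Ω ({v} : Set G) with hY
  haveI : Finite Y := R1.finite_Ω hS'
  let ρ : H →* Equiv.Perm Y := MulAction.toPermHom H Y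
  let C : Subgroup (Equiv.Perm Y) := ρ.range
  let ρ' : H →* C := ρ.rangeRestrict
  set b₀ : Y := Sub.pt hc.hS hX with hb₀
  set τ : H := Sub.tinv hc.hS hX with hτ
  have hsH : s ∈ H := Subgroup.mem_centralizer_singleton_iff.2 hsv.symm
  set σ : H := ⟨s, hsH⟩ with hσ
  have hsQ := hc.zg_le_Q hs
  have hσQ : σ ∈ Q.subgroupOf H := hsQ
  have hσ1 : σ ≠ 1 := fun e => hs1 (congrArg Subtype.val e)
  have hσb : σ • b₀ = b₀ := R1.fix_a hS' hσQ
  have hfix : ∀ y : Y, σ • y = y → y = b₀ := fun y hy => R1.inv_fix hS' hσQ hσ1 hy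
  have hσ2 : σ * σ = 1 := Subtype.ext (hc.zg_sq hs)
  have hact : ∀ (h : H) (y : Y), (ρ' h : Equiv.Perm Y) y = h • y := fun h y => rfl
  have hodd2 : ∀ (h : H) (y y' : Y), y ≠ y' → h • y = y → h • y' = y' → Odd (orderOf h) := by
    intro h y y' hne hy hy'
    obtain ⟨k, hk, hk'⟩ := R1.two_trans hS' hne (R1.ta_ne hS').symm
    have hmem : k * h * k⁻¹ ∈ D H b₀ τ := Subgroup.mem_inf.2
      ⟨by show (k * h * k⁻¹) • b₀ = b₀; rw [mul_smul, mul_smul, inv_smul_eq_iff.2 hk.symm, hy, hk],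
        by show (k * h * k⁻¹) • (τ • b₀) = τ • b₀; rw [mul_smul, mul_smul, inv_smul_eq_iff.2 hk'.symm, hy', hk']⟩
    have h1 : orderOf (k * h * k⁻¹) = orderOf h := MulEquiv.orderOf_eq (MulAut.conj k) h
    rw [← h1]
    exact hS'.odd_card.of_dvd_nat (Subgroup.orderOf_dvd_natCard _ hmem)
  have hσ' : ρ' σ ≠ 1 := fun e => by
    have := hfix (τ • b₀) (by rw [← hact, e]; rfl)
    exact R1.ta_ne hS' this
  have hinv : Char.OddInvol (ρ' σ) := by
    refine ⟨by rw [← map_mul, hσ2, map_one], hσ', fun c => ?_⟩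
    obtain ⟨g, rfl⟩ := ρ.rangeRestrict_surjective c
    show Odd (orderOf (ρ' σ * (ρ' g * ρ' σ * (ρ' g)⁻¹)))
    rw [← map_inv, ← map_mul, ← map_mul, ← map_mul]
    obtain ⟨u, hu⟩ : ∃ u, u = g * σ * g⁻¹ := ⟨_, rfl⟩
    rw [← hu]
    have hu2 : u * u = 1 := by
      rw [hu, show g * σ * g⁻¹ * (g * σ * g⁻¹) = g * (σ * σ) * g⁻¹ by group, hσ2]; group
    have hu1 : u ≠ 1 := fun e => hσ1 (by rw [hu] at e; exact conj_eq_one_iff.1 e)
    have hufix : ∀ y : Y, u • y = y → y = g • b₀ := fun y hy => by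
      have := hfix (g⁻¹ • y) (by
        rw [hu, mul_smul, mul_smul, ← eq_inv_smul_iff] at hy; exact hy)
      rw [← this, smul_inv_smul]
    by_cases hgb : g • b₀ = b₀
    · have hub : u • b₀ = b₀ := by
        rw [hu, mul_smul, mul_smul, inv_smul_eq_iff.2 hgb.symm, hσb, hgb]
      have huQ : (u : G) ∈ Q := R1.inv_mem_Q hS' hub hu2
      have huv : v * (u : G) = (u : G) * v := Subgroup.mem_centralizer_iff.1 u.2 v rfl
      rcases huniq (u : G) (hc.mem_zg_of_sq (hc.hS.le huQ) (congrArg Subtype.val hu2)) huv with e | e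
      · exact absurd (Subtype.ext e) hu1
      · rw [show u = σ from Subtype.ext e, hσ2, map_one, orderOf_one]; exact odd_one
    · by_contra hev
      obtain ⟨j, hj⟩ := Nat.not_odd_iff_even.1 hev
      set d := σ * u with hd
      have hpos : 0 < orderOf (ρ' d) := orderOf_pos _
      have hne : ρ' (d ^ j) ≠ 1 := fun e => by
        rw [map_pow] at e
        have := Nat.le_of_dvd (by omega) (orderOf_dvd_of_pow_eq_one e)
        omega
      have hsqd : ρ' (d ^ j) * ρ' (d ^ j) = 1 := by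
        rw [← map_mul, ← pow_add, map_pow, ← hj, pow_orderOf_eq_one]
      have hcs : ∀ w : H, w * w = 1 → w * d * w⁻¹ = d⁻¹ → ρ' w * ρ' (d ^ j) = ρ' (d ^ j) * ρ' w := by
        intro w hw hwd
        have h1 : w * d ^ j * w⁻¹ = (d ^ j)⁻¹ := by rw [← conj_pow, hwd, inv_pow]
        have h2 : (ρ' (d ^ j))⁻¹ = ρ' (d ^ j) := inv_eq_of_mul_eq_one_right hsqd
        have h3 := congrArg ρ' h1
        rw [map_mul, map_mul, map_inv, map_inv, h2] at h3
        exact mul_inv_eq_iff_eq_mul.1 h3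
      have c1 := hcs σ hσ2 (by
        rw [hd, _root_.mul_inv_rev, inv_eq_of_mul_eq_one_left hσ2, inv_eq_of_mul_eq_one_left hu2, ← mul_assoc σ σ, hσ2,
          one_mul])
      have c2 := hcs u hu2 (by
        rw [hd, _root_.mul_inv_rev, inv_eq_of_mul_eq_one_left hu2, inv_eq_of_mul_eq_one_left hσ2, mul_assoc,
          mul_assoc σ u u, hu2, mul_one])
      have e1 : (d ^ j) • b₀ = b₀ := by
        refine hfix _ ?_
        have := congrArg (fun c : C => (c : Equiv.Perm Y) b₀) c1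
        simp only [Subgroup.coe_mul, Equiv.Perm.mul_apply, hact, hσb] at this
        exact this
      have e2 : (d ^ j) • (g • b₀) = g • b₀ := by
        refine hufix _ ?_
        have hug : u • (g • b₀) = g • b₀ := by rw [hu, mul_smul, mul_smul, inv_smul_smul, hσb]
        have := congrArg (fun c : C => (c : Equiv.Perm Y) (g • b₀)) c2
        simp only [Subgroup.coe_mul, Equiv.Perm.mul_apply, hact, hug] at this
        exact this
      have ho := (hodd2 _ _ _ (fun e => hgb e.symm) e1 e2).of_dvd_nat (orderOf_map_dvd ρ' _)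
      rw [orderOf_eq_prime (p := 2) (by rw [pow_two]; exact hsqd) hne] at ho
      exact absurd ho (by decide)
  have hO : oddCore C ≠ ⊥ := fun hO => by
    have := congrArg (fun c : C => (c : Equiv.Perm Y) b₀) (Char.zStar_central hinv hO (ρ' τ))
    simp only [Subgroup.coe_mul, Equiv.Perm.mul_apply, hact, hσb] at this
    exact R1.ta_ne hS' (hfix _ this)
  haveI hOn : (oddCore C).Normal := Solv.pPrimeCore_normal 2
  haveI : Group.IsSolvable (oddCore C) := Cfsg.Agent.S0205.result (Char.card_oddCore_odd C)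
  -- the last nontrivial derived subgroup
  let M' : ℕ → Subgroup C := fun k => (derivedSeries (oddCore C) k).map (oddCore C).subtype
  have hMn : ∀ k, (M' k).Normal := by
    intro k
    induction k with
    | zero =>
      show ((derivedSeries (oddCore C) 0).map (oddCore C).subtype).Normal
      rw [derivedSeries_zero, ← MonoidHom.range_eq_map, Subgroup.range_subtype]
      exact hOn
    | succ k ih =>
      show ((derivedSeries (oddCore C) (k + 1)).map (oddCore C).subtype).Normal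
      rw [derivedSeries_succ, Subgroup.map_commutator]
      exact Subgroup.commutator_normal _ _
  obtain ⟨n, hn⟩ := (Group.isSolvable_def _).1 (inferInstance : Group.IsSolvable (oddCore C))
  have hex : ∃ k, M' k = ⊥ := ⟨n, by
    show (derivedSeries (oddCore C) n).map _ = ⊥
    rw [hn, Subgroup.map_bot]⟩
  have hf0 : Nat.find hex ≠ 0 := fun e => hO (by
    have h1 := Nat.find_spec hex
    rw [e] at h1
    simpa [M', ← MonoidHom.range_eq_map] using h1)
  obtain ⟨k, hk⟩ := Nat.exists_eq_succ_of_ne_zero hf0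
  obtain ⟨M, hM⟩ : ∃ M, M = M' k := ⟨_, rfl⟩
  haveI : M.Normal := hM ▸ hMn k
  have hMne : M ≠ ⊥ := hM ▸ Nat.find_min hex (by omega)
  have hMab : ∀ x ∈ M, ∀ y ∈ M, x * y = y * x := fun x hx y hy => by
    have h1 := Nat.find_spec hex
    rw [hk] at h1
    have h2 : ⁅M, M⁆ = ⊥ := by
      rw [hM, ← Subgroup.map_commutator, ← h1]
      rfl
    have := h2 ▸ Subgroup.commutator_mem_commutator hx hy
    exact commutatorElement_eq_one_iff_mul_comm.1 (Subgroup.mem_bot.1 this)
  -- it is regular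
  obtain ⟨m, hm, hm1⟩ : ∃ m ∈ M, m ≠ 1 := by
    by_contra hh
    push Not at hh
    exact hMne ((Subgroup.eq_bot_iff_forall M).2 hh)
  obtain ⟨y₁, hy₁⟩ : ∃ y : Y, (m : Equiv.Perm Y) y ≠ y := by
    by_contra hh
    push Not at hh
    exact hm1 (Subtype.ext (Equiv.ext hh))
  have htrans : ∀ y : Y, ∃ m' ∈ M, (m' : Equiv.Perm Y) b₀ = y := by
    intro y
    by_cases hy : y = b₀
    · exact ⟨1, one_mem _, by rw [hy]; rfl⟩
    obtain ⟨g, hg1, hg2⟩ := R1.two_trans hS' (Ne.symm hy₁) (Ne.symm hy)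
    refine ⟨ρ' g * m * (ρ' g)⁻¹, (inferInstance : M.Normal).conj_mem m hm _, ?_⟩
    rw [Subgroup.coe_mul, Subgroup.coe_mul, Equiv.Perm.mul_apply, Equiv.Perm.mul_apply, ← map_inv, hact, hact,
      inv_smul_eq_iff.2 hg1.symm, hg2]
  have hreg : ∀ m ∈ M, (m : Equiv.Perm Y) b₀ = b₀ → m = 1 := by
    intro m hm e
    refine Subtype.ext (Equiv.ext fun y => ?_)
    obtain ⟨m', hm', rfl⟩ := htrans y
    rw [← Equiv.Perm.mul_apply, ← Subgroup.coe_mul, hMab m hm m' hm', Subgroup.coe_mul, Equiv.Perm.mul_apply, e]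
    rfl
  -- the fixed-point-free action
  rcases subsingleton_or_nontrivial R with hsub | hnt
  · exact isCyclic_of_subsingleton
  haveI : Nontrivial M := (Subgroup.nontrivial_iff_ne_bot M).2 hMne
  let ι : R →* H := (Subgroup.inclusion (fun r hr => Subgroup.mem_centralizer_singleton_iff.2 (hRv r hr).symm : R ≤ H))
  let φ : R →* MulAut M := (MulAut.conjNormal.comp ρ').comp ι
  obtain ⟨K, i1, i2, nn, ρF, hn0, hρF⟩ := Perm.Fpf.hasFpf_of_action φ (fun r hr1 m' hfix' => by
    have hcm : ρ' (ι r) * (m' : C) = (m' : C) * ρ' (ι r) := by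
      have : ρ' (ι r) * (m' : C) * (ρ' (ι r))⁻¹ = m' := congrArg Subtype.val hfix'
      exact mul_inv_eq_iff_eq_mul.1 this
    have hr : ι r • b₀ = b₀ := R1.fix_a hS' (hRQ r.2 : (ι r : G) ∈ Q)
    have e := congrArg (fun c : C => (c : Equiv.Perm Y) b₀) hcm
    simp only [Subgroup.coe_mul, Equiv.Perm.mul_apply, hact, hr] at e
    refine Subtype.ext (hreg _ m'.2 ?_)
    by_contra hne
    refine hr1 (Subtype.ext ?_)
    have := R1.q_free hS' (q := ι r) (hRQ r.2) hne e
    exact congrArg (fun h : H => (h : G)) this)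
  haveI : Nonempty (Fin nn) := ⟨⟨0, hn0⟩⟩
  haveI := hρF.isCyclic_of_odd hp (⊤ : Subgroup R) (hR.of_equiv Subgroup.topEquiv.symm)
  exact isCyclic_of_surjective _ (Subgroup.topEquiv (G := R)).surjective

end Cfsg.Agent.Lie.R1C
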