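import Cfsg.Agent.Lib.Lie.SplitRankOne.Setup
import Cfsg.Agent.Lib.Solv.Engel

/-!
The regular nilpotent subgroup as the product of its `p`-part and its `p'`-part.
-/

set_option autoImplicit false
set_option linter.unusedSectionVars false
set_option linter.unusedSimpArgs false
set_option linter.style.haveILetI false

namespace Cfsg.Agent.Lie.R1C

open Cfsg MulAction

variable {G : Type*} [Group G]

/-- `S` is the `p`-part and `U` the `p'`-part of the nilpotent subgroup `Q`. -/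
structure PSplit (Q : Subgroup G) (p : ℕ) (S U : Subgroup G) : Prop where
  S_le : S ≤ Q
  U_le : U ≤ Q
  S_pgroup : IsPGroup p S
  U_coprime : ¬ p ∣ Nat.card U
  comm : ∀ s ∈ S, ∀ u ∈ U, s * u = u * s
  decomp : ∀ x ∈ Q, ∃ s ∈ S, ∃ u ∈ U, x = s * u
  mem_S : ∀ x ∈ Q, ∀ k : ℕ, x ^ p ^ k = 1 → x ∈ S
  mem_U : ∀ x ∈ Q, ¬ p ∣ orderOf x → x ∈ U

variable [Finite G]

theorem exists_psplit {Q : Subgroup G} (hnil : Group.IsNilpotent Q) {p : ℕ} (hp : p.Prime) :
    ∃ S U : Subgroup G, PSplit Q p S U := by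
  classical
  haveI := Fact.mk hp
  haveI := hnil
  obtain ⟨P⟩ := (inferInstance : Nonempty (Sylow p Q))
  haveI : (P : Subgroup Q).Normal :=
    ((Group.isNilpotent_of_finite_tfae (G := Q)).out 0 3
      (a := Group.IsNilpotent Q)
      (b := ∀ (q : ℕ) (_ : Fact q.Prime) (R : Sylow q Q), (R : Subgroup Q).Normal)).1 hnil p ⟨hp⟩ P
  obtain ⟨K, hK⟩ := Subgroup.exists_right_complement'_of_coprime P.card_coprime_index
  have hKcard : Nat.card K = (P : Subgroup Q).index := hK.symm.index_eq_card.symm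
  have hKp : ¬ p ∣ Nat.card K := hKcard ▸ P.not_dvd_index
  have hcomm : ∀ s ∈ (P : Subgroup Q), ∀ u ∈ K, s * u = u * s := fun s hs u hu => by
    obtain ⟨k, hk⟩ := IsPGroup.iff_orderOf.1 P.isPGroup' ⟨s, hs⟩
    rw [Subgroup.orderOf_mk] at hk
    refine (Solv.commute_of_coprime_nilpotent hk ?_).eq
    exact (hp.coprime_iff_not_dvd.2 fun h => hKp (h.trans (Subgroup.orderOf_dvd_natCard K hu))).symm
  have hdec : ∀ x : Q, ∃ s ∈ (P : Subgroup Q), ∃ u ∈ K, x = s * u := fun x => by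
    obtain ⟨⟨⟨s, hs⟩, ⟨u, hu⟩⟩, h⟩ := hK.existsUnique x |>.exists
    exact ⟨s, hs, u, hu, h.symm⟩
  refine ⟨(P : Subgroup Q).map Q.subtype, K.map Q.subtype, Subgroup.map_subtype_le _, Subgroup.map_subtype_le _,
    P.isPGroup'.map _, ?_, ?_, fun x hx => ?_, fun x hx k hk => ?_, fun x hx hxp => ?_⟩
  · rwa [Subgroup.card_map_of_injective Q.subtype_injective]
  · rintro _ ⟨s, hs, rfl⟩ _ ⟨u, hu, rfl⟩
    exact congrArg Subtype.val (hcomm s hs u hu)
  · obtain ⟨s, hs, u, hu, e⟩ := hdec ⟨x, hx⟩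
    exact ⟨s, ⟨s, hs, rfl⟩, u, ⟨u, hu, rfl⟩, congrArg Subtype.val e⟩
  · obtain ⟨s, hs, u, hu, e⟩ := hdec ⟨x, hx⟩
    have h1 : (⟨x, hx⟩ : Q) ^ p ^ k = 1 := Subtype.ext (by simpa using hk)
    rw [e, (show Commute s u from hcomm s hs u hu).mul_pow] at h1
    obtain ⟨j, hj⟩ := P.isPGroup' ⟨s, hs⟩
    have hj' : s ^ p ^ j = 1 := congrArg Subtype.val hj
    have h2 := congrArg (fun y : Q => y ^ p ^ j) h1
    simp only [one_pow] at h2
    rw [(((show Commute s u from hcomm s hs u hu).pow_pow _ _)).mul_pow, ← pow_mul, ← pow_mul, mul_comm,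
      pow_mul, hj', one_pow, one_mul, mul_comm, ← pow_add] at h2
    have hu1 : u = 1 := by
      rw [← orderOf_eq_one_iff]
      exact Nat.eq_one_of_dvd_coprimes (Nat.Coprime.pow_left _ (hp.coprime_iff_not_dvd.2 hKp))
        (orderOf_dvd_of_pow_eq_one h2) (Subgroup.orderOf_dvd_natCard K hu)
    exact ⟨s, hs, by rw [hu1, mul_one] at e; exact congrArg Subtype.val e.symm⟩
  · obtain ⟨s, hs, u, hu, e⟩ := hdec ⟨x, hx⟩
    obtain ⟨j, hj⟩ := IsPGroup.iff_orderOf.1 P.isPGroup' ⟨s, hs⟩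
    rw [Subgroup.orderOf_mk] at hj
    have hco : (orderOf s).Coprime (orderOf u) := by
      rw [hj]
      exact Nat.Coprime.pow_left _
        (hp.coprime_iff_not_dvd.2 fun h => hKp (h.trans (Subgroup.orderOf_dvd_natCard K hu)))
    have ho := (show Commute s u from hcomm s hs u hu).orderOf_mul_eq_mul_orderOf_of_coprime hco
    rw [← e, Subgroup.orderOf_mk] at ho
    have hs1 : s = 1 := by
      rcases Nat.eq_zero_or_pos j with rfl | hj0
      · exact orderOf_eq_one_iff.1 (by simpa using hj)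
      · exact absurd (ho ▸ dvd_mul_of_dvd_left (hj ▸ dvd_pow_self p hj0.ne') _) hxp
    exact ⟨u, hu, by rw [hs1, one_mul] at e; exact congrArg Subtype.val e.symm⟩

namespace PSplit

variable {Q S U : Subgroup G} {p : ℕ} (h : PSplit Q p S U) (hp : p.Prime)

include h hp

theorem inter {x : G} (hs : x ∈ S) (hu : x ∈ U) : x = 1 := by
  haveI := Fact.mk hp
  obtain ⟨k, hk⟩ := IsPGroup.iff_orderOf.1 h.S_pgroup ⟨x, hs⟩
  rw [Subgroup.orderOf_mk] at hk
  rcases Nat.eq_zero_or_pos k with rfl | hk0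
  · exact orderOf_eq_one_iff.1 (by simpa using hk)
  · exact absurd ((hk ▸ dvd_pow_self p hk0.ne' : p ∣ orderOf x).trans (Subgroup.orderOf_dvd_natCard U hu))
      h.U_coprime

theorem unique {s s' u u' : G} (hs : s ∈ S) (hs' : s' ∈ S) (hu : u ∈ U) (hu' : u' ∈ U)
    (e : s * u = s' * u') : s = s' ∧ u = u' := by
  have e' : s'⁻¹ * s = u' * u⁻¹ := by
    rw [eq_mul_inv_iff_mul_eq, mul_assoc, e, inv_mul_cancel_left]
  have h1 := h.inter hp (mul_mem (inv_mem hs') hs) (e' ▸ mul_mem hu' (inv_mem hu))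
  have hss := (inv_mul_eq_one.1 h1).symm
  subst hss
  exact ⟨rfl, mul_left_cancel e⟩

/-- The decomposition as an isomorphism. -/
noncomputable def equiv : (S × U) ≃* Q :=
  MulEquiv.ofBijective
    (MonoidHom.mk' (fun x : S × U => (⟨(x.1 : G) * x.2, mul_mem (h.S_le x.1.2) (h.U_le x.2.2)⟩ : Q))
      fun x y => Subtype.ext (by
        have := h.comm y.1 y.1.2 x.2 x.2.2
        simp only [Prod.fst_mul, Prod.snd_mul, Subgroup.coe_mul]
        rw [mul_assoc (x.1 : G) (x.2 : G), ← mul_assoc (x.2 : G), ← this]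
        simp only [mul_assoc]))
    ⟨fun x y e => by
      obtain ⟨e1, e2⟩ := h.unique hp x.1.2 y.1.2 x.2.2 y.2.2 (congrArg Subtype.val e)
      exact Prod.ext (Subtype.ext e1) (Subtype.ext e2),
    fun x => by
      obtain ⟨s, hs, u, hu, e⟩ := h.decomp x x.2
      exact ⟨(⟨s, hs⟩, ⟨u, hu⟩), Subtype.ext e.symm⟩⟩

theorem card_eq : Nat.card Q = Nat.card S * Nat.card U := by
  rw [← Nat.card_prod]; exact (Nat.card_congr (h.equiv hp).toEquiv).symm

theorem card_S : Nat.card S = p ^ (Nat.card Q).factorization p := by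
  haveI := Fact.mk hp
  obtain ⟨k, hk⟩ := h.S_pgroup.exists_card_eq
  rw [h.card_eq hp, Nat.factorization_mul Nat.card_pos.ne' Nat.card_pos.ne', Finsupp.add_apply,
    Nat.factorization_eq_zero_of_not_dvd h.U_coprime, hk, hp.factorization_pow, Finsupp.single_eq_same, add_zero]

/-- An element of order `p` in the centre of `Q`. -/
theorem exists_central (hdvd : p ∣ Nat.card Q) :
    ∃ x ∈ S, orderOf x = p ∧ ∀ y ∈ Q, x * y = y * x := by
  haveI := Fact.mk hp
  haveI : Nontrivial S := by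
    rw [← Finite.one_lt_card_iff_nontrivial, h.card_S hp]
    exact Nat.one_lt_pow (hp.factorization_pos_of_dvd Nat.card_pos.ne' hdvd).ne' hp.one_lt
  haveI := h.S_pgroup.center_nontrivial
  obtain ⟨k, hk0, hk⟩ := (h.S_pgroup.to_subgroup (Subgroup.center S)).nontrivial_iff_card.1 inferInstance
  obtain ⟨z, hz⟩ := exists_prime_orderOf_dvd_card' (G := Subgroup.center S) p (hk ▸ dvd_pow_self p hk0.ne')
  refine ⟨((z : S) : G), (z : S).2, by rw [Subgroup.orderOf_coe, Subgroup.orderOf_coe, hz], fun y hy => ?_⟩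
  obtain ⟨s, hs, u, hu, rfl⟩ := h.decomp y hy
  have e1 : ((z : S) : G) * s = s * (z : S) :=
    (congrArg Subtype.val (Subgroup.mem_center_iff.1 z.2 ⟨s, hs⟩)).symm
  rw [← mul_assoc, e1, mul_assoc, h.comm _ (z : S).2 u hu, ← mul_assoc]

omit hp in
/-- Both parts are invariant under automorphisms of `Q` coming from conjugation. -/
theorem conj_mem {g : G} (hg : ∀ x ∈ Q, g * x * g⁻¹ ∈ Q) [Fact p.Prime] :
    (∀ x ∈ S, g * x * g⁻¹ ∈ S) ∧ ∀ x ∈ U, g * x * g⁻¹ ∈ U := by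
  refine ⟨fun x hx => ?_, fun x hx => h.mem_U _ (hg x (h.U_le hx)) ?_⟩
  · obtain ⟨k, hk⟩ := h.S_pgroup ⟨x, hx⟩
    refine h.mem_S _ (hg x (h.S_le hx)) k ?_
    rw [conj_pow, show x ^ p ^ k = 1 from congrArg Subtype.val hk]
    group
  · rw [show g * x * g⁻¹ = MulAut.conj g x from rfl, MulEquiv.orderOf_eq]
    exact fun hd => h.U_coprime (hd.trans (Subgroup.orderOf_dvd_natCard U hx))

end PSplit

end Cfsg.Agent.Lie.R1C
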