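import Cfsg.Agent.Lib.Lie.SplitRankOne.CaseAGroup
import Cfsg.Agent.Lib.Lie.SplitRankOne.Isolated
import Cfsg.Agent.Lib.Lie.SplitRankOne.Basic
import Cfsg.Agent.Lib.Lie.SplitRankOne.NilQ

/-!
If an element of prime order of `V` lies outside `W`, then `Q` is a two-group.
-/

set_option autoImplicit false
set_option linter.unusedSectionVars false
set_option linter.unusedSimpArgs false
set_option linter.style.haveILetI false

namespace Cfsg.Agent.Lie.R1C

open Cfsg MulAction
open Cfsg.Agent.Lie.R1 (D tt t_inv tDt)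

universe u v

/-- An automorphism of prime order of a field of two-power order fixing only the prime field generates all
automorphisms. -/
theorem exists_frob {L : Type} [Field L] [Fintype L] [CharP L 2] {f : ℕ} (hL : Fintype.card L = 2 ^ f)
    (σ : L ≃+* L) {l : ℕ} (hl : l.Prime) (hσ : ∀ x, σ^[l] x = x) (hne : ∃ x, σ x ≠ x)
    (hfix : ∀ x, σ x = x → x = 0 ∨ x = 1) : f = l ∧ ∃ i, ∀ x, σ^[i] x = x ^ 2 := by
  classical
  letI : Algebra (ZMod 2) L := ZMod.algebra L 2
  let τ : L ≃ₐ[ZMod 2] L := AlgEquiv.ofRingEquiv (f := σ) fun c =>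
    RingHom.congr_fun (RingHom.ext_zmod (σ.toRingHom.comp (algebraMap (ZMod 2) L)) (algebraMap (ZMod 2) L)) c
  have hpow : ∀ (i : ℕ) (x : L), (τ ^ i) x = σ^[i] x := fun i => by
    induction i with
    | zero => intro x; rfl
    | succ i ih => intro x; rw [pow_succ, AlgEquiv.mul_apply, ih, Function.iterate_succ_apply]; rfl
  haveI := Fact.mk hl
  have hord : orderOf τ = l := orderOf_eq_prime (AlgEquiv.ext fun x => by rw [hpow, hσ]; rfl) fun e => by
    obtain ⟨x, hx⟩ := hne
    exact hx (show τ x = x by rw [e]; rfl)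
  haveI : FiniteDimensional (ZMod 2) L := Module.Finite.of_finite
  have hf : Module.finrank (ZMod 2) L = f := by
    have h1 := Module.card_eq_pow_finrank (K := ZMod 2) (V := L)
    rw [hL, ZMod.card] at h1
    exact (Nat.pow_right_injective le_rfl h1).symm
  have hbot : IntermediateField.fixedField (Subgroup.zpowers τ) = ⊥ := by
    refine eq_bot_iff.2 fun x hx => ?_
    rcases hfix x (hx ⟨τ, Subgroup.mem_zpowers τ⟩) with rfl | rfl
    exacts [zero_mem _, one_mem _]
  have hcard := IntermediateField.finrank_fixedField_eq_card (F := ZMod 2) (E := L) (Subgroup.zpowers τ)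
  rw [hbot, IntermediateField.finrank_bot', hf, Nat.card_zpowers, hord] at hcard
  refine ⟨hcard, ?_⟩
  have htop : Subgroup.zpowers τ = ⊤ := Subgroup.eq_top_of_card_eq _ (by
    rw [Nat.card_zpowers, hord, IsGalois.card_aut_eq_finrank, hf, hcard])
  obtain ⟨i, hi⟩ := (isOfFinOrder_of_finite τ).mem_powers_iff_mem_zpowers.2
    (htop ▸ Subgroup.mem_top (FiniteField.frobeniusAlgEquivOfAlgebraic (ZMod 2) L) :
      FiniteField.frobeniusAlgEquivOfAlgebraic (ZMod 2) L ∈ Subgroup.zpowers τ)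
  refine ⟨i, fun x => ?_⟩
  rw [← hpow]
  have := DFunLike.congr_fun hi x
  simpa [FiniteField.coe_frobeniusAlgEquivOfAlgebraic] using this

variable {G : Type u} {Ω : Type v} [Group G] [MulAction G Ω] [Finite G] {a : Ω} {t : G} {Q : Subgroup G}
  (hc : Ctx G Ω a t Q)

/-- Conjugation as an automorphism of an invariant subgroup. -/
noncomputable def conjSub (P : Subgroup G) (g : G) (h : ∀ x ∈ P, g * x * g⁻¹ ∈ P) : MulAut P :=
  AutPair.sub (MulAut.conj g) P h

theorem conjSub_pow (P : Subgroup G) (g : G) (h : ∀ x ∈ P, g * x * g⁻¹ ∈ P) (d : ℕ) (x : P) :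
    (((conjSub P g h) ^ d) x : G) = g ^ d * x * (g ^ d)⁻¹ := by
  refine (AutPair.sub_pow (MulAut.conj g) P h d x).trans ?_
  rw [← map_pow]
  rfl

theorem conjSub_coe (P : Subgroup G) (g : G) (h : ∀ x ∈ P, g * x * g⁻¹ ∈ P) (x : P) :
    (conjSub P g h x : G) = g * x * g⁻¹ := rfl

include hc

variable [IsSimpleGroup G] (IH : AllTwo.{u, v} (Nat.card G))

include IH

/-- An element of prime order outside `W` may be chosen squaring the torus, with its cyclic-fixed-point pair. -/
theorem Ctx.frob_elem {v : G} (hv : v ∈ vg G a t) (hvW : v ∉ wg G a t) (hvl : (orderOf v).Prime) {p : ℕ}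
    (hp : p.Prime) (hp2 : p ≠ 2) (hpQ : p ∣ Nat.card Q) {P U : Subgroup G} (hPU : PSplit Q p P U) :
    Nat.card (zg G a) = 2 ^ orderOf v ∧ orderOf v ≠ p ∧ ∃ κ ν : MulAut P, AutPair.Pair p (orderOf v) κ ν := by
  classical
  haveI := Fact.mk hp
  obtain ⟨L, i1, i2, f, zp, kp, hf, hL, hZ, hC⟩ := hc.exists_coord
  haveI := hC.charTwo
  obtain ⟨σ, hσz, hσk⟩ := hC.semilinear hc hv
  obtain ⟨l, hldef⟩ : ∃ l, l = orderOf v := ⟨_, rfl⟩
  rw [← hldef] at hvl ⊢
  have hkpow : ∀ (i : ℕ) (x : L), x ≠ 0 → v ^ i * kp x * (v ^ i)⁻¹ = kp (σ^[i] x) := by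
    intro i
    induction i with
    | zero => intro x _; simp
    | succ i ih =>
      intro x hx
      rw [Function.iterate_succ_apply, ← ih (σ x) (by simpa using hx), ← hσk x hx, pow_succ]
      group
  have hzpow : ∀ (i : ℕ) (x : L), v ^ i * zp x * (v ^ i)⁻¹ = zp (σ^[i] x) := by
    intro i
    induction i with
    | zero => intro x; simp
    | succ i ih => intro x; rw [Function.iterate_succ_apply, ← ih (σ x), ← hσz x, pow_succ]; group
  have hvlone : v ^ l = 1 := hldef ▸ pow_orderOf_eq_one v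
  have hσl : ∀ x, σ^[l] x = x := fun x => hC.zp_inj (by rw [← hzpow, hvlone]; simp)
  have hwg : ∀ u ∈ vg G a t, (∀ x, u * zp x * u⁻¹ = zp x) → u ∈ wg G a t := by
    intro u hu h
    refine Subgroup.mem_inf.2 ⟨hc.vg_le hu, Subgroup.mem_centralizer_iff.2 fun z hz => ?_⟩
    obtain ⟨x, rfl⟩ := (hC.mem_zp z).1 (hc.mem_zg.2 (Or.inr hz))
    exact (mul_inv_eq_iff_eq_mul.1 (h x)).symm
  have hfree : ∀ i, 0 < i → i < l → ∃ x, σ^[i] x ≠ x := by
    intro i h0 hi
    by_contra hh
    push Not at hh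
    have hw := hwg _ (pow_mem hv i) fun x => by rw [hzpow, hh]
    have hco : i.Coprime l := Nat.Coprime.symm (hvl.coprime_iff_not_dvd.2 fun h =>
      absurd (Nat.le_of_dvd h0 h) (by omega))
    obtain ⟨c, hc'⟩ := exists_pow_eq_self_of_coprime (x := v) (n := i) (by rwa [← hldef])
    exact hvW (hc' ▸ pow_mem hw c)
  have hl3 : 3 ≤ l := by
    have h2 := hvl.two_le
    have hodd : Odd l := hc.odd_vg.of_dvd_nat (hldef ▸ Subgroup.orderOf_dvd_natCard _ hv)
    obtain ⟨c, hc'⟩ := hodd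
    omega
  -- the torus generator
  obtain ⟨g₀, hg₀⟩ := IsCyclic.exists_generator (α := Lˣ)
  obtain ⟨g, hg⟩ : ∃ g : L, g = (g₀ : L) := ⟨_, rfl⟩
  have hg0 : g ≠ 0 := hg ▸ g₀.ne_zero
  have hgen : ∀ x : L, x ≠ 0 → ∃ d : ℕ, g ^ d = x := fun x hx => by
    obtain ⟨d, hd⟩ := (isOfFinOrder_of_finite g₀).mem_powers_iff_mem_zpowers.2 (hg₀ (Units.mk0 x hx))
    exact ⟨d, by rw [hg, ← Units.val_pow_eq_pow_val]; exact congrArg Units.val hd⟩
  have hordg : orderOf g = 2 ^ f - 1 := by
    rw [hg, orderOf_units, orderOf_eq_card_of_forall_mem_zpowers hg₀, Nat.card_units,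
      Nat.card_eq_fintype_card, hL]
  have hk : kp g ∈ kg G a t := hC.kp_mem hc hg0
  have hkd : ∀ d, kp g ^ d = kp (g ^ d) := fun d => by
    induction d with
    | zero => rw [pow_zero, pow_zero, hC.kp_one hc]
    | succ d ih => rw [pow_succ, ih, pow_succ, hC.kp_mul _ _ (pow_ne_zero d hg0) hg0]
  have hq4 : 4 ≤ 2 ^ f := Nat.pow_le_pow_right (show 0 < 2 by norm_num) hf
  have hkn : kp g ^ (2 ^ f - 1) = 1 := by rw [hkd, ← hordg, pow_orderOf_eq_one, hC.kp_one hc]
  have hkfix : ∀ d, 0 < d → d < 2 ^ f - 1 → ∀ x ∈ Q, kp g ^ d * x * (kp g ^ d)⁻¹ = x → x = 1 := by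
    intro d h0 hd x hx e
    refine hc.kg_fpf (pow_mem hk d) (fun h => ?_) hx (mul_inv_eq_iff_eq_mul.1 e)
    rw [hkd, ← hC.kp_one hc] at h
    have := Nat.le_of_dvd h0 (orderOf_dvd_of_pow_eq_one (hC.kp_inj _ _ (pow_ne_zero d hg0) one_ne_zero h))
    omega
  -- actions on the `p`-part
  have hPQ : ∀ d : G, d • a = a → ∀ x ∈ P, d * x * d⁻¹ ∈ P := fun d hd =>
    (hPU.conj_mem fun x hx => R1.conj_Q hc.hS hd hx).1
  obtain ⟨x₀, hx₀, hx₀p, -⟩ := hPU.exists_central hp hpQ
  haveI : Nontrivial P := ⟨⟨⟨x₀, hx₀⟩, 1, fun e => hp.ne_one (by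
    rw [← hx₀p, show x₀ = 1 from congrArg Subtype.val e, orderOf_one])⟩⟩
  set κ := conjSub P (kp g) (hPQ _ (hc.kg_fix hk)) with hκdef
  have hκn : κ ^ (2 ^ f - 1) = 1 := MulEquiv.ext fun x => Subtype.ext (by
    rw [conjSub_pow, hkn, one_mul, inv_one, mul_one]; rfl)
  have hκfpf : ∀ d, 0 < d → d < 2 ^ f - 1 → ∀ x, (κ ^ d) x = x → x = 1 := fun d h0 hd x e =>
    Subtype.ext (hkfix d h0 hd x (hPU.S_le x.2) (by rw [← conjSub_pow P _ (hPQ _ (hc.kg_fix hk)), e]))
  by_cases hfixed : ∃ x, σ x = x ∧ x ≠ 0 ∧ x ≠ 1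
  · -- two involutions commute with `v`
    exfalso
    obtain ⟨x, hx, hx0, hx1⟩ := hfixed
    set E := AutPair.omegaCenter P p with hE
    haveI : Nontrivial E := (Subgroup.nontrivial_iff_ne_bot _).2 (AutPair.omegaCenter_ne hPU.S_pgroup)
    letI : CommGroup E := { (inferInstance : Group E) with
      mul_comm := fun x y => Subtype.ext (Subgroup.mem_center_iff.1 y.2.1 x) }
    set ν := conjSub P v (hPQ _ (hc.vg_fix hv)) with hνdef
    choose m hm using fun i => hgen (σ^[i] g) (by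
      induction i with
      | zero => simpa using hg0
      | succ i ih => rw [Function.iterate_succ_apply']; simpa using ih)
    have hmκ : ∀ i j (x : E), ((AutPair.sub ν E (AutPair.omegaCenter_inv ν)) ^ i)
        (((AutPair.sub κ E (AutPair.omegaCenter_inv κ)) ^ j) x) =
          ((AutPair.sub κ E (AutPair.omegaCenter_inv κ)) ^ (j * m i))
            (((AutPair.sub ν E (AutPair.omegaCenter_inv ν)) ^ i) x) := by
      intro i j x
      refine Subtype.ext (Subtype.ext ?_)
      simp only [hνdef, hκdef, AutPair.sub_pow, conjSub_pow]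
      have e : v ^ i * kp g ^ j * (v ^ i)⁻¹ = kp g ^ (j * m i) := by
        rw [← conj_pow, hkpow i g hg0, ← hm i, ← hkd, ← pow_mul, mul_comm]
      rw [← e]; group
    have hcop : p.Coprime (2 ^ f - 1) := hp.coprime_iff_not_dvd.2 fun ⟨c, hc'⟩ => by
      have hc0 : 0 < c := Nat.pos_of_ne_zero fun e => by simp [e] at hc'; omega
      obtain ⟨y, hy1, hy⟩ := AutPair.exists_fix_ne hPU.S_pgroup (e := κ ^ c) (by
        rw [← pow_mul, mul_comm, ← hc', hκn])
      refine hy1 (hκfpf c hc0 ?_ y hy)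
      rw [hc']; exact lt_mul_left hc0 hp.one_lt
    have htop := AutPair.eq_top_of_average (A := E) (hPU.S_pgroup.to_subgroup E) hcop
      (κ := AutPair.sub κ E (AutPair.omegaCenter_inv κ)) (ν := AutPair.sub ν E (AutPair.omegaCenter_inv ν))
      (MulEquiv.ext fun y => Subtype.ext (by rw [AutPair.sub_pow, hκn]; rfl)) (by omega)
      (fun d h0 hd y e => Subtype.ext (hκfpf d h0 hd y (by
        rw [← AutPair.sub_pow κ E (AutPair.omegaCenter_inv κ), e])))
      (l := l) (MulEquiv.ext fun y => Subtype.ext (Subtype.ext (by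
        rw [AutPair.sub_pow, conjSub_pow, hvlone, one_mul, inv_one, mul_one]; rfl))) hvl.pos m hmκ
      (fun i h0 hi e => by
        obtain ⟨y, hy⟩ := hfree i h0 hi
        apply hy
        have h1 : σ^[i] g = g := by
          rw [← hm i, ← pow_mod_orderOf g (m i), hordg, e, pow_one]
        by_cases hy0 : y = 0
        · rw [hy0]
          exact iterate_map_zero σ i
        · obtain ⟨d, rfl⟩ := hgen y hy0
          rw [iterate_map_pow σ i, h1])
      ⊥ (fun y hy => by rw [Subgroup.mem_bot.1 hy, map_one]; exact one_mem _)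
      (fun y hy => Subgroup.mem_bot.2 (Subtype.ext (Subtype.ext (by
        have hcy : v * ((y : P) : G) = ((y : P) : G) * v :=
          mul_inv_eq_iff_eq_mul.1 (congrArg (fun u : E => ((u : P) : G)) (AutPair.mem_fix.1 hy))
        have hone : σ 1 = 1 := map_one σ
        obtain ⟨k, hk'⟩ := hc.cent_two IH (X := {v}) (Set.singleton_subset_iff.2 hv) rfl
          (fun h => hvl.ne_one (by rw [hldef, h, orderOf_one]))
          (hC.zp_mem hc 1) (fun h => one_ne_zero (α := L) (hC.zp_inj (h.trans (hC.zp_zero hc).symm)))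
          (hC.zp_mem hc x) (fun h => hx0 (hC.zp_inj (h.trans (hC.zp_zero hc).symm)))
          (fun h => hx1 (hC.zp_inj h).symm)
          (fun u hu => by rw [Set.mem_singleton_iff.1 hu]; exact mul_inv_eq_iff_eq_mul.1 (by rw [hσz, hone]))
          (fun u hu => by rw [Set.mem_singleton_iff.1 hu]; exact mul_inv_eq_iff_eq_mul.1 (by rw [hσz, hx]))
          (hPU.S_le (y : P).2) (fun u hu => by rw [Set.mem_singleton_iff.1 hu]; exact hcy)
        have hyp : ((y : P) : G) ^ p = 1 := by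
          rw [← Subgroup.coe_pow, y.2.2]; rfl
        exact orderOf_eq_one_iff.1 (Nat.eq_one_of_dvd_coprimes
          (Nat.Coprime.pow_right k ((Nat.coprime_primes hp Nat.prime_two).2 hp2))
          (orderOf_dvd_of_pow_eq_one hyp) (orderOf_dvd_of_pow_eq_one hk'))))))
    exact bot_ne_top htop
  · push Not at hfixed
    obtain ⟨hfl, i, hi⟩ := exists_frob hL σ hvl hσl (by
      simpa using hfree 1 one_pos hvl.one_lt) (fun x hx => by
        by_cases h0 : x = 0
        · exact Or.inl h0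
        · exact Or.inr (hfixed x hx h0))
    obtain ⟨w, hw⟩ : ∃ w, w = v ^ i := ⟨_, rfl⟩
    have hwv : w ∈ vg G a t := hw ▸ pow_mem hv i
    have hwl : w ^ l = 1 := by rw [hw, ← pow_mul, mul_comm, pow_mul, hvlone, one_pow]
    have hwz : ∀ x, w * zp x * w⁻¹ = zp (x ^ 2) := fun x => by rw [hw, hzpow, hi]
    have hs1 : zp 1 ≠ 1 := fun h => one_ne_zero (α := L) (hC.zp_inj (h.trans (hC.zp_zero hc).symm))
    have hcyc : IsCyclic (AutPair.fix (conjSub P w (hPQ _ (hc.vg_fix hwv)))) := by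
      let R : Subgroup G := P ⊓ Subgroup.centralizer {w}
      haveI : IsCyclic R := hc.cent_cyclic hwv (hC.zp_mem hc 1) hs1
        (mul_inv_eq_iff_eq_mul.1 (by rw [hwz, one_pow])) (fun z hz e => by
          obtain ⟨x, rfl⟩ := (hC.mem_zp z).1 hz
          have h1 : x ^ 2 = x := hC.zp_inj (by rw [← hwz, e, mul_inv_cancel_right])
          rcases mul_eq_zero.1 (show x * (x - 1) = 0 by linear_combination h1) with h | h
          · exact Or.inl (by rw [h, hC.zp_zero hc])
          · exact Or.inr (by rw [sub_eq_zero.1 h]))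
        hp2 (inf_le_left.trans hPU.S_le)
        (fun r hr => (Subgroup.mem_centralizer_singleton_iff.1 hr.2).symm) (hPU.S_pgroup.to_le inf_le_left)
      exact isCyclic_of_injective
        (MonoidHom.mk' (fun x : AutPair.fix (conjSub P w (hPQ _ (hc.vg_fix hwv))) =>
          (⟨((x : P) : G), (x : P).2, Subgroup.mem_centralizer_singleton_iff.2
            (mul_inv_eq_iff_eq_mul.1 (congrArg Subtype.val (AutPair.mem_fix.1 x.2))).symm⟩ : R))
          fun _ _ => rfl) fun x y e => Subtype.ext (Subtype.ext (congrArg Subtype.val e :))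
    have hpair : AutPair.Pair p l κ (conjSub P w (hPQ _ (hc.vg_fix hwv))) :=
      { prime_p := hp
        odd := hp2
        prime_l := hvl
        pgroup := hPU.S_pgroup
        pow_κ := hfl ▸ hκn
        fpf := hfl ▸ hκfpf
        pow_ν := MulEquiv.ext fun x => Subtype.ext (by rw [conjSub_pow, hwl, one_mul, inv_one, mul_one]; rfl)
        conj := fun x => Subtype.ext (by
          simp only [hκdef, conjSub_coe]
          have e : w * kp g * w⁻¹ = kp g * kp g := by
            rw [hw, hkpow i g hg0, hi, pow_two, hC.kp_mul _ _ hg0 hg0]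
          calc w * (kp g * (x : G) * (kp g)⁻¹) * w⁻¹ =
              (w * kp g * w⁻¹) * (w * (x : G) * w⁻¹) * (w * kp g * w⁻¹)⁻¹ := by group
            _ = _ := by rw [e]; group)
        cyclic := hcyc }
    refine ⟨by rw [hZ, hfl], fun hlp => ?_, κ, _, hpair⟩
    obtain ⟨j, hj, hcong⟩ := hpair.congr
    rw [← hlp] at hcong
    have h1 : 2 ^ (l - 1) * 2 = 2 ^ l := by rw [← pow_succ, Nat.sub_add_cancel hvl.one_le]
    have h2 : 2 ^ j ≤ 2 ^ (l - 1) := Nat.pow_le_pow_right (by norm_num) (by omega)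
    have h3 : l - 1 < 2 ^ (l - 1) := (l - 1).lt_two_pow_self
    have h4 : 4 ≤ 2 ^ (l - 1) := Nat.pow_le_pow_right (show 0 < 2 by norm_num) (show 2 ≤ l - 1 by omega)
    rw [Nat.ModEq, Nat.mod_eq_of_lt (by omega), Nat.mod_eq_of_lt (by omega)] at hcong
    rcases Nat.eq_zero_or_pos j with rfl | hj0
    · simp at hcong; omega
    · have := (Nat.prime_dvd_prime_iff_eq Nat.prime_two hvl).1 (hcong ▸ dvd_pow_self 2 hj0.ne')
      omega

/-- An element of prime order of `V` outside `W` forces `Q` to be a two-group. -/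
theorem Ctx.case_a {v : G} (hv : v ∈ vg G a t) (hvW : v ∉ wg G a t) (hvl : (orderOf v).Prime) {p : ℕ}
    (hp : p.Prime) (hp2 : p ≠ 2) : ¬ p ∣ Nat.card Q := by
  classical
  intro hpQ
  haveI := Fact.mk hp
  obtain ⟨P, U, hPU⟩ := exists_psplit (R1.nilpotent hc.hS hc.h2) hp (Q := Q)
  obtain ⟨hq, hlp, κ, ν, hpair⟩ := hc.frob_elem IH hv hvW hvl hp hp2 hpQ hPU
  have hab := hpair.abelian hlp.symm
  have hcentral : ∀ x ∈ P, ∀ y ∈ Q, x * y = y * x := by
    intro x hx y hy
    obtain ⟨s, hs, u, hu, rfl⟩ := hPU.decomp y hy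
    have e1 : x * s = s * x := congrArg Subtype.val (hab ⟨x, hx⟩ ⟨s, hs⟩)
    rw [← mul_assoc, e1, mul_assoc, hPU.comm x hx u hu, ← mul_assoc]
  obtain ⟨x₀, hx₀, hx₀p, -⟩ := hPU.exists_central hp hpQ
  have hx₀1 : x₀ ≠ 1 := fun e => hp.ne_one (by rw [← hx₀p, e, orderOf_one])
  haveI : Nontrivial P := ⟨⟨⟨x₀, hx₀⟩, 1, fun e => hx₀1 (congrArg Subtype.val e)⟩⟩
  have hn := hpair.not_dvd
  have hpD : ¬ p ∣ Nat.card (D G a t) := by
    intro hd
    rw [hc.card_D] at hd
    rcases hp.dvd_mul.1 hd with hd | hd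
    swap
    · rw [show Nat.card (kg G a t) = 2 ^ orderOf v - 1 by have := hc.card_kg; omega] at hd
      exact hn hd
    obtain ⟨⟨u, hu⟩, hup⟩ := exists_prime_orderOf_dvd_card' p hd
    rw [Subgroup.orderOf_mk] at hup
    by_cases huW : u ∈ wg G a t
    · have hPc := (hPU.conj_mem (g := u) fun x hx => R1.conj_Q hc.hS (hc.vg_fix hu) hx).1
      obtain ⟨y, hy1, hy⟩ := AutPair.exists_fix_ne hPU.S_pgroup (e := conjSub P u hPc) (MulEquiv.ext fun x =>
        Subtype.ext (by rw [conjSub_pow, ← hup, pow_orderOf_eq_one, one_mul, inv_one, mul_one]; rfl))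
      obtain ⟨L, i1, i2, f, zp, kp, hf, hL, hZ, hC⟩ := hc.exists_coord
      obtain ⟨x, hx0, hx1⟩ : ∃ x : L, x ≠ 0 ∧ x ≠ 1 := by
        by_contra hh
        push Not at hh
        have h1 : Fintype.card L ≤ ({0, 1} : Finset L).card := by
          rw [← Finset.card_univ]
          refine Finset.card_le_card fun x _ => ?_
          by_cases h0 : x = 0
          · simp [h0]
          · simp [hh x h0]
        have h4 : 4 ≤ 2 ^ f := Nat.pow_le_pow_right (show 0 < 2 by norm_num) hf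
        have := Finset.card_le_two (a := (0 : L)) (b := 1)
        omega
      obtain ⟨k, hk⟩ := hc.cent_two IH (X := {u}) (Set.singleton_subset_iff.2 hu) rfl
        (fun e => hp.ne_one (by rw [← hup, e, orderOf_one])) (hC.zp_mem hc 1)
        (fun h => one_ne_zero (α := L) (hC.zp_inj (h.trans (hC.zp_zero hc).symm))) (hC.zp_mem hc x)
        (fun h => hx0 (hC.zp_inj (h.trans (hC.zp_zero hc).symm))) (fun h => hx1 (hC.zp_inj h).symm)
        (fun w hw => by rw [Set.mem_singleton_iff.1 hw]; exact hc.wg_comm_zg huW (hC.zp_mem hc 1))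
        (fun w hw => by rw [Set.mem_singleton_iff.1 hw]; exact hc.wg_comm_zg huW (hC.zp_mem hc x))
        (hPU.S_le y.2) (fun w hw => by
          rw [Set.mem_singleton_iff.1 hw]
          exact mul_inv_eq_iff_eq_mul.1 (congrArg Subtype.val hy))
      obtain ⟨j, hj⟩ := IsPGroup.iff_orderOf.1 hPU.S_pgroup y
      refine hy1 (Subtype.ext (orderOf_eq_one_iff.1 (Nat.eq_one_of_dvd_coprimes
        (Nat.Coprime.pow j k ((Nat.coprime_primes hp Nat.prime_two).2 hp2))
        (by rw [Subgroup.orderOf_coe, hj]) (orderOf_dvd_of_pow_eq_one hk))))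
    · obtain ⟨-, hne, -⟩ := hc.frob_elem IH hu huW (hup ▸ hp) hp hp2 hpQ hPU
      exact hne hup
  obtain ⟨χ, hχ, hχ1⟩ := hc.exists_char (fun hV => hvW (by
    rw [hV, Subgroup.mem_bot] at hv
    exact hv ▸ one_mem _))
  haveI := R1.finite_Ω hc.hS
  haveI := Fintype.ofFinite Ω
  haveI := Fintype.ofFinite Q
  obtain ⟨g, m, n, α, β, hH⟩ := exists_hecke χ hc.hS hχ
  have hgn := (gm_ne hH hχ hχ1).2
  exact not_dvd_of_const hH hχ hp hPU.S_le (hPU.card_S hp)
    (fun x hx hx1 => (val_central hH hχ (hPU.S_le hx) hx1 (hcentral x hx)).2)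
    (prime_dvd_g hH hχ hgn hp (hPU.S_le hx₀) hx₀p (hcentral x₀ hx₀) hpD)

end Cfsg.Agent.Lie.R1C
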