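import Cfsg.Agent.Lib.Lie.SplitRankOne.CyclicModule
import Mathlib

/-!
A `p`-group with an automorphism of order `2 ^ l - 1` acting fixed-point-freely and an automorphism of prime order
`l` squaring it, whose fixed points form a cyclic group, is commutative.
-/

set_option autoImplicit false
set_option linter.unusedSectionVars false
set_option linter.unusedSimpArgs false
set_option linter.style.haveILetI false

namespace Cfsg.Agent.Lie.R1C.AutPair

universe u

variable {P : Type u} [Group P]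

/-- The fixed points of an automorphism. -/
def fix (ν : MulAut P) : Subgroup P := MonoidHom.eqLocus (ν : P →* P) (MonoidHom.id P)

theorem mem_fix {ν : MulAut P} {x : P} : x ∈ fix ν ↔ ν x = x := Iff.rfl

variable [Finite P]

theorem map_eq (e : MulAut P) (N : Subgroup P) (h : ∀ x ∈ N, e x ∈ N) : N.map (e : P →* P) = N := by
  refine Subgroup.eq_of_le_of_card_ge ?_ (Subgroup.card_map_of_injective e.injective).ge
  rintro _ ⟨x, hx, rfl⟩
  exact h x hx

/-- Restriction to an invariant subgroup. -/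
noncomputable def sub (e : MulAut P) (N : Subgroup P) (h : ∀ x ∈ N, e x ∈ N) : MulAut N :=
  MulEquiv.ofBijective (MonoidHom.mk' (fun x : N => (⟨e x, h x x.2⟩ : N)) fun x y => Subtype.ext (map_mul e (x : P) y))
    (Finite.injective_iff_bijective.1 fun _ _ hxy => Subtype.ext (e.injective (congrArg Subtype.val hxy)))

theorem sub_coe (e : MulAut P) (N : Subgroup P) (h : ∀ x ∈ N, e x ∈ N) (x : N) : (sub e N h x : P) = e x := rfl

theorem sub_pow (e : MulAut P) (N : Subgroup P) (h : ∀ x ∈ N, e x ∈ N) (d : ℕ) (x : N) :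
    (((sub e N h) ^ d) x : P) = (e ^ d) x := by
  induction d generalizing x with
  | zero => rfl
  | succ d ih => rw [pow_succ', pow_succ', MulAut.mul_apply, MulAut.mul_apply, sub_coe, ih]

/-- The induced automorphism of a quotient. -/
noncomputable def quo (e : MulAut P) (N : Subgroup P) [N.Normal] (h : ∀ x ∈ N, e x ∈ N) : MulAut (P ⧸ N) :=
  QuotientGroup.congr N N e (map_eq e N h)

theorem quo_mk (e : MulAut P) (N : Subgroup P) [N.Normal] (h : ∀ x ∈ N, e x ∈ N) (x : P) :
    quo e N h (x : P ⧸ N) = ((e x : P) : P ⧸ N) := rfl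

theorem quo_pow (e : MulAut P) (N : Subgroup P) [N.Normal] (h : ∀ x ∈ N, e x ∈ N) (d : ℕ) (x : P) :
    ((quo e N h) ^ d) (x : P ⧸ N) = (((e ^ d) x : P) : P ⧸ N) := by
  induction d generalizing x with
  | zero => rfl
  | succ d ih => rw [pow_succ, pow_succ, MulAut.mul_apply, MulAut.mul_apply, quo_mk, ih]

theorem perm_pow {α : Type*} (σ : Equiv.Perm α) (f : α → P) (e : MulAut P) (h : ∀ x, f (σ x) = e (f x)) (d : ℕ)
    (x : α) : f ((σ ^ d) x) = (e ^ d) (f x) := by
  induction d generalizing x with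
  | zero => rfl
  | succ d ih => rw [pow_succ', pow_succ', Equiv.Perm.mul_apply, MulAut.mul_apply, h, ih]

/-- An automorphism of order `p` of a nontrivial `p`-group has a nontrivial fixed point. -/
theorem exists_fix_ne {p : ℕ} [Fact p.Prime] (hP : IsPGroup p P) [Nontrivial P] {e : MulAut P} (he : e ^ p = 1) :
    ∃ x, x ≠ 1 ∧ e x = x := by
  classical
  haveI := Fintype.ofFinite P
  obtain ⟨k, hk0, hk⟩ := hP.nontrivial_iff_card.1 inferInstance
  let σ : Equiv.Perm {x : P // x ≠ 1} := e.toEquiv.subtypeEquiv fun x => by simp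
  have hσ : σ ^ p ^ 1 = 1 := Equiv.ext fun x => Subtype.ext (by
    rw [perm_pow σ Subtype.val e (fun _ => rfl), pow_one, he]
    rfl)
  obtain ⟨⟨x, hx⟩, h⟩ := Equiv.Perm.exists_fixed_point_of_prime (n := 1) (fun hd => by
    rw [Fintype.card_subtype_compl, Fintype.card_subtype_eq, ← Nat.card_eq_fintype_card, hk] at hd
    have h1 : p ∣ p ^ k := dvd_pow_self p hk0.ne'
    have h2 := Nat.dvd_sub h1 hd
    rw [Nat.sub_sub_self (Nat.one_le_pow _ _ (Fact.out : p.Prime).pos)] at h2
    exact (Fact.out : p.Prime).not_dvd_one h2) hσ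
  exact ⟨x, hx, congrArg Subtype.val h⟩

/-- An automorphism of prime order different from `p` fixes a point in each invariant coset. -/
theorem lift_fix {p r : ℕ} [Fact p.Prime] [Fact r.Prime] (hne : r ≠ p) (hP : IsPGroup p P) {e : MulAut P}
    (he : e ^ r = 1) (N : Subgroup P) (hN : ∀ x ∈ N, e x ∈ N) {x : P} (hx : x⁻¹ * e x ∈ N) :
    ∃ y, x⁻¹ * y ∈ N ∧ e y = y := by
  classical
  haveI := Fintype.ofFinite P
  have hinv : ∀ y, x⁻¹ * y ∈ N ↔ x⁻¹ * e y ∈ N := fun y => by
    rw [show x⁻¹ * e y = (x⁻¹ * e x) * e (x⁻¹ * y) by rw [map_mul, map_inv]; group, Subgroup.mul_mem_cancel_left N hx]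
    refine ⟨hN _, fun h => ?_⟩
    rw [← map_eq e N hN] at h
    obtain ⟨z, hz, hze⟩ := h
    rwa [← e.injective hze]
  let σ : Equiv.Perm {y : P // x⁻¹ * y ∈ N} := e.toEquiv.subtypeEquiv hinv
  have hσ : σ ^ r ^ 1 = 1 := Equiv.ext fun y => Subtype.ext (by
    rw [perm_pow σ Subtype.val e (fun _ => rfl), pow_one, he]
    rfl)
  obtain ⟨⟨y, hy⟩, h⟩ := Equiv.Perm.exists_fixed_point_of_prime (n := 1) (fun hd => by
    have e1 : Fintype.card {y : P // x⁻¹ * y ∈ N} = Nat.card N := by
      rw [← Nat.card_eq_fintype_card]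
      exact Nat.card_congr ((Equiv.mulLeft x⁻¹).subtypeEquiv fun _ => Iff.rfl)
    obtain ⟨k, hk⟩ := (hP.to_subgroup N).exists_card_eq
    rw [e1, hk] at hd
    exact hne ((Nat.prime_dvd_prime_iff_eq Fact.out Fact.out).1 ((Fact.out : r.Prime).dvd_of_dvd_pow hd))) hσ
  exact ⟨y, hy, congrArg Subtype.val h⟩

/-- A fixed-point-free torus automorphism, a squaring automorphism of prime order, cyclic fixed points. -/
structure Pair (p l : ℕ) (κ ν : MulAut P) : Prop where
  prime_p : p.Prime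
  odd : p ≠ 2
  prime_l : l.Prime
  pgroup : IsPGroup p P
  pow_κ : κ ^ (2 ^ l - 1) = 1
  fpf : ∀ d, 0 < d → d < 2 ^ l - 1 → ∀ x, (κ ^ d) x = x → x = 1
  pow_ν : ν ^ l = 1
  conj : ∀ x, ν (κ x) = κ (κ (ν x))
  cyclic : IsCyclic (fix ν)

namespace Pair

variable {p l : ℕ} {κ ν : MulAut P} (h : Pair p l κ ν)

include h

theorem n_gt : 2 < 2 ^ l - 1 := by
  have : 2 ^ 2 ≤ 2 ^ l := Nat.pow_le_pow_right (by norm_num) h.prime_l.two_le
  omega

theorem conj_pow (i j : ℕ) (x : P) : (ν ^ i) ((κ ^ j) x) = (κ ^ (j * 2 ^ i)) ((ν ^ i) x) := by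
  have h1 : ∀ (j : ℕ) (x : P), ν ((κ ^ j) x) = (κ ^ (j * 2)) (ν x) := by
    intro j
    induction j with
    | zero => intro x; simp
    | succ j ih =>
      intro x
      rw [pow_succ', MulAut.mul_apply, h.conj, ih, show (j + 1) * 2 = j * 2 + 1 + 1 by ring, pow_succ', pow_succ',
        MulAut.mul_apply, MulAut.mul_apply]
  induction i generalizing j with
  | zero => simp
  | succ i ih => rw [pow_succ', MulAut.mul_apply, ih, h1, MulAut.mul_apply, pow_succ, mul_assoc]

theorem not_dvd [Nontrivial P] : ¬ p ∣ 2 ^ l - 1 := by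
  intro hd
  haveI := Fact.mk h.prime_p
  obtain ⟨c, hc⟩ := hd
  have hn := h.n_gt
  have hc0 : 0 < c := Nat.pos_of_ne_zero fun e => by simp [e] at hc; omega
  obtain ⟨x, hx1, hx⟩ := exists_fix_ne h.pgroup (e := κ ^ c) (by rw [← pow_mul, mul_comm, ← hc, h.pow_κ])
  refine hx1 (h.fpf c hc0 ?_ x hx)
  have := h.prime_p.two_le
  rw [hc]
  exact lt_mul_left hc0 (by omega)

/-- Restriction. -/
theorem restrict (N : Subgroup P) (hκ : ∀ x ∈ N, κ x ∈ N) (hν : ∀ x ∈ N, ν x ∈ N) :
    Pair p l (sub κ N hκ) (sub ν N hν) where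
  prime_p := h.prime_p
  odd := h.odd
  prime_l := h.prime_l
  pgroup := h.pgroup.to_subgroup N
  pow_κ := MulEquiv.ext fun x => Subtype.ext (by rw [sub_pow, h.pow_κ]; rfl)
  fpf := fun d h0 hd x hx => Subtype.ext (h.fpf d h0 hd x (by rw [← sub_pow κ N hκ, hx]))
  pow_ν := MulEquiv.ext fun x => Subtype.ext (by rw [sub_pow, h.pow_ν]; rfl)
  conj := fun x => Subtype.ext (h.conj x)
  cyclic := by
    haveI := h.cyclic
    exact isCyclic_of_injective
      (MonoidHom.mk' (fun x : fix (sub ν N hν) => (⟨((x : N) : P), congrArg Subtype.val (mem_fix.1 x.2)⟩ : fix ν))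
        fun _ _ => rfl) fun x y e => Subtype.ext (Subtype.ext (congrArg Subtype.val e :))

variable (hne : p ≠ l)

include hne

/-- Fixed points of the quotient lift. -/
theorem fix_quo (N : Subgroup P) [N.Normal] (hν : ∀ x ∈ N, ν x ∈ N) :
    fix (quo ν N hν) = (fix ν).map (QuotientGroup.mk' N) := by
  haveI := Fact.mk h.prime_p
  haveI := Fact.mk h.prime_l
  ext q
  constructor
  · intro hq
    obtain ⟨x, rfl⟩ := QuotientGroup.mk_surjective q
    rw [mem_fix, quo_mk, QuotientGroup.eq] at hq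
    obtain ⟨y, hy, hye⟩ := lift_fix hne.symm h.pgroup h.pow_ν N hν
      (x := x) (by simpa [mul_assoc] using inv_mem hq)
    exact ⟨y, hye, (QuotientGroup.eq.2 hy).symm⟩
  · rintro ⟨y, hy, rfl⟩
    exact congrArg _ (mem_fix.1 hy)

/-- The quotient by an invariant normal subgroup. -/
theorem quotient (N : Subgroup P) [N.Normal] (hκ : ∀ x ∈ N, κ x ∈ N) (hν : ∀ x ∈ N, ν x ∈ N) :
    Pair p l (quo κ N hκ) (quo ν N hν) where
  prime_p := h.prime_p
  odd := h.odd
  prime_l := h.prime_l
  pgroup := h.pgroup.to_quotient N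
  pow_κ := MulEquiv.ext fun q => by
    obtain ⟨x, rfl⟩ := QuotientGroup.mk_surjective q
    rw [quo_pow, h.pow_κ]
    rfl
  fpf := fun d h0 hd q hq => by
    obtain ⟨x, rfl⟩ := QuotientGroup.mk_surjective q
    by_contra hx
    haveI : Nontrivial P := ⟨⟨x, 1, fun e => hx (by rw [e]; rfl)⟩⟩
    haveI := Fact.mk h.prime_p
    have hn := h.n_gt
    have hne1 : ∀ d, 0 < d → d < 2 ^ l - 1 → κ ^ d ≠ 1 := fun d h0 hd e => by
      obtain ⟨y, hy⟩ := exists_ne (1 : P)
      exact hy (h.fpf d h0 hd y (by rw [e]; rfl))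
    haveI : Finite (MulAut P) := Finite.of_injective (fun e : MulAut P => (e : P → P)) DFunLike.coe_injective
    set a := κ ^ d with ha
    obtain ⟨r, hr, hra⟩ := Nat.exists_prime_and_dvd (show orderOf a ≠ 1 by
      rw [Ne, orderOf_eq_one_iff]; exact hne1 d h0 hd)
    obtain ⟨k, hk⟩ := hra
    haveI := Fact.mk hr
    have hb : orderOf (a ^ k) = r := by
      rw [orderOf_pow, hk, Nat.gcd_mul_left_left, Nat.mul_div_cancel]
      exact Nat.pos_of_ne_zero fun e => (orderOf_pos a).ne' (by rw [hk, e, mul_zero])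
    have hbκ : a ^ k = κ ^ (d * k % (2 ^ l - 1)) := by
      rw [ha, ← pow_mul]
      conv_lhs => rw [← Nat.div_add_mod (d * k) (2 ^ l - 1), pow_add, pow_mul, h.pow_κ, one_pow, one_mul]
    have hpos : 0 < d * k % (2 ^ l - 1) := Nat.pos_of_ne_zero fun e => by
      rw [hbκ, e, pow_zero, orderOf_one] at hb
      exact hr.ne_one hb.symm
    have hrp : r ≠ p := by
      rintro rfl
      obtain ⟨y, hy1, hy⟩ := exists_fix_ne h.pgroup (e := a ^ k) (by rw [← hb, pow_orderOf_eq_one])
      rw [hbκ] at hy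
      exact hy1 (h.fpf _ hpos (Nat.mod_lt _ (by omega)) y hy)
    have hfix : ∀ j : ℕ, ((((a ^ j) x : P)) : P ⧸ N) = (x : P ⧸ N) := by
      intro j
      induction j with
      | zero => rfl
      | succ j ih =>
        rw [pow_succ', MulAut.mul_apply, ha, ← quo_pow κ N hκ d, ← ha, ih]
        exact hq
    obtain ⟨y, hy, hye⟩ := lift_fix hrp h.pgroup (e := a ^ k) (by rw [← hb, pow_orderOf_eq_one]) N
      (fun z hz => by
        have : ∀ j : ℕ, (κ ^ j) z ∈ N := fun j => by
          induction j with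
          | zero => exact hz
          | succ j ih => rw [pow_succ', MulAut.mul_apply]; exact hκ _ ih
        rw [hbκ]; exact this _)
      (x := x) (QuotientGroup.eq.1 (hfix k).symm)
    rw [hbκ] at hye
    refine hx ((QuotientGroup.eq_one_iff x).2 ?_)
    have := h.fpf _ hpos (Nat.mod_lt _ (by omega)) y hye
    rw [this, mul_one] at hy
    simpa using inv_mem hy
  pow_ν := MulEquiv.ext fun q => by
    obtain ⟨x, rfl⟩ := QuotientGroup.mk_surjective q
    rw [quo_pow, h.pow_ν]
    rfl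
  conj := fun q => by
    obtain ⟨x, rfl⟩ := QuotientGroup.mk_surjective q
    simp only [quo_mk, h.conj]
  cyclic := by
    rw [h.fix_quo hne N hν]
    haveI := h.cyclic
    exact isCyclic_of_surjective _ ((QuotientGroup.mk' N).subgroupMap_surjective (fix ν))

end Pair

/-- Averaging: an invariant subgroup containing the fixed points of the second automorphism is everything. -/
theorem eq_top_of_average {A : Type u} [CommGroup A] [Finite A] {p n l : ℕ} {κ ν : MulAut A} (hP : IsPGroup p A)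
    (hpn : p.Coprime n) (hκ : κ ^ n = 1) (hn : 1 < n)
    (hfpf : ∀ d, 0 < d → d < n → ∀ x, (κ ^ d) x = x → x = 1) (hν : ν ^ l = 1) (hl : 0 < l) (m : ℕ → ℕ)
    (hconj : ∀ i j x, (ν ^ i) ((κ ^ j) x) = (κ ^ (j * m i)) ((ν ^ i) x))
    (hm : ∀ i, 0 < i → i < l → m i % n ≠ 1) (B : Subgroup A) (hB : ∀ x ∈ B, κ x ∈ B) (hfix : fix ν ≤ B) : B = ⊤ := by
  classical
  rw [eq_top_iff]
  intro z _
  obtain ⟨x, rfl⟩ := (hP.powEquiv (n := n) hpn).surjective z
  show x ^ n ∈ B
  have hκB : ∀ (j : ℕ) (z : A), z ∈ B → (κ ^ j) z ∈ B := fun j => by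
    induction j with
    | zero => exact fun z hz => hz
    | succ j ih => intro z hz; rw [pow_succ', MulAut.mul_apply]; exact hB _ (ih z hz)
  have hper : ∀ k : ℕ, κ ^ k = κ ^ (k % n) := fun k => by
    conv_lhs => rw [← Nat.div_add_mod k n, pow_add, pow_mul, hκ, one_pow, one_mul]
  have hkey : (∏ j ∈ Finset.range n, (κ ^ (n - j)) (∏ i ∈ Finset.range l, (ν ^ i) ((κ ^ j) x))) = x ^ n := by
    simp only [map_prod]
    rw [Finset.prod_comm, Finset.prod_eq_single 0]
    · calc ∏ j ∈ Finset.range n, (κ ^ (n - j)) ((ν ^ 0) ((κ ^ j) x)) = ∏ j ∈ Finset.range n, x := by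
            refine Finset.prod_congr rfl fun j hj => ?_
            have hj' : j < n := Finset.mem_range.1 hj
            rw [pow_zero, MulAut.one_apply, ← MulAut.mul_apply, ← pow_add, show n - j + j = n by omega,
              hκ, MulAut.one_apply]
        _ = x ^ n := by rw [Finset.prod_const, Finset.card_range]
    · intro i hi hi0
      have hil : i < l := Finset.mem_range.1 hi
      set y := (ν ^ i) x with hy
      set d := (m i + n - 1) % n with hd
      have hd0 : 0 < d := Nat.pos_of_ne_zero fun e => hm i (Nat.pos_of_ne_zero hi0) hil (by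
        obtain ⟨c, hc⟩ := Nat.dvd_of_mod_eq_zero (hd ▸ e : (m i + n - 1) % n = 0)
        have h1 : (m i + n) % n = (1 + n * c) % n := by rw [show m i + n = 1 + n * c by omega]
        rwa [Nat.add_mod_right, Nat.add_mul_mod_self_left, Nat.mod_eq_of_lt hn] at h1)
      set a := κ ^ d with ha
      have han : a ^ n = 1 := by rw [ha, ← pow_mul, mul_comm, pow_mul, hκ, one_pow]
      rw [Finset.prod_congr rfl (fun j hj => by
        have hj' : j < n := Finset.mem_range.1 hj
        rw [hconj, ← MulAut.mul_apply, ← pow_add, ← hy, ha, ← pow_mul, hper, hper (d * j)]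
        congr 2
        have e1 : d * j % n = (m i + n - 1) * j % n := by rw [hd, Nat.mod_mul_mod]
        rw [e1, show (m i + n - 1) * j = (n - j + j * m i) + n * j - n by
          rw [Nat.sub_mul, add_mul, one_mul, mul_comm j (m i)]
          have : j ≤ n * j := Nat.le_mul_of_pos_left j (by omega)
          omega]
        rcases Nat.eq_zero_or_pos j with hj0 | hj0
        · subst hj0; simp
        · rw [show n - j + j * m i + n * j - n = n - j + j * m i + n * (j - 1) by
            rw [Nat.mul_sub, mul_one]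
            have : n ≤ n * j := Nat.le_mul_of_pos_right n hj0
            omega, Nat.add_mul_mod_self_left] :
        ∀ j ∈ Finset.range n, (κ ^ (n - j)) ((ν ^ i) ((κ ^ j) x)) = (a ^ j) y)]
      refine hfpf d hd0 (hd ▸ Nat.mod_lt _ (by omega)) _ ?_
      rw [← ha, map_prod]
      have e1 := Finset.prod_range_succ' (fun j => (a ^ j) y) n
      rw [Finset.prod_range_succ, han, pow_zero] at e1
      refine Eq.trans (Finset.prod_congr rfl fun j _ => ?_) (mul_right_cancel e1).symm
      rw [pow_succ', MulAut.mul_apply]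
    · intro h0; exact absurd (Finset.mem_range.2 hl) h0
  rw [← hkey]
  refine prod_mem fun j _ => hκB _ _ (hfix ?_)
  rw [mem_fix, map_prod]
  have e1 := Finset.prod_range_succ' (fun i => (ν ^ i) ((κ ^ j) x)) l
  rw [Finset.prod_range_succ, hν, pow_zero] at e1
  refine Eq.trans (Finset.prod_congr rfl fun i _ => ?_) (mul_right_cancel e1).symm
  rw [pow_succ', MulAut.mul_apply]

section Comm

variable {A : Type u} [CommGroup A] [Finite A] {p l : ℕ} {κ ν : MulAut A} (h : Pair p l κ ν)

include h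

/-- An invariant subgroup containing the fixed points is everything. -/
theorem eq_top_of_fix (B : Subgroup A) (hB : ∀ x ∈ B, κ x ∈ B) (hfix : fix ν ≤ B) : B = ⊤ := by
  rcases subsingleton_or_nontrivial A with hs | hs
  · exact Subsingleton.elim _ _
  exact eq_top_of_average h.pgroup (n := 2 ^ l - 1) (h.prime_p.coprime_iff_not_dvd.2 h.not_dvd) h.pow_κ
    (by have := h.n_gt; omega) h.fpf h.pow_ν h.prime_l.pos (fun i => 2 ^ i) (fun i j x => h.conj_pow i j x)
    (fun i h0 hi => by
      have h1 : 2 ^ i < 2 ^ l := Nat.pow_lt_pow_right (by norm_num) hi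
      have h1' : 1 < 2 ^ i := Nat.one_lt_two_pow h0.ne'
      rcases Nat.eq_or_lt_of_le (show 2 ^ i ≤ 2 ^ l - 1 by omega) with e | e
      · rw [e, Nat.mod_self]; omega
      · rw [Nat.mod_eq_of_lt e]; omega) B hB hfix

theorem exists_fix [Nontrivial A] : ∃ y, y ≠ 1 ∧ ν y = y := by
  by_contra hh
  push Not at hh
  have := eq_top_of_fix h ⊥ (fun x hx => by rw [Subgroup.mem_bot.1 hx, map_one]; exact one_mem _)
    (fun x hx => Subgroup.mem_bot.2 (by
      by_contra hx1
      exact hh x hx1 (mem_fix.1 hx)))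
  exact bot_ne_top this

/-- Elementary abelian groups with a pair give cyclic-module data. -/
theorem data [Fact p.Prime] [Module (ZMod p) (Additive A)] {y : A} (hy : y ≠ 1) (hyf : ν y = y)
    (hfix : fix ν ≤ Subgroup.zpowers y) :
    CycMod.Data ((MonoidHom.toAdditive (κ : A →* A)).toZModLinearMap p) (Additive.ofMul y) l := by
  set κA := (MonoidHom.toAdditive (κ : A →* A)).toZModLinearMap p with hκA
  have hp : ∀ (j : ℕ) (x : Additive A), (κA ^ j) x = Additive.ofMul ((κ ^ j) x.toMul) := by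
    intro j
    induction j with
    | zero => intro x; rfl
    | succ j ih => intro x; rw [pow_succ', pow_succ', Module.End.mul_apply, ih, MulAut.mul_apply]; rfl
  refine ⟨h.prime_l.two_le, fun e => hy (Additive.ofMul.injective e), ?_, ?_, ?_, ?_⟩
  · exact LinearMap.ext fun x => by rw [hp, h.pow_κ]; rfl
  · intro d h0 hd x hx
    rw [hp] at hx
    exact Additive.toMul.injective (h.fpf d h0 hd x.toMul (congrArg Additive.toMul hx))
  · intro x
    let B : Subgroup A :=
      { carrier := {z | ∃ g : Polynomial (ZMod p), Polynomial.aeval κA g (Additive.ofMul y) = Additive.ofMul z}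
        one_mem' := ⟨0, by rw [map_zero]; rfl⟩
        mul_mem' := fun {a b} ⟨g, hg⟩ ⟨g', hg'⟩ => ⟨g + g', by rw [map_add, LinearMap.add_apply, hg, hg']; rfl⟩
        inv_mem' := fun {a} ⟨g, hg⟩ => ⟨-g, by rw [map_neg, LinearMap.neg_apply, hg]; rfl⟩ }
    have hB := eq_top_of_fix h B (fun z ⟨g, hg⟩ => ⟨Polynomial.X * g, by
        rw [map_mul, Polynomial.aeval_X, Module.End.mul_apply, hg]; rfl⟩)
      (fun z hz => (Subgroup.zpowers_le.2 (⟨1, by rw [map_one]; rfl⟩ : y ∈ B)) (hfix hz))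
    exact (hB ▸ Subgroup.mem_top x.toMul : x.toMul ∈ B)
  · intro j
    have hmem : ∏ i ∈ Finset.range l, (ν ^ i) ((κ ^ j) y) ∈ fix ν := by
      rw [mem_fix, map_prod]
      have e1 := Finset.prod_range_succ' (fun i => (ν ^ i) ((κ ^ j) y)) l
      rw [Finset.prod_range_succ, h.pow_ν, pow_zero] at e1
      refine Eq.trans (Finset.prod_congr rfl fun i _ => ?_) (mul_right_cancel e1).symm
      rw [pow_succ', MulAut.mul_apply]
    obtain ⟨k, hk⟩ := hfix hmem
    have hνy : ∀ i : ℕ, (ν ^ i) y = y := fun i => by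
      induction i with
      | zero => rfl
      | succ i ih => rw [pow_succ', MulAut.mul_apply, ih, hyf]
    refine ⟨(k : ZMod p), ?_⟩
    simp only [h.conj_pow, hνy] at hk
    rw [Int.cast_smul_eq_zsmul, ← ofMul_zpow, hk, ofMul_prod]
    exact Finset.sum_congr rfl fun i _ => by rw [hp]; rfl

end Comm

theorem Pair.fix_le_zpowers {p l : ℕ} {κ ν : MulAut P} (h : Pair p l κ ν) (hexp : ∀ x : P, x ^ p = 1) {y : P}
    (hy : y ≠ 1) (hyf : ν y = y) : fix ν ≤ Subgroup.zpowers y := by
  haveI := h.cyclic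
  haveI := Fact.mk h.prime_p
  have hle : Subgroup.zpowers y ≤ fix ν := Subgroup.zpowers_le.2 hyf
  have h1 : Nat.card (fix ν) ∣ p := by
    rw [← IsCyclic.exponent_eq_card]
    exact Monoid.exponent_dvd_of_forall_pow_eq_one fun x => Subtype.ext (hexp x)
  refine (Subgroup.eq_of_le_of_card_ge hle ?_).ge
  rw [Nat.card_zpowers, orderOf_eq_prime (hexp y) hy]
  exact Nat.le_of_dvd h.prime_p.pos h1

/-- The central elements of exponent `p`. -/
def omegaCenter (P : Type u) [Group P] (p : ℕ) : Subgroup P where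
  carrier := {x | x ∈ Subgroup.center P ∧ x ^ p = 1}
  one_mem' := ⟨one_mem _, one_pow _⟩
  mul_mem' := fun {a b} ha hb => ⟨mul_mem ha.1 hb.1, by
    rw [(show Commute a b from Subgroup.mem_center_iff.1 hb.1 a).mul_pow, ha.2, hb.2, one_mul]⟩
  inv_mem' := fun {a} ha => ⟨inv_mem ha.1, by rw [inv_pow, ha.2, inv_one]⟩

theorem omegaCenter_inv (e : MulAut P) {p : ℕ} : ∀ x ∈ omegaCenter P p, e x ∈ omegaCenter P p := fun x hx => by
  refine ⟨Subgroup.mem_center_iff.2 fun g => ?_, by rw [← map_pow, hx.2, map_one]⟩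
  obtain ⟨g, rfl⟩ := e.surjective g
  rw [← map_mul, ← map_mul, Subgroup.mem_center_iff.1 hx.1 g]

instance omegaCenter_normal (p : ℕ) : (omegaCenter P p).Normal :=
  ⟨fun x hx g => by rwa [Subgroup.mem_center_iff.1 hx.1 g, mul_inv_cancel_right]⟩

theorem omegaCenter_ne {p : ℕ} [Fact p.Prime] (hP : IsPGroup p P) [Nontrivial P] : omegaCenter P p ≠ ⊥ := by
  haveI := hP.center_nontrivial
  obtain ⟨k, hk0, hk⟩ := (hP.to_subgroup (Subgroup.center P)).nontrivial_iff_card.1 inferInstance
  obtain ⟨z, hz⟩ := exists_prime_orderOf_dvd_card' (G := Subgroup.center P) p (hk ▸ dvd_pow_self p hk0.ne')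
  intro e
  have h1 : (z : P) ∈ omegaCenter P p := ⟨z.2, by rw [← hz, ← Subgroup.orderOf_coe, pow_orderOf_eq_one]⟩
  rw [e, Subgroup.mem_bot] at h1
  rw [show z = 1 from Subtype.ext h1, orderOf_one] at hz
  exact (Fact.out : p.Prime).ne_one hz.symm

/-- The prime is a power of two modulo `2 ^ l - 1`. -/
theorem Pair.congr {p l : ℕ} {κ ν : MulAut P} (h : Pair p l κ ν) [Nontrivial P] :
    ∃ i < l, p ≡ 2 ^ i [MOD 2 ^ l - 1] := by
  haveI := Fact.mk h.prime_p
  haveI : Nontrivial (omegaCenter P p) := (Subgroup.nontrivial_iff_ne_bot _).2 (omegaCenter_ne h.pgroup)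
  letI : CommGroup (omegaCenter P p) := { (inferInstance : Group (omegaCenter P p)) with
    mul_comm := fun x y => Subtype.ext (Subgroup.mem_center_iff.1 y.2.1 x) }
  have hexp : ∀ x : omegaCenter P p, x ^ p = 1 := fun x => Subtype.ext x.2.2
  letI : Module (ZMod p) (Additive (omegaCenter P p)) := AddCommGroup.zmodModule fun x => hexp x.toMul
  have h' := h.restrict (omegaCenter P p) (omegaCenter_inv κ) (omegaCenter_inv ν)
  obtain ⟨y, hy, hyf⟩ := exists_fix h'
  haveI : Finite (Additive (omegaCenter P p)) := inferInstanceAs (Finite (omegaCenter P p))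
  exact CycMod.congr (data h' hy hyf (h'.fix_le_zpowers hexp hy hyf))

/-- An alternating equivariant homomorphism into a quotient is trivial. -/
theorem alt_trivial {X M : Type u} [CommGroup X] [Finite X] [CommGroup M] {p l : ℕ} {κX νX : MulAut X}
    (h : Pair p l κX νX) (hexp : ∀ x : X, x ^ p = 1) (hexpM : ∀ x : M, x ^ p = 1) {y : X} (hy : y ≠ 1)
    (hyf : νX y = y) (κM : MulAut M) (π ψ : X →* M) (hπs : Function.Surjective π)
    (hπ : ∀ x, π (κX x) = κM (π x))
    (hanti : ∀ j < 2 ^ l - 1,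
      ψ ((κX ^ (2 ^ l - 1 - j)) y) = ((κM ^ (2 ^ l - 1 - j)) (ψ ((κX ^ j) y)))⁻¹) (x : X) : ψ x = 1 := by
  haveI := Fact.mk h.prime_p
  haveI : Module (ZMod p) (Additive X) := AddCommGroup.zmodModule fun q => hexp q.toMul
  haveI : Module (ZMod p) (Additive M) := AddCommGroup.zmodModule fun q => hexpM q.toMul
  haveI : Finite (Additive X) := inferInstanceAs (Finite X)
  have hD := data h hy hyf (h.fix_le_zpowers hexp hy hyf)
  set κA : Module.End (ZMod p) (Additive X) :=
    (MonoidHom.toAdditive (κX : X →* X)).toZModLinearMap p with hκA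
  set κB : Module.End (ZMod p) (Additive M) :=
    (MonoidHom.toAdditive (κM : M →* M)).toZModLinearMap p with hκB
  have hA : ∀ (j : ℕ) (x : Additive X), (κA ^ j) x = Additive.ofMul ((κX ^ j) x.toMul) := by
    intro j
    induction j with
    | zero => intro x; rfl
    | succ j ih => intro x; rw [pow_succ', pow_succ', Module.End.mul_apply, ih, MulAut.mul_apply]; rfl
  have hB : ∀ (j : ℕ) (x : Additive M), (κB ^ j) x = Additive.ofMul ((κM ^ j) x.toMul) := by
    intro j
    induction j with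
    | zero => intro x; rfl
    | succ j ih => intro x; rw [pow_succ', pow_succ', Module.End.mul_apply, ih, MulAut.mul_apply]; rfl
  have hz := CycMod.alt_zero hD ((MonoidHom.toAdditive π).toZModLinearMap p) (fun z => by
      obtain ⟨x, hx⟩ := hπs z.toMul
      exact ⟨Additive.ofMul x, congrArg Additive.ofMul hx⟩)
    (κN := κB) (fun q => congrArg Additive.ofMul (hπ q.toMul)) ((MonoidHom.toAdditive ψ).toZModLinearMap p) h.odd
    (fun j hj => by
      rw [hA, hA, hB]
      exact congrArg Additive.ofMul (hanti j hj))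
  have hn := h.n_gt
  let B : Subgroup X :=
    { carrier := {x | ∀ j : ℕ, ψ ((κX ^ j) x) = 1}
      one_mem' := fun j => by rw [map_one, map_one]
      mul_mem' := fun {a b} ha hb j => by rw [map_mul, map_mul, ha j, hb j, one_mul]
      inv_mem' := fun {a} ha j => by rw [map_inv, map_inv, ha j, inv_one] }
  have htop := eq_top_of_fix h B (fun q hq j => by rw [← MulAut.mul_apply, ← pow_succ]; exact hq (j + 1))
    ((h.fix_le_zpowers hexp hy hyf).trans (Subgroup.zpowers_le.2 fun j => by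
      rw [← Nat.div_add_mod j (2 ^ l - 1), pow_add, pow_mul, h.pow_κ, one_pow, one_mul]
      have := hz (j % (2 ^ l - 1)) (Nat.mod_lt _ (by omega))
      rw [hA] at this
      exact congrArg Additive.toMul this))
  exact (htop ▸ Subgroup.mem_top x : x ∈ B) 0

theorem abelian_aux {p l : ℕ} (hne : p ≠ l) : ∀ (N : ℕ) (P : Type u) [Group P] [Finite P], Nat.card P = N →
    ∀ κ ν : MulAut P, Pair p l κ ν → ∀ x y : P, x * y = y * x := by
  intro N
  induction N using Nat.strong_induction_on with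
  | _ N IH =>
  intro P _ _ hN κ ν h
  classical
  by_contra hnc
  push Not at hnc
  obtain ⟨x₀, y₀, hxy⟩ := hnc
  haveI := Fact.mk h.prime_p
  haveI : Nontrivial P := ⟨⟨x₀ * y₀, y₀ * x₀, hxy⟩⟩
  -- invariant normal subgroups contain the commutators
  have hmin : ∀ (M : Subgroup P) [M.Normal], (∀ x ∈ M, κ x ∈ M) → (∀ x ∈ M, ν x ∈ M) → M ≠ ⊥ →
      ∀ a b : P, a * b * a⁻¹ * b⁻¹ ∈ M := by
    intro M _ hκ hν hM a b
    have hlt : Nat.card (P ⧸ M) < N := by
      rw [← hN, ← Subgroup.index_eq_card, ← Subgroup.card_mul_index M]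
      have h1 : 1 < Nat.card M := Finite.one_lt_card_iff_nontrivial.2 ((Subgroup.nontrivial_iff_ne_bot M).2 hM)
      exact lt_mul_left (Nat.pos_of_ne_zero Subgroup.index_ne_zero_of_finite) h1
    have hab := IH _ hlt (P ⧸ M) rfl _ _ (h.quotient hne M hκ hν) (a : P ⧸ M) (b : P ⧸ M)
    rw [← QuotientGroup.eq_one_iff]
    simp only [QuotientGroup.mk_mul, QuotientGroup.mk_inv, hab, mul_inv_cancel_right, mul_inv_cancel]
  set cm : P → P → P := fun a b => a * b * a⁻¹ * b⁻¹ with hcmdef
  have hcm : ∀ a b, cm a b ∈ Subgroup.center P ∧ cm a b ^ p = 1 := fun a b =>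
    hmin (omegaCenter P p) (omegaCenter_inv κ) (omegaCenter_inv ν) (omegaCenter_ne h.pgroup) a b
  have hcc : ∀ a b g : P, cm a b * g = g * cm a b := fun a b g => (Subgroup.mem_center_iff.1 (hcm a b).1 g).symm
  have hmul : ∀ a b, a * b = cm a b * (b * a) := fun a b => by simp [hcmdef, mul_assoc]
  have hcm2 : ∀ a b b', cm a (b * b') = cm a b * cm a b' := fun a b b' => by
    rw [show cm a (b * b') = cm a b * (b * cm a b' * b⁻¹) by simp [hcmdef, mul_assoc], ← hcc, mul_inv_cancel_right]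
  have hcm3 : ∀ a b, cm b a = (cm a b)⁻¹ := fun a b => by simp [hcmdef, mul_assoc]
  -- the p-th power map
  have hswap : ∀ (a b : P) (k : ℕ), b ^ k * a = cm b a ^ k * (a * b ^ k) := by
    intro a b k
    induction k with
    | zero => simp
    | succ k ih =>
      calc b ^ (k + 1) * a = b ^ k * (cm b a * (a * b)) := by rw [pow_succ, mul_assoc, hmul b a]
        _ = cm b a * (b ^ k * a) * b := by
          rw [← mul_assoc, ← hcc]; simp only [mul_assoc]
        _ = cm b a * (cm b a ^ k * (a * b ^ k)) * b := by rw [ih]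
        _ = _ := by rw [pow_succ' (cm b a), pow_succ b]; simp only [mul_assoc]
  have hpow : ∀ (a b : P) (k : ℕ), (a * b) ^ k = cm b a ^ k.choose 2 * (a ^ k * b ^ k) := by
    intro a b k
    induction k with
    | zero => simp
    | succ k ih =>
      rw [show (k + 1).choose 2 = k.choose 2 + k by
        rw [Nat.choose_succ_succ' k 1, Nat.choose_one_right, add_comm]]
      calc (a * b) ^ (k + 1) = cm b a ^ k.choose 2 * (a ^ k * (b ^ k * a)) * b := by
            rw [pow_succ, ih]; simp only [mul_assoc]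
        _ = cm b a ^ k.choose 2 * (a ^ k * cm b a ^ k) * (a * b ^ k) * b := by
            rw [hswap a b k]; simp only [mul_assoc]
        _ = _ := by
          rw [show a ^ k * cm b a ^ k = cm b a ^ k * a ^ k from
            ((show Commute (cm b a) (a ^ k) from hcc b a _).pow_left k).eq.symm, pow_add, pow_succ a, pow_succ b]
          simp only [mul_assoc]
  have hpp : ∀ a b : P, (a * b) ^ p = a ^ p * b ^ p := fun a b => by
    obtain ⟨c, hc⟩ := h.prime_p.dvd_choose_self (k := 2) (by norm_num)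
      (lt_of_le_of_ne h.prime_p.two_le h.odd.symm)
    rw [hpow, hc, pow_mul, (hcm b a).2, one_pow, one_mul]
  let pw : ℕ → P →* P := fun e => MonoidHom.mk' (fun x => x ^ p ^ e) fun a b => by
    induction e with
    | zero => simp
    | succ e ih =>
      show (a * b) ^ p ^ (e + 1) = a ^ p ^ (e + 1) * b ^ p ^ (e + 1)
      rw [pow_succ, pow_mul, pow_mul, pow_mul]
      show ((a * b) ^ p ^ e) ^ p = _
      rw [ih, hpp]
  have hpinv : ∀ (e : ℕ) (f : MulAut P), ∀ x ∈ (pw e).range, f x ∈ (pw e).range := by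
    rintro e f _ ⟨x, rfl⟩
    exact ⟨f x, (map_pow f x _).symm⟩
  have hpn : ∀ e : ℕ, ((pw e).range).Normal := fun e => ⟨by
    rintro _ ⟨x, rfl⟩ g
    exact ⟨g * x * g⁻¹, conj_pow⟩⟩
  -- the exponent is larger than p
  have hexp : ∃ x : P, x ^ p ≠ 1 := by
    by_contra hexp
    push Not at hexp
    let C := commutator P
    have hCinv : ∀ f : MulAut P, ∀ x ∈ C, f x ∈ C := fun f x hx => by
      have := Subgroup.map_commutator ⊤ ⊤ (f : P →* P)
      rw [Subgroup.map_top_of_surjective _ f.surjective] at this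
      show f x ∈ commutator P
      rw [commutator_def, ← this]
      exact ⟨x, hx, rfl⟩
    have hCle : C ≤ Subgroup.center P := by
      show commutator P ≤ _
      rw [commutator_eq_closure, Subgroup.closure_le]
      rintro _ ⟨a, b, rfl⟩
      exact (hcm a b).1
    letI : CommGroup C := { (inferInstance : Group C) with
      mul_comm := fun x y => Subtype.ext (Subgroup.mem_center_iff.1 (hCle y.2) x) }
    haveI : Nontrivial C := ⟨⟨⟨cm x₀ y₀, Subgroup.commutator_mem_commutator (Subgroup.mem_top _)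
      (Subgroup.mem_top _)⟩, 1, fun e => hxy (by
        have e' : cm x₀ y₀ = 1 := congrArg Subtype.val e
        rw [hmul x₀ y₀, e', one_mul])⟩⟩
    obtain ⟨y, hy, hyf⟩ := exists_fix (h.restrict C (hCinv κ) (hCinv ν))
    have hfix : fix ν ≤ C := (h.fix_le_zpowers hexp (fun e => hy (Subtype.ext e)) (congrArg Subtype.val hyf)).trans
      (Subgroup.zpowers_le.2 y.2)
    letI : CommGroup (P ⧸ C) := { (inferInstance : Group (P ⧸ C)) with
      mul_comm := fun q r => by
        obtain ⟨a, rfl⟩ := QuotientGroup.mk_surjective q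
        obtain ⟨b, rfl⟩ := QuotientGroup.mk_surjective r
        rw [← QuotientGroup.mk_mul, ← QuotientGroup.mk_mul, hmul a b, QuotientGroup.mk_mul,
          (QuotientGroup.eq_one_iff (N := C) (cm a b)).2 (Subgroup.commutator_mem_commutator (Subgroup.mem_top a)
            (Subgroup.mem_top b)), one_mul] }
    have htop := eq_top_of_fix (h.quotient hne C (hCinv κ) (hCinv ν)) ⊥
      (fun x hx => by rw [Subgroup.mem_bot.1 hx, map_one]; exact one_mem _)
      (by
        rw [h.fix_quo hne C (hCinv ν)]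
        rintro _ ⟨z, hz, rfl⟩
        exact Subgroup.mem_bot.2 ((QuotientGroup.eq_one_iff z).2 (hfix hz)))
    haveI := h.pgroup.isNilpotent
    refine (Group.IsSolvable.commutator_lt_top_of_nontrivial P).ne (eq_top_iff.2 fun z _ => ?_)
    have hz : (z : P ⧸ C) ∈ (⊥ : Subgroup (P ⧸ C)) := htop ▸ Subgroup.mem_top _
    exact (QuotientGroup.eq_one_iff z).1 (Subgroup.mem_bot.1 hz)
  -- the quotient by the powers
  obtain ⟨Φ, hΦ⟩ : ∃ Φ, Φ = (pw 1).range := ⟨_, rfl⟩
  haveI : Φ.Normal := hΦ ▸ hpn 1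
  have hΦinv : ∀ f : MulAut P, ∀ x ∈ Φ, f x ∈ Φ := fun f => hΦ ▸ hpinv 1 f
  have hΦp : ∀ x : P, x ^ p ∈ Φ := fun x => hΦ ▸ ⟨x, by show x ^ p ^ 1 = _; rw [pow_one]⟩
  have hΦne : Φ ≠ ⊥ := fun e => by
    obtain ⟨x, hx⟩ := hexp
    exact hx (Subgroup.mem_bot.1 (e ▸ hΦp x))
  have hΦc : ∀ a b, cm a b ∈ Φ := hmin Φ (hΦinv κ) (hΦinv ν) hΦne
  letI : CommGroup (P ⧸ Φ) := { (inferInstance : Group (P ⧸ Φ)) with
    mul_comm := fun q r => by
      obtain ⟨a, rfl⟩ := QuotientGroup.mk_surjective q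
      obtain ⟨b, rfl⟩ := QuotientGroup.mk_surjective r
      rw [← QuotientGroup.mk_mul, ← QuotientGroup.mk_mul, hmul a b, QuotientGroup.mk_mul,
        (QuotientGroup.eq_one_iff _).2 (hΦc a b), one_mul] }
  have hXexp : ∀ q : P ⧸ Φ, q ^ p = 1 := fun q => by
    obtain ⟨a, rfl⟩ := QuotientGroup.mk_surjective q
    rw [← QuotientGroup.mk_pow]
    exact (QuotientGroup.eq_one_iff _).2 (hΦp a)
  have hpair := h.quotient hne Φ (hΦinv κ) (hΦinv ν)
  haveI : Nontrivial (P ⧸ Φ) := by
    rw [QuotientGroup.nontrivial_iff]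
    intro htop
    have hinj : Function.Injective (pw 1) :=
      Finite.injective_iff_surjective.2 (MonoidHom.range_eq_top.1 (hΦ ▸ htop))
    have h1 : cm x₀ y₀ = 1 := hinj (by
      show cm x₀ y₀ ^ p ^ 1 = (1 : P) ^ p ^ 1
      rw [pow_one, (hcm x₀ y₀).2, one_pow])
    exact hxy (by rw [hmul x₀ y₀, h1, one_mul])
  obtain ⟨ybar, hy1, hyf⟩ := exists_fix hpair
  obtain ⟨y, -, hyy⟩ : ybar ∈ (fix ν).map (QuotientGroup.mk' Φ) := by
    rw [← h.fix_quo hne Φ (hΦinv ν)]; exact hyf
  -- the last nontrivial powers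
  obtain ⟨e, he1, heq, hene⟩ : ∃ e, 1 ≤ e ∧ (∀ x : P, x ^ p ^ (e + 1) = 1) ∧ ∃ x : P, x ^ p ^ e ≠ 1 := by
    obtain ⟨k, hk⟩ := h.pgroup.exists_card_eq
    have hex : ∃ e, ∀ x : P, x ^ p ^ e = 1 := ⟨k, fun x => by rw [← hk]; exact pow_card_eq_one'⟩
    obtain ⟨x, hx⟩ := hexp
    have h2 : 2 ≤ Nat.find hex := by
      by_contra hlt
      have h1 := Nat.find_spec hex x
      interval_cases hf : Nat.find hex
      · rw [pow_zero, pow_one] at h1; exact hx (by rw [h1, one_pow])
      · rw [pow_one] at h1; exact hx h1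
    refine ⟨Nat.find hex - 1, by omega, ?_, ?_⟩
    · rw [show Nat.find hex - 1 + 1 = Nat.find hex by omega]; exact Nat.find_spec hex
    · have := Nat.find_min hex (show Nat.find hex - 1 < Nat.find hex by omega)
      push Not at this
      exact this
  obtain ⟨M, hM⟩ : ∃ M, M = (pw e).range := ⟨_, rfl⟩
  haveI : M.Normal := hM ▸ hpn e
  have hMinv : ∀ f : MulAut P, ∀ x ∈ M, f x ∈ M := fun f => hM ▸ hpinv e f
  have hMexp : ∀ z ∈ M, z ^ p = 1 := by
    rw [hM]
    rintro _ ⟨x, rfl⟩
    show (x ^ p ^ e) ^ p = 1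
    rw [← pow_mul, ← pow_succ, heq]
  have hMne : M ≠ ⊥ := fun e' => by
    obtain ⟨x, hx⟩ := hene
    exact hx (Subgroup.mem_bot.1 (e' ▸ hM ▸ ⟨x, rfl⟩))
  have hMc : ∀ a b, cm a b ∈ M := hmin M (hMinv κ) (hMinv ν) hMne
  have hcentral : ∀ a g : P, a ^ p * g = g * a ^ p := by
    intro a g
    have h1 : cm g (a ^ p) = cm g a ^ p := by
      have h2 : ∀ k : ℕ, cm g (a ^ k) = cm g a ^ k := fun k => by
        induction k with
        | zero => simp [hcmdef]
        | succ k ih => rw [pow_succ, hcm2, ih, pow_succ]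
      exact h2 p
    rw [(hcm g a).2] at h1
    rw [hmul g (a ^ p), h1, one_mul]
  letI : CommGroup M := { (inferInstance : Group M) with
    mul_comm := fun u v => Subtype.ext (by
      obtain ⟨x, hx⟩ : (u : P) ∈ (pw e).range := hM ▸ u.2
      show (u : P) * v = v * u
      rw [← hx, show (pw e) x = (x ^ p ^ (e - 1)) ^ p by
        show x ^ p ^ e = _
        rw [← pow_mul, ← pow_succ, Nat.sub_add_cancel he1]]
      exact hcentral _ _) }
  let πP : P →* M := (pw e).codRestrict M fun x => hM ▸ ⟨x, rfl⟩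
  let ψP : P →* M := MonoidHom.mk' (fun x => ⟨cm y x, hMc y x⟩) fun a b => Subtype.ext (hcm2 y a b)
  have hπ : Φ ≤ πP.ker := by
    rw [hΦ]
    rintro _ ⟨x, rfl⟩
    refine Subtype.ext ?_
    show (x ^ p ^ 1) ^ p ^ e = 1
    rw [← pow_mul, ← pow_add, add_comm, heq]
  have hψ : Φ ≤ ψP.ker := by
    rw [hΦ]
    rintro _ ⟨x, rfl⟩
    refine Subtype.ext ?_
    show cm y (x ^ p ^ 1) = 1
    rw [pow_one, hcmdef]
    simp only [← hcentral x y, mul_inv_cancel_right, mul_inv_cancel]
  have hCy : ∀ x : P, cm y x = 1 := fun x => congrArg Subtype.val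
    (alt_trivial hpair hXexp (fun q : M => Subtype.ext (hMexp _ q.2)) hy1 hyf (sub κ M (hMinv κ))
      (QuotientGroup.lift Φ πP hπ) (QuotientGroup.lift Φ ψP hψ)
      (fun z => by
        obtain ⟨x, hx⟩ : (z : P) ∈ (pw e).range := hM ▸ z.2
        exact ⟨(x : P ⧸ Φ), Subtype.ext hx⟩)
      (fun q => by
        obtain ⟨x, rfl⟩ := QuotientGroup.mk_surjective q
        exact Subtype.ext (map_pow κ x _).symm)
      (fun j hj => by
        rw [← hyy, QuotientGroup.mk'_apply, quo_pow, quo_pow, QuotientGroup.lift_mk, QuotientGroup.lift_mk]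
        refine Subtype.ext ?_
        rw [Subgroup.coe_inv, sub_pow]
        show cm y ((κ ^ (2 ^ l - 1 - j)) y) = ((κ ^ (2 ^ l - 1 - j)) (cm y ((κ ^ j) y)))⁻¹
        have e1 : (κ ^ (2 ^ l - 1 - j)) ((κ ^ j) y) = y := by
          rw [← MulAut.mul_apply, ← pow_add, show 2 ^ l - 1 - j + j = 2 ^ l - 1 by omega, h.pow_κ, MulAut.one_apply]
        rw [show (κ ^ (2 ^ l - 1 - j)) (cm y ((κ ^ j) y)) = cm ((κ ^ (2 ^ l - 1 - j)) y)
          ((κ ^ (2 ^ l - 1 - j)) ((κ ^ j) y)) by simp only [hcmdef, map_mul, map_inv], e1, ← hcm3])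
      (x : P ⧸ Φ))
  -- hence everything is central modulo the powers
  let Z : Subgroup (P ⧸ Φ) := (Subgroup.center P).map (QuotientGroup.mk' Φ)
  have hZtop : Z = ⊤ := eq_top_of_fix hpair Z (by
      rintro _ ⟨z, hz, rfl⟩
      refine ⟨κ z, Subgroup.mem_center_iff.2 fun g => ?_, rfl⟩
      obtain ⟨g, rfl⟩ := κ.surjective g
      rw [← map_mul, ← map_mul, Subgroup.mem_center_iff.1 hz g])
    ((hpair.fix_le_zpowers hXexp hy1 hyf).trans (Subgroup.zpowers_le.2 ⟨y, Subgroup.mem_center_iff.2 fun g => by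
      rw [hmul y g, hCy, one_mul], hyy⟩))
  have hcentre : ∀ x : P, x ∈ Subgroup.center P := fun x => by
    obtain ⟨z, hz, hzx⟩ : (x : P ⧸ Φ) ∈ Z := hZtop ▸ Subgroup.mem_top _
    have h1 : z⁻¹ * x ∈ Φ := QuotientGroup.eq.1 hzx
    have h2 : ∀ w ∈ Φ, w ∈ Subgroup.center P := by
      rw [hΦ]
      rintro _ ⟨a, rfl⟩
      refine Subgroup.mem_center_iff.2 fun g => ?_
      show g * a ^ p ^ 1 = a ^ p ^ 1 * g
      rw [pow_one]; exact (hcentral a g).symm
    simpa using mul_mem hz (h2 _ h1)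
  exact hxy (Subgroup.mem_center_iff.1 (hcentre y₀) x₀)

/-- Such a group is commutative. -/
theorem Pair.abelian {p l : ℕ} {κ ν : MulAut P} (h : Pair p l κ ν) (hne : p ≠ l) : ∀ x y : P, x * y = y * x :=
  abelian_aux hne _ P rfl κ ν h

end Cfsg.Agent.Lie.R1C.AutPair
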