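import Cfsg.Agent.Lib.Lie.SplitRankOne.CaseA
import Cfsg.Agent.Lib.Lie.SplitRankOne.CubeMain

/-!
All elements of prime order of `V` lie in `W` and `Q` has a nontrivial odd part: first consequences, and the
elimination of small Sylow two-subgroups of `Q`.
-/

set_option autoImplicit false
set_option linter.unusedSectionVars false
set_option linter.unusedSimpArgs false
set_option linter.style.haveILetI false

namespace Cfsg.Agent.Lie.R1C

open Cfsg MulAction
open Cfsg.Agent.Lie.R1 (D tt t_inv tDt)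

universe u v

variable {G : Type u} {Ω : Type v} [Group G] [MulAction G Ω] [Finite G] {a : Ω} {t : G} {Q S U : Subgroup G}

/-- An element of odd order moving `x` inside `x * T` for a two-element of its centralizer fixes `x`. -/
theorem eq_one_of_shift {w x z : G} (hodd : Odd (orderOf w)) (hz : w * z = z * w) (h : w * x * w⁻¹ = x * z)
    {k : ℕ} (hk : z ^ 2 ^ k = 1) : z = 1 := by
  have hpow : ∀ n : ℕ, w ^ n * x * (w ^ n)⁻¹ = x * z ^ n := by
    intro n
    induction n with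
    | zero => simp
    | succ n ih =>
      calc w ^ (n + 1) * x * (w ^ (n + 1))⁻¹ = w ^ n * (w * x * w⁻¹) * (w ^ n)⁻¹ := by rw [pow_succ]; group
        _ = (w ^ n * x * (w ^ n)⁻¹) * (w ^ n * z * (w ^ n)⁻¹) := by rw [h]; group
        _ = x * z ^ (n + 1) := by
          rw [ih, ((show Commute w z from hz).pow_left n).eq, mul_inv_cancel_right, pow_succ, mul_assoc]
  have h1 := hpow (orderOf w)
  rw [pow_orderOf_eq_one, one_mul, inv_one, mul_one, left_eq_mul] at h1
  exact orderOf_eq_one_iff.1 (Nat.eq_one_of_dvd_coprimes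
    (Nat.Coprime.pow_left k (Nat.coprime_two_left.2 hodd)) (orderOf_dvd_of_pow_eq_one hk)
    (orderOf_dvd_of_pow_eq_one h1))

/-- The hypotheses of the second case. -/
structure BCtx (G : Type u) {Ω : Type v} [Group G] [MulAction G Ω] (a : Ω) (t : G) (Q S U : Subgroup G) : Prop where
  ctx : Ctx G Ω a t Q
  ih : AllTwo.{u, v} (Nat.card G)
  prime : ∀ x ∈ vg G a t, (orderOf x).Prime → x ∈ wg G a t
  V_ne : vg G a t ≠ ⊥
  split : PSplit Q 2 S U
  U_ne : U ≠ ⊥

namespace BCtx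

variable [IsSimpleGroup G] (h : BCtx G a t Q S U)

include h

theorem W_ne : wg G a t ≠ ⊥ := by
  intro hW
  have hnt : Nontrivial (vg G a t) := (Subgroup.nontrivial_iff_ne_bot _).2 h.V_ne
  obtain ⟨r, hr, hrV⟩ := Nat.exists_prime_and_dvd (Finite.one_lt_card (α := vg G a t)).ne'
  haveI := Fact.mk hr
  obtain ⟨⟨x, hx⟩, hxr⟩ := exists_prime_orderOf_dvd_card' r hrV
  rw [Subgroup.orderOf_mk] at hxr
  have := h.prime x hx (hxr ▸ hr)
  rw [hW, Subgroup.mem_bot] at this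
  rw [this, orderOf_one] at hxr
  exact hr.ne_one hxr.symm

theorem exists_w : ∃ w ∈ wg G a t, w ≠ 1 := by
  by_contra hh
  push Not at hh
  exact h.W_ne ((Subgroup.eq_bot_iff_forall _).2 hh)

/-- An element of `Q` centralised by a nontrivial element of `W` is a two-element. -/
theorem w_two {w : G} (hw : w ∈ wg G a t) (hw1 : w ≠ 1) {q : G} (hq : q ∈ Q) (hwq : w * q = q * w) : q ∈ S := by
  have hc := h.ctx
  obtain ⟨x, y, hx, hy, hxy⟩ := R1.two_inv hc.hS hc.h2
  have hzx : x ∈ zg G a := hc.mem_zg.2 (Or.inr hx)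
  have hzy : y ∈ zg G a := hc.mem_zg.2 (Or.inr hy)
  obtain ⟨k, hk⟩ := hc.cent_two h.ih (X := {w}) (Set.singleton_subset_iff.2 (hc.wg_le_vg hw)) rfl hw1 hzx hx.2.1
    hzy hy.2.1 hxy (fun u hu => by rw [Set.mem_singleton_iff.1 hu]; exact hc.wg_comm_zg hw hzx)
    (fun u hu => by rw [Set.mem_singleton_iff.1 hu]; exact hc.wg_comm_zg hw hzy) hq
    (fun u hu => by rw [Set.mem_singleton_iff.1 hu]; exact hwq)
  exact h.split.mem_S q hq k hk

theorem zg_le_S : zg G a ≤ S := fun z hz =>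
  h.split.mem_S z (h.ctx.zg_le_Q hz) 1 (by rw [pow_one, pow_two, h.ctx.zg_sq hz])

theorem conj_S {g : G} (hg : g • a = a) {x : G} (hx : x ∈ S) : g * x * g⁻¹ ∈ S :=
  (h.split.conj_mem (g := g) fun _ hy => R1.conj_Q h.ctx.hS hg hy).1 x hx

theorem conj_U {g : G} (hg : g • a = a) {x : G} (hx : x ∈ U) : g * x * g⁻¹ ∈ U :=
  (h.split.conj_mem (g := g) fun _ hy => R1.conj_Q h.ctx.hS hg hy).2 x hx

theorem odd_U : Odd (Nat.card U) :=
  Nat.not_even_iff_odd.1 fun e => h.split.U_coprime (even_iff_two_dvd.1 e)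

/-- An element of the two-point stabilizer centralises no nontrivial element of odd order of `Q`. -/
theorem fpf_odd {d : G} (hd : d ∈ D G a t) (hd1 : d ≠ 1) {x : G} (hx : x ∈ Q) (hxo : Odd (orderOf x))
    (hdx : d * x = x * d) : x = 1 := by
  have hc := h.ctx
  by_contra hx1
  obtain ⟨r, hr, hrd⟩ := Nat.exists_prime_and_dvd (show orderOf d ≠ 1 by rw [Ne, orderOf_eq_one_iff]; exact hd1)
  obtain ⟨m, hm⟩ := hrd
  have he : d ^ m ∈ D G a t := pow_mem hd m
  have her : orderOf (d ^ m) = r := by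
    rw [orderOf_pow, hm, Nat.gcd_mul_left_left, Nat.mul_div_cancel]
    exact Nat.pos_of_ne_zero fun e => (orderOf_pos d).ne' (by rw [hm, e, mul_zero])
  have hex : (d ^ m) * x = x * d ^ m := ((show Commute d x from hdx).pow_left m).eq
  have hfa : (d ^ m) • a = a := (Subgroup.mem_inf.1 he).1
  have hfb : (d ^ m) • (t • a) = t • a := (Subgroup.mem_inf.1 he).2
  have hfx : (d ^ m) • (x • (t • a)) = x • (t • a) := by rw [smul_smul, hex, mul_smul, hfb]
  obtain ⟨k, hk, hkt⟩ := R1.conj_to_V (X := {d ^ m}) hc.hS (Set.singleton_subset_iff.2 he)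
    ⟨a, t • a, x • (t • a), (R1.ta_ne hc.hS).symm,
      fun e => R1.ta_ne hc.hS (by
        have h1 := congrArg (fun b => x⁻¹ • b) e
        rw [inv_smul_smul, inv_smul_eq_iff.2 (R1.fix_a hc.hS hx).symm] at h1
        exact h1.symm),
      fun e => hx1 (R1.Q_D_bot hc.hS hx e.symm),
      fun u hu => by rw [Set.mem_singleton_iff.1 hu]; exact ⟨hfa, hfb, hfx⟩⟩
  have hV : k * d ^ m * k⁻¹ ∈ vg G a t := Subgroup.mem_inf.2
    ⟨mul_mem (mul_mem hk he) (inv_mem hk), Subgroup.mem_centralizer_singleton_iff.2 (hkt _ rfl)⟩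
  have ho : orderOf (k * d ^ m * k⁻¹) = r := (MulEquiv.orderOf_eq (MulAut.conj k) (d ^ m)).trans her
  have hW := h.prime _ hV (ho.symm ▸ hr)
  have hxS := h.w_two hW (fun e => hr.ne_one (by rw [← ho, e, orderOf_one]))
    (R1.conj_Q hc.hS (Subgroup.mem_inf.1 hk).1 hx) (by
      calc k * d ^ m * k⁻¹ * (k * x * k⁻¹) = k * (d ^ m * x) * k⁻¹ := by group
        _ = _ := by rw [hex]; group)
  have hxS' : x ∈ S := by
    have := h.conj_S (g := k⁻¹) (inv_smul_eq_iff.2 (Subgroup.mem_inf.1 hk).1.symm) hxS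
    rwa [inv_inv, show k⁻¹ * (k * x * k⁻¹) * k = x by group] at this
  obtain ⟨j, hj⟩ := IsPGroup.iff_orderOf.1 h.split.S_pgroup ⟨x, hxS'⟩
  rw [Subgroup.orderOf_mk] at hj
  exact hx1 (orderOf_eq_one_iff.1 (Nat.eq_one_of_dvd_coprimes
    (Nat.Coprime.pow_left j (Nat.coprime_two_left.2 hxo)) (dvd_of_eq hj) dvd_rfl))

theorem fpf_U {d : G} (hd : d ∈ D G a t) (hd1 : d ≠ 1) {x : G} (hx : x ∈ U) (hdx : d * x = x * d) : x = 1 :=
  h.fpf_odd hd hd1 (h.split.U_le hx) (h.odd_U.of_dvd_nat (Subgroup.orderOf_dvd_natCard U hx)) hdx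

theorem exists_p : ∃ p : ℕ, p.Prime ∧ p ≠ 2 ∧ p ∣ Nat.card U := by
  haveI : Nontrivial U := (Subgroup.nontrivial_iff_ne_bot _).2 h.U_ne
  obtain ⟨p, hp, hpU⟩ := Nat.exists_prime_and_dvd (Finite.one_lt_card (α := U)).ne'
  exact ⟨p, hp, fun e => h.split.U_coprime (e ▸ hpU), hpU⟩

theorem U_dvd : Nat.card U ∣ Nat.card Q := Subgroup.card_dvd_of_le h.split.U_le

/-- An odd prime dividing the order of `Q` does not divide the order of `D`. -/
theorem not_dvd_D {p : ℕ} (hp : p.Prime) (hp2 : p ≠ 2) (hpQ : p ∣ Nat.card Q) :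
    ¬ p ∣ Nat.card (D G a t) := by
  intro hd
  have hc := h.ctx
  haveI := Fact.mk hp
  obtain ⟨P, U', hPU⟩ := exists_psplit (R1.nilpotent hc.hS hc.h2) hp (Q := Q)
  obtain ⟨⟨d, hdD⟩, hdp⟩ := exists_prime_orderOf_dvd_card' p hd
  rw [Subgroup.orderOf_mk] at hdp
  have hda : d • a = a := (Subgroup.mem_inf.1 hdD).1
  have hPc := (hPU.conj_mem (g := d) fun x hx => R1.conj_Q hc.hS hda hx).1
  obtain ⟨x₀, hx₀, hx₀p, -⟩ := hPU.exists_central hp hpQ
  haveI : Nontrivial P := ⟨⟨⟨x₀, hx₀⟩, 1, fun e => hp.ne_one (by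
    rw [← hx₀p, show x₀ = 1 from congrArg Subtype.val e, orderOf_one])⟩⟩
  obtain ⟨y, hy1, hy⟩ := AutPair.exists_fix_ne hPU.S_pgroup (e := conjSub P d hPc) (MulEquiv.ext fun x =>
    Subtype.ext (by rw [conjSub_pow, ← hdp, pow_orderOf_eq_one, one_mul, inv_one, mul_one]; rfl))
  obtain ⟨j, hj⟩ := IsPGroup.iff_orderOf.1 hPU.S_pgroup y
  refine hy1 (Subtype.ext (h.fpf_odd hdD (fun e => hp.ne_one (by rw [← hdp, e, orderOf_one])) (hPU.S_le y.2) ?_
    (mul_inv_eq_iff_eq_mul.1 (congrArg Subtype.val hy))))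
  rw [Subgroup.orderOf_coe, hj]
  exact (hp.odd_of_ne_two hp2).pow

/-- A nontrivial torus character does not have value one throughout the two-part of `Q`. -/
theorem const_contra {χ : stabilizer G a →* ℂˣ} (hχ : IsTorusChar G a t Q χ) (hne : χ ≠ 1)
    (hone : ∀ x ∈ S, x ≠ 1 → lam χ (R1C.hc h.ctx.hS x) = 1) : False := by
  classical
  haveI := R1.finite_Ω h.ctx.hS
  haveI := Fintype.ofFinite Ω
  haveI := Fintype.ofFinite Q
  obtain ⟨g, m, n, α, β, hH⟩ := exists_hecke χ h.ctx.hS hχ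
  obtain ⟨s, hs, hs2, hsc, hsD⟩ := h.ctx.exists_invol
  have hgn := (gm_ne hH hχ hne).2
  refine not_dvd_of_const hH hχ Nat.prime_two h.split.S_le (h.split.card_S Nat.prime_two) (fun x hx hx1 => ?_)
    (prime_dvd_g hH hχ hgn Nat.prime_two hs hs2 hsc hsD)
  refine (val_of_const hH hχ (h.split.S_le hx) hx1 fun y => hone _ ?_ ?_).2
  · obtain ⟨s', hs', u', hu', e⟩ := h.split.decomp _ y.2
    rw [e, show (s' * u')⁻¹ * x * (s' * u') = u'⁻¹ * (s'⁻¹ * x * s' * u') by group,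
      h.split.comm _ (mul_mem (mul_mem (inv_mem hs') hx) hs') u' hu', inv_mul_cancel_left]
    exact mul_mem (mul_mem (inv_mem hs') hx) hs'
  · intro e
    exact hx1 (by simpa [mul_assoc] using congrArg (fun w => (y : G) * w * (y : G)⁻¹) e)

/-- The two-part of `Q` is not commutative. -/
theorem not_comm : ∃ x ∈ S, ∃ y ∈ S, x * y ≠ y * x := by
  classical
  by_contra hh
  push Not at hh
  obtain ⟨χ, hχ, hne⟩ := h.ctx.exists_char h.V_ne
  haveI := R1.finite_Ω h.ctx.hS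
  haveI := Fintype.ofFinite Ω
  haveI := Fintype.ofFinite Q
  obtain ⟨g, m, n, α, β, hH⟩ := exists_hecke χ h.ctx.hS hχ
  refine h.const_contra hχ hne fun x hx hx1 => lam_central hH hχ (h.split.S_le hx) hx1 fun y hy => ?_
  obtain ⟨s, hs, u, hu, rfl⟩ := h.split.decomp y hy
  rw [← mul_assoc, hh x hx s hs, mul_assoc, h.split.comm x hx u hu, ← mul_assoc]

theorem struct : (∀ x ∈ S, x * x ∈ zg G a) ∧ (∀ x ∈ S, ∀ y ∈ S, x⁻¹ * y⁻¹ * x * y ∈ zg G a) ∧
    (Nat.card S = Nat.card (zg G a) ^ 2 ∨ Nat.card S = Nat.card (zg G a) ^ 3) :=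
  h.ctx.s_struct h.split.S_le h.zg_le_S (fun _ hk _ hx => h.conj_S (h.ctx.kg_fix hk) hx) h.split.S_pgroup
    h.not_comm

/-- An element of odd order acting trivially on `Z` and on the square of `x` modulo nothing moves `x` trivially. -/
theorem w_fix_coset {w : G} (hw : w ∈ wg G a t) {x z : G} (hz : z ∈ zg G a) (e : w * x * w⁻¹ = x * z) : z = 1 :=
  eq_one_of_shift (h.ctx.hS.odd_card.of_dvd_nat
    (Subgroup.orderOf_dvd_natCard _ (h.ctx.vg_le (h.ctx.wg_le_vg hw))))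
    (h.ctx.wg_comm_zg hw hz) e (k := 1) (by rw [pow_one, pow_two, h.ctx.zg_sq hz])

/-- The coordinate `g` of an element of `S` centralised by `w` lies in `S`. -/
theorem gc_mem_S {w : G} (hw : w ∈ wg G a t) (hw1 : w ≠ 1) {x : G} (hx : x ∈ Q) (hx1 : x ≠ 1)
    (hwx : w * x = x * w) : gc h.ctx.hS x ∈ S := by
  have hc := h.ctx
  refine h.w_two hw hw1 (gc_mem hc.hS hx hx1) ?_
  have e := (coords_conj hc.hS hx hx1 (hc.vg_le (hc.wg_le_vg hw))).1
  rw [hwx, mul_inv_cancel_right, (hc.mem_vg.1 (hc.wg_le_vg hw)).2] at e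
  exact (eq_mul_inv_iff_mul_eq.1 e).symm

/-- The two-part has order the cube of `|Z|`. -/
theorem card_S : Nat.card S = Nat.card (zg G a) ^ 3 := by
  classical
  have hc := h.ctx
  refine h.struct.2.2.resolve_left fun hcard => ?_
  obtain ⟨hsq, -, -⟩ := h.struct
  obtain ⟨L, i1, i2, f, zp, kp, hf, hLf, hZ, hL⟩ := hc.exists_coord
  obtain ⟨r, hr, he⟩ := hL.pair
  obtain ⟨w, hw, hw1⟩ := h.exists_w
  have hs1 : zp 1 ≠ 1 := fun e => one_ne_zero (α := L) (hL.zp_inj (e.trans (hL.zp_zero hc).symm))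
  have hsa : zp 1 • a = a := R1.fix_a hc.hS (hc.zg_le_Q (hL.zp_mem hc 1))
  have hs2 := hc.zg_sq (hL.zp_mem hc 1)
  have hwt : t * w = w * t :=
    (Subgroup.mem_centralizer_singleton_iff.1 (Subgroup.mem_inf.1 (hc.wg_le_vg hw)).2).symm
  have hwr : w * r = r * w := by
    have hwz := hc.wg_comm_zg hw (hL.zp_mem hc 1)
    refine mul_inv_eq_iff_eq_mul.1 (R1.pair_unique hc.hS hsa hs1 hs2
      (R1.conj_Q hc.hS (hc.vg_fix (hc.wg_le_vg hw)) hr) ?_ hsa hs1 hs2 hr he).2
    calc t * zp 1 * t = w * (t * zp 1 * t) * w⁻¹ := by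
          rw [← mul_assoc w, ← mul_assoc w, ← hwt, mul_assoc t w, hwz, ← mul_assoc t, mul_assoc (t * zp 1) w,
            ← hwt, ← mul_assoc (t * zp 1), mul_inv_cancel_right]
      _ = w * (r⁻¹ * t * r) * w⁻¹ := by rw [he]
      _ = (w * r⁻¹ * w⁻¹) * (w * t * w⁻¹) * (w * r * w⁻¹) := by group
      _ = _ := by rw [← hwt, mul_inv_cancel_right]; group
  have hrS := h.w_two hw hw1 hr hwr
  have hKS : ∀ k ∈ kg G a t, ∀ x ∈ S, k * x * k⁻¹ ∈ S := fun k hk x hx => h.conj_S (hc.kg_fix hk) hx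
  by_cases hrZ : r ∈ zg G a
  · haveI := hL.charTwo
    rw [hL.pair_eq hc hr he hrZ, inv_eq_of_mul_eq_one_left hs2] at he
    have hM : MCtx G a t Q L zp kp := ⟨hc, hL, he⟩
    -- the torus identifies the cosets with the squares, so `W` centralises the two-part
    have hwS : ∀ x ∈ S, w * x = x * w := by
      intro x hx
      by_cases hxZ : x ∈ zg G a
      · exact hc.wg_comm_zg hw hxZ
      have hy : w * x * w⁻¹ ∈ S := h.conj_S (hc.vg_fix (hc.wg_le_vg hw)) hx
      have hyZ : w * x * w⁻¹ ∉ zg G a := fun e => hxZ (by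
        have := hc.conj_zg (hc.vg_fix (inv_mem (hc.wg_le_vg hw))) e
        rwa [inv_inv, show w⁻¹ * (w * x * w⁻¹) * w = x by group] at this)
      obtain ⟨k, hk, z, hz, e⟩ := hc.trans_cosets h.zg_le_S h.split.S_le hcard hKS hsq hx hxZ hy hyZ
      have hx2 : w * (x * x) = x * x * w := hc.wg_comm_zg hw (hsq x hx)
      have hk2 : k * (x * x) * k⁻¹ = x * x := by
        have e' : (k * (x * z) * k⁻¹) * (k * (x * z) * k⁻¹) = x * x := by
          rw [← e, show w * x * w⁻¹ * (w * x * w⁻¹) = w * (x * x) * w⁻¹ by group, hx2, mul_inv_cancel_right]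
        have hzx : (x * z) * (x * z) = x * x := by
          rw [mul_assoc, ← mul_assoc z, hc.zg_central hz (h.split.S_le hx), mul_assoc x z z, hc.zg_sq hz, mul_one]
        rw [show k * (x * z) * k⁻¹ * (k * (x * z) * k⁻¹) = k * ((x * z) * (x * z)) * k⁻¹ by group, hzx] at e'
        exact e'
      have hxx : x * x ≠ 1 := fun e => hxZ (hc.mem_zg_of_sq (hc.hS.le (h.split.S_le hx)) e)
      have hk1 : k = 1 := by
        by_contra hk1
        exact hxx (hc.kg_fpf hk hk1 (h.split.S_le (mul_mem hx hx)) (mul_inv_eq_iff_eq_mul.1 hk2))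
      rw [hk1, one_mul, inv_one, mul_one] at e
      rw [h.w_fix_coset hw hz e, mul_one] at e
      exact mul_inv_eq_iff_eq_mul.1 e
    let F : Set Ω := insert a ((fun x : G => x • (t • a)) '' (S : Set G))
    have hFS : ∀ x ∈ S, x • (t • a) ∈ F := fun x hx => Or.inr ⟨x, hx, rfl⟩
    have hz : ∀ (y : L), ∀ b ∈ F, zp y • b ∈ F := by
      rintro y b (rfl | ⟨x, hx, rfl⟩)
      · exact Or.inl (R1.fix_a hc.hS (hc.zg_le_Q (hL.zp_mem hc y)))
      · rw [smul_smul]; exact hFS _ (mul_mem (h.zg_le_S (hL.zp_mem hc y)) hx)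
    have hk : ∀ k ∈ kg G a t, ∀ b ∈ F, k • b ∈ F := by
      rintro k hk b (rfl | ⟨x, hx, rfl⟩)
      · exact Or.inl (hc.kg_fix hk)
      · have hkt : k • (t • a) = t • a := (Subgroup.mem_inf.1 (hc.kg_le hk)).2
        have e : k • (x • (t • a)) = (k * x * k⁻¹) • (t • a) := by
          rw [mul_smul, inv_smul_eq_iff.2 hkt.symm, mul_smul]
        simp only [e]
        exact hFS _ (hKS k hk x hx)
    have ht : ∀ b ∈ F, t • b ∈ F := by
      rintro b (rfl | ⟨x, hx, rfl⟩)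
      · simpa using hFS 1 (one_mem _)
      · by_cases hx1 : x = 1
        · subst hx1
          left
          show t • ((1 : G) • (t • a)) = a
          rw [one_smul, R1.tta hc.hS]
        · have hxQ := h.split.S_le hx
          show t • (x • (t • a)) ∈ F
          rw [smul_smul, smul_smul, coords_eq hc.hS hxQ hx1, mul_smul, R1.fix_a hc.hS (fc_mem hc.hS hxQ hx1),
            mul_smul, mul_smul, (Subgroup.mem_inf.1 (hc_mem hc.hS hxQ hx1)).2]
          exact hFS _ (h.gc_mem_S hw hw1 hxQ hx1 (hwS x hx))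
    refine hL.no_small_orbit hc hM (F := F) (fun A b hb => ?_) ?_
    · show hM.mg A • b ∈ F
      by_cases hA : A.1 1 0 = 0
      · obtain ⟨ha0, e⟩ := bruhat_small hA
        rw [e, map_mul, hM.mg_z, hM.mg_k ha0, mul_smul]
        exact hz _ _ (hk _ (hL.kp_mem hc ha0) b hb)
      · rw [show hM.mg A = hM.mg (zmat (A.1 0 0 / A.1 1 0) * (kmat (A.1 1 0)⁻¹ *
          (tmat * zmat (A.1 1 1 / A.1 1 0)))) from congrArg hM.mg (bruhat_big hA), map_mul, map_mul, map_mul,
          hM.mg_z, hM.mg_k (inv_ne_zero hA), hM.mg_t, hM.mg_z, mul_smul, mul_smul, mul_smul]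
        exact hz _ _ (hk _ (hL.kp_mem hc (inv_ne_zero hA)) _ (ht _ (hz _ b hb)))
    · have hinj : Set.InjOn (fun x : G => x • (t • a)) (S : Set G) := fun x hx y hy e =>
        R1.q_unique hc.hS (h.split.S_le hx) (h.split.S_le hy) e
      have hna : a ∉ (fun x : G => x • (t • a)) '' (S : Set G) := by
        rintro ⟨x, hx, e⟩
        have h1 := congrArg (fun b => x⁻¹ • b) e
        simp only [inv_smul_smul, inv_smul_eq_iff.2 (R1.fix_a hc.hS (h.split.S_le hx)).symm] at h1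
        exact R1.ta_ne hc.hS h1
      show (insert a ((fun x : G => x • (t • a)) '' (S : Set G))).ncard = _
      haveI := R1.finite_Ω hc.hS
      rw [Set.ncard_insert_of_notMem hna (Set.toFinite _), Set.InjOn.ncard_image hinj, ← Nat.card_coe_set_eq,
        SetLike.coe_sort_coe, hcard, hL.card_eq hc]
  · obtain ⟨χ, hχ, hne⟩ := hc.exists_char h.V_ne
    haveI := R1.finite_Ω hc.hS
    haveI := Fintype.ofFinite Ω
    haveI := Fintype.ofFinite Q
    refine h.const_contra hχ hne fun x hx hx1 => ?_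
    by_cases hxZ : x ∈ zg G a
    · exact R1C.lam_inv_fix hc.hS hχ (hc.hS.le (hc.zg_le_Q hxZ)) hx1 (hc.zg_sq hxZ)
    · 
      obtain ⟨k, hk, z, hz, rfl⟩ := hc.trans_cosets h.zg_le_S h.split.S_le hcard hKS hsq hrS hrZ hx hxZ
      have hrz : r * z ≠ 1 := fun e => hrZ (by rw [mul_eq_one_iff_eq_inv.1 e]; exact inv_mem hz)
      rw [lam_conj_K (hS := hc.hS) hχ (by rw [← hc.kg_eq]; exact hk) (mul_mem hr (hc.zg_le_Q hz)) hrz]
      exact hL.lam_rz hc hr he hrZ hχ hz

end BCtx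

end Cfsg.Agent.Lie.R1C
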