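import Cfsg.Agent.Lib.Char.Coherence
import Cfsg.Agent.Lib.Char.IndValue
import Cfsg.Agent.Lib.Char.Glauberman

/-!
Exceptional characters for a TI subgroup `Q` with a complement `Dg` in its normalizer acting freely on a family of
irreducible characters, relative to two irreducible characters whose sum is constant on `Q` away from the identity.
-/

set_option autoImplicit false
set_option linter.unusedSectionVars false
set_option linter.unusedSimpArgs false
set_option linter.style.haveILetI false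

open scoped ComplexConjugate
open Cfsg Cfsg.Agent.Char

namespace Cfsg.Agent.Lie.R1C.Coh

universe u

variable {G : Type u} [Group G] [Fintype G] {Q Dg : Subgroup G}

/-- The group-theoretic hypotheses. -/
structure TI (Q Dg : Subgroup G) : Prop where
  normQ : ∀ d ∈ Dg, ∀ x ∈ Q, d * x * d⁻¹ ∈ Q
  inf : ∀ x ∈ Q, x ∈ Dg → x = 1
  ti : ∀ g : G, ∀ x ∈ Q, x ≠ 1 → g * x * g⁻¹ ∈ Q → ∃ q ∈ Q, ∃ d ∈ Dg, g = q * d

variable (hT : TI Q Dg)

/-- Conjugation by an element of `Dg`. -/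
def cj (d : Dg) : MulAut Q where
  toFun x := ⟨(d : G) * x * (d : G)⁻¹, hT.normQ d d.2 x x.2⟩
  invFun x := ⟨(d : G)⁻¹ * x * d, by simpa using hT.normQ _ (inv_mem d.2) x x.2⟩
  left_inv x := Subtype.ext (by simp [mul_assoc])
  right_inv x := Subtype.ext (by simp [mul_assoc])
  map_mul' x y := Subtype.ext (by simp [mul_assoc])

theorem cj_coe (d : Dg) (x : Q) : ((cj hT d x : Q) : G) = (d : G) * x * (d : G)⁻¹ := rfl

theorem cj_mul (d e : Dg) (x : Q) : cj hT (d * e) x = cj hT d (cj hT e x) :=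
  Subtype.ext (by simp [cj_coe, mul_assoc])

variable [Fintype Q]

/-- The twist of an irreducible character. -/
noncomputable def tw (d : Dg) (θ : IrrCharacter Q) : IrrCharacter Q := irrComp (cj hT d) θ

theorem tw_apply (d : Dg) (θ : IrrCharacter Q) (x : Q) : (tw hT d θ : Q → ℂ) x = (θ : Q → ℂ) (cj hT d x) := rfl

theorem tw_one (θ : IrrCharacter Q) : tw hT 1 θ = θ :=
  Subtype.ext (funext fun x => congrArg (θ : Q → ℂ) (Subtype.ext (by simp [cj_coe])))

theorem tw_mul (d e : Dg) (θ : IrrCharacter Q) : tw hT (d * e) θ = tw hT e (tw hT d θ) :=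
  Subtype.ext (funext fun x => congrArg (θ : Q → ℂ) (cj_mul hT d e x))

theorem deg_tw (d : Dg) (θ : IrrCharacter Q) : deg (tw hT d θ : Q → ℂ) = deg (θ : Q → ℂ) := by
  simp [deg, tw_apply]

/-- Two characters in one orbit. -/
def Rel (θ θ' : IrrCharacter Q) : Prop := ∃ d : Dg, tw hT d θ = θ'

theorem rel_refl (θ : IrrCharacter Q) : Rel hT θ θ := ⟨1, tw_one hT θ⟩

theorem rel_symm {θ θ' : IrrCharacter Q} (h : Rel hT θ θ') : Rel hT θ' θ := by
  obtain ⟨d, rfl⟩ := h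
  exact ⟨d⁻¹, by rw [← tw_mul, mul_inv_cancel, tw_one]⟩

theorem rel_trans {θ θ' θ'' : IrrCharacter Q} (h : Rel hT θ θ') (h' : Rel hT θ' θ'') : Rel hT θ θ'' := by
  obtain ⟨d, rfl⟩ := h
  obtain ⟨e, rfl⟩ := h'
  exact ⟨d * e, tw_mul hT d e θ⟩

theorem deg_rel {θ θ' : IrrCharacter Q} (h : Rel hT θ θ') : deg (θ' : Q → ℂ) = deg (θ : Q → ℂ) := by
  obtain ⟨d, rfl⟩ := h; exact deg_tw hT d θ

theorem ext_tw (d : Dg) (θ : IrrCharacter Q) (y : G) :
    extendByZero Q (tw hT d θ : Q → ℂ) y = extendByZero Q (θ : Q → ℂ) ((d : G) * y * (d : G)⁻¹) := by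
  by_cases hy : y ∈ Q
  · rw [extendByZero_mem Q _ hy, extendByZero_mem Q _ (hT.normQ d d.2 y hy), tw_apply]
    rfl
  · rw [extendByZero_not_mem Q _ hy, extendByZero_not_mem Q _]
    intro h
    exact hy (by simpa [mul_assoc] using hT.normQ _ (inv_mem d.2) _ h)

/-- Conjugate characters induce equally. -/
theorem ind_tw (d : Dg) (θ : IrrCharacter Q) : indFun Q (tw hT d θ : Q → ℂ) = indFun Q (θ : Q → ℂ) := by
  funext g
  simp only [indFun]
  congr 1
  refine Fintype.sum_equiv (Equiv.mulRight (d : G)⁻¹) _ _ fun x => ?_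
  rw [ext_tw, Equiv.coe_mulRight]
  congr 1
  group

section Values

include hT

theorem ind_val [Fintype Dg] {φ : Q → ℂ} (hφ : IsClassFunction Q φ) {x : Q} (hx : x ≠ 1) :
    indFun Q φ (x : G) = ∑ d : Dg, φ (cj hT d x) := by
  classical
  let F : Q × Dg → G := fun p => (p.2 : G)⁻¹ * (p.1 : G)⁻¹
  have hinj : Function.Injective F := by
    rintro ⟨q, d⟩ ⟨q', d'⟩ e
    have e' : (q : G) * d = q' * d' := by
      have := congrArg (·⁻¹) e
      simpa [F] using this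
    have h1 : (q' : G)⁻¹ * q = d' * (d : G)⁻¹ := by
      rw [eq_mul_inv_iff_mul_eq, mul_assoc, e', inv_mul_cancel_left]
    have h2 := hT.inf _ (mul_mem (inv_mem q'.2) q.2) (h1 ▸ mul_mem d'.2 (inv_mem d.2))
    have h3 : q = q' := Subtype.ext (inv_mul_eq_one.1 h2).symm
    subst h3
    exact Prod.ext rfl (Subtype.ext (mul_left_cancel e'))
  rw [indFun, ← Finset.sum_subset (Finset.subset_univ (Finset.univ.image F)) (fun g _ hg => by
    refine extendByZero_not_mem Q _ fun hmem => hg ?_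
    obtain ⟨q, hq, d, hd, e⟩ := hT.ti g⁻¹ x x.2 (fun e => hx (Subtype.ext e)) (by simpa using hmem)
    exact Finset.mem_image.2 ⟨(⟨q, hq⟩, ⟨d, hd⟩), Finset.mem_univ _, by
      simp only [F]; rw [← _root_.mul_inv_rev, ← e, inv_inv]⟩),
    Finset.sum_image fun a _ b _ e => hinj e]
  rw [Finset.sum_congr rfl (fun p _ => by
    have e : (F p)⁻¹ * (x : G) * F p = ((p.1 * cj hT p.2 x * p.1⁻¹ : Q) : G) := by
      simp [F, cj_coe, mul_assoc]
    rw [e, extendByZero_mem Q φ (p.1 * cj hT p.2 x * p.1⁻¹ : Q).2, Subtype.coe_eta, hφ] :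
      ∀ p ∈ (Finset.univ : Finset (Q × Dg)), extendByZero Q φ ((F p)⁻¹ * (x : G) * F p) = φ (cj hT p.2 x))]
  rw [Fintype.sum_prod_type]
  simp only []
  rw [Finset.sum_const, Finset.card_univ, nsmul_eq_mul, ← Nat.card_eq_fintype_card,
    ← mul_assoc, inv_mul_cancel₀ (Nat.cast_ne_zero.2 Nat.card_pos.ne'), one_mul]

/-- Inner products of induced functions. -/
theorem inner_ind [Fintype Dg] {δ : Q → ℂ} (h1 : δ 1 = 0) (θ : IrrCharacter Q) :
    classInner (indFun Q δ) (indFun Q (θ : Q → ℂ)) = ∑ d : Dg, classInner δ (tw hT d θ : Q → ℂ) := by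
  rw [frobenius Q δ (isClassFunction_indFun Q _)]
  simp only [classInner]
  rw [← Finset.mul_sum, Finset.sum_comm]
  congr 1
  refine Finset.sum_congr rfl fun x _ => ?_
  by_cases hx : x = 1
  · subst hx; simp [h1]
  · rw [ind_val hT (isClassFunction_character (irr_isCharacter θ.2)) hx, map_sum, Finset.mul_sum]
    rfl

end Values

/-- The difference of degree zero. -/
noncomputable def dl (θ θ₁ : IrrCharacter Q) : Q → ℂ := (θ : Q → ℂ) - (deg (θ : Q → ℂ) : ℂ) • (θ₁ : Q → ℂ)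

/-- The family with the two characters. -/
structure Fam (hT : TI Q Dg) (Θ : Set (IrrCharacter Q)) (α β : IrrCharacter G) : Prop where
  closed : ∀ θ ∈ Θ, ∀ d : Dg, tw hT d θ ∈ Θ
  free : ∀ θ ∈ Θ, ∀ d : Dg, tw hT d θ = θ → d = 1
  ne : α ≠ β
  ne_one : ∀ θ ∈ Θ, classInner (θ : Q → ℂ) (fun _ => 1) = 0
  restr : ∃ c : ℂ, ∀ x : Q, x ≠ 1 → (α : G → ℂ) x + (β : G → ℂ) x = c ∧ c = 1

/-- The character `θ` has an image. -/
def Good (hT : TI Q Dg) (α β : IrrCharacter G) (ε : ℤ) (θ₁ : IrrCharacter Q) (Y₁ : IrrCharacter G)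
    (θ : IrrCharacter Q) : Prop :=
  ∃ Y : IrrCharacter G, Y ≠ α ∧ Y ≠ β ∧
    indFun Q (dl θ θ₁) = (ε : ℂ) • ((Y : G → ℂ) - (deg (θ : Q → ℂ) : ℂ) • (Y₁ : G → ℂ))

variable {Θ : Set (IrrCharacter Q)} {α β : IrrCharacter G} (hF : Fam hT Θ α β)

include hF

theorem rel_inner [Fintype Dg] {θ θ' : IrrCharacter Q} (h' : θ' ∈ Θ) [Decidable (Rel hT θ θ')] :
    ∑ d : Dg, classInner (θ : Q → ℂ) (tw hT d θ' : Q → ℂ) = if Rel hT θ θ' then 1 else 0 := by
  classical
  split_ifs with h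
  · obtain ⟨d, hd⟩ := rel_symm hT h
    rw [Finset.sum_eq_single d (fun e _ hne => by
      rw [irrC_orth, if_neg fun he => hne ?_]
      have h1 : tw hT (e * d⁻¹) θ' = θ' := by
        rw [tw_mul, ← he, ← hd, ← tw_mul, mul_inv_cancel, tw_one]
      exact mul_inv_eq_one.1 (hF.free θ' h' _ h1)) (fun h => absurd (Finset.mem_univ d) h),
      hd, irrC_orth, if_pos rfl]
  · refine Finset.sum_eq_zero fun d _ => ?_
    rw [irrC_orth, if_neg fun e => h (rel_symm hT ⟨d, e.symm⟩)]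

omit hF in
theorem dl_one {θ θ₁ : IrrCharacter Q} (h1 : deg (θ₁ : Q → ℂ) = 1) : dl θ θ₁ 1 = 0 := by
  simp [dl, char_one_eq_deg (irr_isCharacter θ.2), char_one_eq_deg (irr_isCharacter θ₁.2), h1]

omit hF in
theorem dl_gen (θ θ₁ : IrrCharacter Q) : IsGeneralizedCharacter G (indFun Q (dl θ θ₁)) := by
  refine ⟨_, _, isCharacter_indFun Q (irr_isCharacter θ.2),
    isCharacter_indFun Q (isCharacter_nsmul (irr_isCharacter θ₁.2) (deg (θ : Q → ℂ))), ?_⟩
  rw [← indFun_sub, dl]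
  congr 1
  funext x
  simp

omit hF in
theorem dl_ind_one {θ θ₁ : IrrCharacter Q} (h1 : deg (θ₁ : Q → ℂ) = 1) : indFun Q (dl θ θ₁) 1 = 0 := by
  rw [indFun_one, dl_one h1, mul_zero]

/-- The Gram matrix of the differences. -/
theorem gram [Fintype Dg] [DecidableRel (Rel hT)] {θ θ' θ₁ : IrrCharacter Q} (h' : θ' ∈ Θ)
    (h₁ : θ₁ ∈ Θ) (hd : deg (θ₁ : Q → ℂ) = 1) :
    classInner (indFun Q (dl θ θ₁)) (indFun Q (dl θ' θ₁)) =
      (((if Rel hT θ θ' then 1 else 0) - (deg (θ : Q → ℂ) : ℤ) * (if Rel hT θ₁ θ' then 1 else 0) -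
        (deg (θ' : Q → ℂ) : ℤ) * (if Rel hT θ θ₁ then 1 else 0) +
          (deg (θ : Q → ℂ) : ℤ) * deg (θ' : Q → ℂ) : ℤ) : ℂ) := by
  have e : ∀ (ψ : IrrCharacter Q), ψ ∈ Θ →
      classInner (indFun Q (dl θ θ₁)) (indFun Q (ψ : Q → ℂ)) =
        (if Rel hT θ ψ then 1 else 0) - (deg (θ : Q → ℂ) : ℂ) * (if Rel hT θ₁ ψ then 1 else 0) := fun ψ hψ => by
    rw [inner_ind hT (dl_one hd), dl]
    simp only [classInner_sub_left, classInner_smul_left, Finset.sum_sub_distrib, ← Finset.mul_sum,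
      rel_inner hT hF hψ]
  rw [show indFun Q (dl θ' θ₁) = indFun Q (θ' : Q → ℂ) - (deg (θ' : Q → ℂ) : ℂ) • indFun Q (θ₁ : Q → ℂ) by
    rw [dl, indFun_sub, indFun_smul], classInner_sub_right, classInner_smul_right, e θ' h', e θ₁ h₁,
    if_pos (rel_refl hT θ₁), Complex.conj_natCast]
  push_cast
  ring

/-- The differences are orthogonal to the sum of the two characters. -/
theorem orth {θ θ₁ : IrrCharacter Q} (h : θ ∈ Θ) (h₁ : θ₁ ∈ Θ) (hd : deg (θ₁ : Q → ℂ) = 1) :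
    classInner (indFun Q (dl θ θ₁)) (α : G → ℂ) + classInner (indFun Q (dl θ θ₁)) (β : G → ℂ) = 0 := by
  obtain ⟨c, hc⟩ := hF.restr
  rw [frobenius Q _ (isClassFunction_character (irr_isCharacter α.2)),
    frobenius Q _ (isClassFunction_character (irr_isCharacter β.2)), ← classInner_add_right]
  have h0 : classInner (dl θ θ₁) (fun _ : Q => (1 : ℂ)) = 0 := by
    rw [dl, classInner_sub_left, classInner_smul_left, hF.ne_one θ h, hF.ne_one θ₁ h₁, mul_zero, sub_zero]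
  refine Eq.trans ?_ h0
  simp only [classInner]
  congr 1
  refine Finset.sum_congr rfl fun x _ => ?_
  by_cases hx : x = 1
  · subst hx; simp [dl_one hd]
  · simp [(hc x hx).1, (hc x hx).2]

/-- Three inequivalent linear characters start the family. -/
theorem exists_base [Fintype Dg] {ι : Type*} [Fintype ι] (f : ι → IrrCharacter Q) (hf : ∀ i, f i ∈ Θ)
    (hd : ∀ i, deg (f i : Q → ℂ) = 1) (hne : ∀ i j, Rel hT (f i) (f j) → i = j) (h3 : 3 ≤ Fintype.card ι)
    (i₀ : ι) :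
    ∃ ε : ℤ, (ε = 1 ∨ ε = -1) ∧ ∃ Y₁ : IrrCharacter G, Y₁ ≠ α ∧ Y₁ ≠ β ∧
      ∀ i, Good hT α β ε (f i₀) Y₁ (f i) := by
  classical
  obtain ⟨i₁, hi₁⟩ := Fintype.exists_ne_of_one_lt_card (by omega : 1 < Fintype.card ι) i₀
  obtain ⟨i₂, hi₂0, hi₂1⟩ : ∃ i₂, i₂ ≠ i₀ ∧ i₂ ≠ i₁ := by
    by_contra h
    push Not at h
    have : Fintype.card ι ≤ ({i₀, i₁} : Finset ι).card := by
      rw [← Finset.card_univ]
      refine Finset.card_le_card fun i _ => ?_
      by_cases hi : i = i₀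
      · simp [hi]
      · simp [h i hi]
    have := Finset.card_le_two (a := i₀) (b := i₁)
    omega
  have hG : ∀ i j, i ≠ i₀ → j ≠ i₀ → classInner (indFun Q (dl (f i) (f i₀))) (indFun Q (dl (f j) (f i₀))) =
      if i = j then 2 else 1 := by
    intro i j hi hj
    rw [gram hT hF (hf j) (hf i₀) (hd i₀), hd i, hd j, if_neg (fun h => hj (hne _ _ h).symm),
      if_neg (fun h => hi (hne _ _ h))]
    by_cases hij : i = j
    · subst hij; rw [if_pos (rel_refl hT _), if_pos rfl]; norm_num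
    · rw [if_neg (fun h => hij (hne _ _ h)), if_neg hij]; norm_num
  choose p q hpq hDpq using fun i : {i // i ≠ i₀} => exists_pair_of_norm_two (dl_gen (f i) (f i₀))
    (dl_ind_one (hd i₀)) (by rw [hG i i i.2 i.2, if_pos rfl])
  have hI : ∀ i j : {i // i ≠ i₀}, (i : ι) ≠ j →
      (if p i = p j then (1 : ℤ) else 0) - (if p i = q j then 1 else 0) - (if q i = p j then 1 else 0) +
        (if q i = q j then 1 else 0) = 1 := by
    intro i j hij
    have h := hG i j i.2 j.2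
    rw [if_neg hij, hDpq i, hDpq j] at h
    simp only [classInner_sub_left, classInner_sub_right, irrC_orth] at h
    have h' : (((if p i = p j then (1 : ℤ) else 0) - (if p i = q j then 1 else 0) - (if q i = p j then 1 else 0) +
        (if q i = q j then 1 else 0) : ℤ) : ℂ) = ((1 : ℤ) : ℂ) := by
      push_cast
      linear_combination h
    exact_mod_cast h'
  let a : {i // i ≠ i₀} := ⟨i₁, hi₁⟩
  let b : {i // i ≠ i₀} := ⟨i₂, hi₂0⟩
  have hab := hI a b (fun e => hi₂1 e.symm)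
  -- the common character sits in the same position
  have key : (∀ i, p i = p a) ∨ (∀ i, q i = q a) := by
    by_cases hP : p a = p b
    · left
      intro i
      by_cases hia : (i : ι) = a
      · rw [Subtype.ext hia]
      by_cases hib : (i : ι) = b
      · rw [Subtype.ext hib, hP]
      have h1 := hI i a hia
      have h2 := hI i b hib
      by_contra hne'
      have hqq : q a ≠ q b := fun e => by
        rw [if_pos hP, if_pos e, if_neg (fun h => hpq b (hP.symm.trans h)),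
          if_neg (fun h => hpq a (hP.trans h.symm))] at hab
        norm_num at hab
      rw [← hP, if_neg hne'] at h2
      rw [if_neg hne'] at h1
      split_ifs at h1 with e1 e2 e3 e4 e5 e6 <;> split_ifs at h2 with f1 f2 f3 f4 f5 f6 <;>
        first
          | omega
          | exact hqq (e2.symm.trans f2)
          | exact hqq (e3.symm.trans f3)
          | exact hqq (e4.symm.trans f4)
          | exact hqq (e5.symm.trans f5)
          | exact hqq (e6.symm.trans f6)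
          | simp_all
    · right
      have hQ : q a = q b := by
        by_contra hQ
        rw [if_neg hP, if_neg hQ] at hab
        split_ifs at hab <;> omega
      intro i
      by_cases hia : (i : ι) = a
      · rw [Subtype.ext hia]
      by_cases hib : (i : ι) = b
      · rw [Subtype.ext hib, hQ]
      have h1 := hI i a hia
      have h2 := hI i b hib
      by_contra hne'
      rw [← hQ, if_neg hne'] at h2
      rw [if_neg hne'] at h1
      split_ifs at h1 with e1 e2 e3 e4 e5 e6 <;> split_ifs at h2 with f1 f2 f3 f4 f5 f6 <;>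
        first
          | omega
          | exact hP (e1.symm.trans f1)
          | exact hP (e2.symm.trans f2)
          | exact hP (e3.symm.trans f3)
          | exact hP (e4.symm.trans f4)
          | simp_all
  obtain ⟨ε, hε, Y₁, Y, hY, hYne, hYinj⟩ : ∃ ε : ℤ, (ε = 1 ∨ ε = -1) ∧ ∃ (Y₁ : IrrCharacter G)
      (Y : {i // i ≠ i₀} → IrrCharacter G),
      (∀ i : {i // i ≠ i₀}, indFun Q (dl (f i) (f i₀)) = (ε : ℂ) • ((Y i : G → ℂ) - (Y₁ : G → ℂ))) ∧
      (∀ i, Y i ≠ Y₁) ∧ Function.Injective Y := by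
    have hinj : ∀ i j, p i = p j → q i = q j → i = j := fun i j e1 e2 => by
      by_contra hne'
      have := hI i j (fun e => hne' (Subtype.ext e))
      rw [if_pos e1, if_pos e2, if_neg (fun h => hpq j (e1.symm.trans h)),
        if_neg (fun h => hpq i (e1.trans h.symm))] at this
      norm_num at this
    rcases key with h | h
    · refine ⟨-1, Or.inr rfl, p a, q, fun i => ?_, fun i e => hpq i (e.trans (h i).symm).symm,
        fun i j e => hinj i j ((h i).trans (h j).symm) e⟩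
      rw [hDpq i, h i]; simp
    · refine ⟨1, Or.inl rfl, q a, p, fun i => ?_, fun i e => hpq i (e.trans (h i).symm),
        fun i j e => hinj i j e ((h i).trans (h j).symm)⟩
      rw [hDpq i, h i]; simp
  have hεc : (ε : ℂ) ≠ 0 := by rcases hε with rfl | rfl <;> norm_num
  have horth : ∀ i, classInner ((Y i : G → ℂ) - (Y₁ : G → ℂ)) (α : G → ℂ) +
      classInner ((Y i : G → ℂ) - (Y₁ : G → ℂ)) (β : G → ℂ) = 0 := fun i => by
    have h := orth hT hF (hf i) (hf i₀) (hd i₀)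
    rw [hY i, classInner_smul_left, classInner_smul_left, ← mul_add] at h
    exact (mul_eq_zero.1 h).resolve_left hεc
  have hmem : ∀ i, (Y i = α ∨ Y i = β) ↔ (Y₁ = α ∨ Y₁ = β) := by
    intro i
    have h := horth i
    simp only [classInner_sub_left, irrC_orth] at h
    have hne := hF.ne
    by_cases h1 : Y i = α <;> by_cases h2 : Y i = β <;> by_cases h3 : Y₁ = α <;> by_cases h4 : Y₁ = β <;>
      first
        | exact absurd (h1.symm.trans h2) hne
        | exact absurd (h3.symm.trans h4) hne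
        | exact ⟨fun _ => Or.inl h3, fun _ => Or.inl h1⟩
        | exact ⟨fun _ => Or.inl h3, fun _ => Or.inr h2⟩
        | exact ⟨fun _ => Or.inr h4, fun _ => Or.inl h1⟩
        | exact ⟨fun _ => Or.inr h4, fun _ => Or.inr h2⟩
        | exact ⟨fun e => e.elim (absurd · h1) (absurd · h2), fun e => e.elim (absurd · h3) (absurd · h4)⟩
        | (exfalso; simp [h1, h2, h3, h4, hne, hne.symm] at h)
  have hgoodY : ∀ i, Y i ≠ α ∧ Y i ≠ β ∧ Y₁ ≠ α ∧ Y₁ ≠ β := by
    intro i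
    by_cases hY1 : Y₁ = α ∨ Y₁ = β
    · exfalso
      have hYa := (hmem a).2 hY1
      have hYb := (hmem b).2 hY1
      have hab' : Y a ≠ Y b := fun e => hi₂1 (congrArg Subtype.val (hYinj e)).symm
      rcases hY1 with e | e <;> rcases hYa with ea | ea <;> rcases hYb with eb | eb <;>
        first
          | exact hab' (ea.trans eb.symm)
          | exact hYne a (ea.trans e.symm)
          | exact hYne b (eb.trans e.symm)
    · rw [not_or] at hY1
      have h := mt (hmem i).1 (not_or.2 hY1)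
      rw [not_or] at h
      exact ⟨h.1, h.2, hY1.1, hY1.2⟩
  refine ⟨ε, hε, Y₁, (hgoodY a).2.2.1, (hgoodY a).2.2.2, fun i => ?_⟩
  by_cases hi : i = i₀
  · subst hi
    refine ⟨Y₁, (hgoodY a).2.2.1, (hgoodY a).2.2.2, ?_⟩
    rw [hd i, Nat.cast_one, one_smul, sub_self, smul_zero, dl, hd i, Nat.cast_one, one_smul, sub_self, indFun_zero]
  · exact ⟨Y ⟨i, hi⟩, (hgoodY ⟨i, hi⟩).1, (hgoodY ⟨i, hi⟩).2.1, by rw [hd i, Nat.cast_one, one_smul]; exact hY ⟨i, hi⟩⟩

/-- A character is good if the known characters of the family have large enough degrees. -/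
theorem good_of_sum [Fintype Dg] {ε : ℤ} (hε : ε = 1 ∨ ε = -1) {θ₁ : IrrCharacter Q} (h₁ : θ₁ ∈ Θ)
    (hd : deg (θ₁ : Q → ℂ) = 1) {Y₁ : IrrCharacter G} (hY₁ : Y₁ ≠ α ∧ Y₁ ≠ β) (R : Finset (IrrCharacter Q))
    (hRΘ : ∀ ψ ∈ R, ψ ∈ Θ) (hR : ∀ ψ ∈ R, Good hT α β ε θ₁ Y₁ ψ)
    (hRne : ∀ ψ ∈ R, ∀ ψ' ∈ R, Rel hT ψ ψ' → ψ = ψ') {θ : IrrCharacter Q} (h : θ ∈ Θ)
    (hsum : 2 * deg (θ : Q → ℂ) + 2 ≤ ∑ ψ ∈ R, deg (ψ : Q → ℂ) ^ 2) : Good hT α β ε θ₁ Y₁ θ := by
  classical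
  have hεε : (ε : ℂ) * ε = 1 := by rcases hε with rfl | rfl <;> norm_num
  have hεz : ε * ε = 1 := by rcases hε with rfl | rfl <;> norm_num
  have hεc : (ε : ℂ) ≠ 0 := fun e => by rw [e, mul_zero] at hεε; exact zero_ne_one hεε
  by_cases hex : ∃ ψ ∈ R, Rel hT ψ θ
  · obtain ⟨ψ, hψ, hrel⟩ := hex
    obtain ⟨Y, hYa, hYb, hY⟩ := hR ψ hψ
    obtain ⟨d, rfl⟩ := id hrel
    refine ⟨Y, hYa, hYb, ?_⟩
    rw [deg_tw, ← hY, dl, dl, indFun_sub, indFun_sub, indFun_smul, indFun_smul, ind_tw, deg_tw]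
  push Not at hex
  by_cases hθ1 : Rel hT θ₁ θ
  · obtain ⟨d, rfl⟩ := hθ1
    refine ⟨Y₁, hY₁.1, hY₁.2, ?_⟩
    rw [deg_tw, hd, Nat.cast_one, one_smul, sub_self, smul_zero, dl, deg_tw, hd, Nat.cast_one, one_smul, indFun_sub,
      ind_tw, sub_self]
  set δ := indFun Q (dl θ θ₁) with hδ
  obtain ⟨z, hz, hzc⟩ := exists_int_coords (dl_gen θ θ₁)
  set d : ℤ := (deg (θ : Q → ℂ) : ℤ) with hdd
  have hnorm : ∑ χ, z χ * z χ = 1 + d ^ 2 := by
    have h0 := gram hT hF (θ := θ) h h₁ hd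
    rw [if_pos (rel_refl hT θ), if_neg hθ1, if_neg (fun e => hθ1 (rel_symm hT e)),
      classInner_int_combination hz] at h0
    have h0' := Int.cast_injective (α := ℂ) h0
    rw [h0', hdd]; ring
  set A : ℤ := z Y₁ + ε * d with hA
  -- adjoin the first character to the known ones
  let R₀ := R.filter fun ψ => ¬ Rel hT θ₁ ψ
  choose Y hYa hYb hYeq using fun ψ : R₀ => hR ψ (Finset.mem_filter.1 ψ.2).1
  have hR0 : ∀ ψ : R₀, (ψ : IrrCharacter Q) ∈ Θ ∧ ¬ Rel hT θ₁ ψ ∧ ¬ Rel hT θ ψ := fun ψ =>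
    ⟨hRΘ _ (Finset.mem_filter.1 ψ.2).1, (Finset.mem_filter.1 ψ.2).2,
      fun e => hex _ (Finset.mem_filter.1 ψ.2).1 (rel_symm hT e)⟩
  have hYY : ∀ ψ ψ' : R₀, (if Y ψ = Y ψ' then (1 : ℤ) else 0) -
      (deg ((ψ : IrrCharacter Q) : Q → ℂ) : ℤ) * (if Y₁ = Y ψ' then 1 else 0) -
      (deg ((ψ' : IrrCharacter Q) : Q → ℂ) : ℤ) * (if Y ψ = Y₁ then 1 else 0) = if ψ = ψ' then 1 else 0 := by
    intro ψ ψ'
    have h0 := gram hT hF (θ := (ψ : IrrCharacter Q)) (hR0 ψ').1 h₁ hd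
    rw [if_neg (hR0 ψ').2.1, if_neg (fun e => (hR0 ψ).2.1 (rel_symm hT e)), hYeq ψ, hYeq ψ'] at h0
    simp only [classInner_smul_left, classInner_smul_right, classInner_sub_left, classInner_sub_right,
      irrC_orth, if_pos, map_intCast, Complex.conj_natCast] at h0
    have hrel : Rel hT (ψ : IrrCharacter Q) ψ' ↔ ψ = ψ' := ⟨fun e => Subtype.ext (hRne _
      (Finset.mem_filter.1 ψ.2).1 _ (Finset.mem_filter.1 ψ'.2).1 e), fun e => e ▸ rel_refl hT _⟩
    simp only [hrel] at h0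
    refine Int.cast_injective (α := ℂ) ?_
    push_cast at h0 ⊢
    linear_combination h0 - ((if Y ψ = Y ψ' then (1 : ℂ) else 0) -
      (deg ((ψ : IrrCharacter Q) : Q → ℂ) : ℂ) * (if Y₁ = Y ψ' then 1 else 0) -
      (deg ((ψ' : IrrCharacter Q) : Q → ℂ) : ℂ) *
        ((if Y ψ = Y₁ then (1 : ℂ) else 0) - (deg ((ψ : IrrCharacter Q) : Q → ℂ) : ℂ))) * hεε
  have hYne1 : ∀ ψ : R₀, Y ψ ≠ Y₁ := fun ψ e => by
    have := hYY ψ ψ
    rw [if_pos rfl, if_pos rfl, if_pos e, if_pos e.symm] at this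
    have : (0 : ℤ) < deg ((ψ : IrrCharacter Q) : Q → ℂ) := by exact_mod_cast deg_pos (ψ : IrrCharacter Q).2
    omega
  have hYinj : Function.Injective Y := fun ψ ψ' e => by
    by_contra hne'
    have := hYY ψ ψ'
    rw [if_neg hne', if_pos e, if_neg (fun h => hYne1 ψ' h.symm), if_neg (hYne1 ψ)] at this
    norm_num at this
  have hzY : ∀ ψ : R₀, z (Y ψ) = (deg ((ψ : IrrCharacter Q) : Q → ℂ) : ℤ) * A := by
    intro ψ
    have h0 := gram hT hF (θ := θ) (hR0 ψ).1 h₁ hd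
    rw [if_neg (hR0 ψ).2.2, if_neg (hR0 ψ).2.1, if_neg (fun e => hθ1 (rel_symm hT e)), hYeq ψ,
      classInner_smul_right, classInner_sub_right, classInner_smul_right, hzc, hzc, map_intCast,
      Complex.conj_natCast] at h0
    refine Int.cast_injective (α := ℂ) ?_
    rw [hA, hdd]
    push_cast at h0 ⊢
    linear_combination (ε : ℂ) * h0 - ((z (Y ψ) : ℂ) - (deg ((ψ : IrrCharacter Q) : Q → ℂ) : ℂ) * (z Y₁ : ℂ)) * hεε
  let T : Finset (IrrCharacter G) := insert Y₁ (Finset.univ.image Y)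
  have hY1T : Y₁ ∉ Finset.univ.image Y := fun e => by
    obtain ⟨ψ, -, hψ⟩ := Finset.mem_image.1 e
    exact hYne1 ψ hψ
  set S : ℤ := 1 + ∑ ψ ∈ R₀, (deg (ψ : Q → ℂ) : ℤ) ^ 2 with hS
  have hT' : ∑ χ ∈ T, z χ * z χ = A ^ 2 * S - 2 * ε * d * A + d ^ 2 := by
    rw [Finset.sum_insert hY1T, Finset.sum_image fun x _ y _ e => hYinj e]
    simp only [hzY]
    rw [show ∑ ψ : R₀, (deg ((ψ : IrrCharacter Q) : Q → ℂ) : ℤ) * A *
        ((deg ((ψ : IrrCharacter Q) : Q → ℂ) : ℤ) * A) = (∑ ψ ∈ R₀, (deg (ψ : Q → ℂ) : ℤ) ^ 2) * A ^ 2 by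
      rw [Finset.sum_mul, ← Finset.sum_coe_sort R₀]
      exact Finset.sum_congr rfl fun ψ _ => by ring, hS, hA]
    linear_combination (d ^ 2) * hεz
  have hSge : (2 * d + 2 : ℤ) ≤ S := by
    have h1 : (∑ ψ ∈ R.filter (fun ψ => Rel hT θ₁ ψ), deg (ψ : Q → ℂ) ^ 2) ≤ 1 := by
      have hc : (R.filter (fun ψ => Rel hT θ₁ ψ)).card ≤ 1 := Finset.card_le_one.2 fun x hx y hy =>
        hRne _ (Finset.mem_filter.1 hx).1 _ (Finset.mem_filter.1 hy).1
          (rel_trans hT (rel_symm hT (Finset.mem_filter.1 hx).2) (Finset.mem_filter.1 hy).2)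
      rw [Finset.sum_congr rfl fun ψ hψ => by rw [deg_rel hT (Finset.mem_filter.1 hψ).2, hd, one_pow],
        Finset.sum_const, smul_eq_mul, mul_one]
      exact hc
    rw [← Finset.sum_filter_add_sum_filter_not R (fun ψ => Rel hT θ₁ ψ)] at hsum
    have h2 : ((∑ ψ ∈ R₀, deg (ψ : Q → ℂ) ^ 2 : ℕ) : ℤ) = ∑ ψ ∈ R₀, (deg (ψ : Q → ℂ) : ℤ) ^ 2 := by push_cast; rfl
    rw [hS, hdd, ← h2]
    have : 2 * deg (θ : Q → ℂ) + 2 ≤ 1 + ∑ ψ ∈ R₀, deg (ψ : Q → ℂ) ^ 2 := by
      simp only [R₀]; omega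
    exact_mod_cast this
  have hd0 : 0 ≤ d := by rw [hdd]; positivity
  rw [← Finset.sum_add_sum_compl T, hT'] at hnorm
  have hrest : ∀ χ ∈ Tᶜ, (0 : ℤ) ≤ z χ * z χ := fun χ _ => mul_self_nonneg _
  have hR' := Finset.sum_nonneg hrest
  have hA0 : A = 0 := by
    by_contra hA0
    have hA1 : 1 ≤ A ^ 2 := by nlinarith [mul_self_pos.2 hA0]
    rcases hε with e | e <;> rcases le_or_gt 0 A with h0 | h0 <;> subst e <;>
      nlinarith [mul_le_mul_of_nonneg_left hSge (sq_nonneg A), mul_nonneg hd0 (sq_nonneg A),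
        mul_nonneg hd0 (mul_self_nonneg (A - 1)), mul_nonneg hd0 (mul_self_nonneg (A + 1))]
  rw [hA0] at hnorm
  have hrest1 : ∑ χ ∈ Tᶜ, z χ * z χ = 1 := by linarith
  have hzTc : ∀ χ ∈ T, χ ≠ Y₁ → z χ = 0 := fun χ hχ hne' => by
    obtain ⟨ψ, -, rfl⟩ := Finset.mem_image.1 (Finset.mem_of_mem_insert_of_ne hχ hne')
    rw [hzY, hA0, mul_zero]
  obtain ⟨Z, hZT, hZ⟩ : ∃ Z ∈ Tᶜ, z Z ≠ 0 := by
    by_contra hh
    push Not at hh
    rw [Finset.sum_eq_zero fun χ hχ => by rw [hh χ hχ, mul_zero]] at hrest1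
    exact zero_ne_one hrest1
  rw [← Finset.add_sum_erase _ _ hZT] at hrest1
  have hZ1 : 1 ≤ z Z * z Z := mul_self_pos.2 hZ
  have hoth := Finset.sum_nonneg fun χ (hχ : χ ∈ Tᶜ.erase Z) => mul_self_nonneg (z χ)
  have hzero : ∀ χ, χ ≠ Z → χ ≠ Y₁ → z χ = 0 := fun χ h1 h2 => by
    by_cases hχ : χ ∈ T
    · exact hzTc χ hχ h2
    · exact mul_self_eq_zero.1 ((Finset.sum_eq_zero_iff_of_nonneg fun χ _ => mul_self_nonneg (z χ)).1
        (by linarith) χ (Finset.mem_erase.2 ⟨h1, Finset.mem_compl.2 hχ⟩))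
  have hZY : Z ≠ Y₁ := fun e => Finset.mem_compl.1 hZT (e ▸ Finset.mem_insert_self _ _)
  have hexp : δ = (z Z : ℂ) • (Z : G → ℂ) + (z Y₁ : ℂ) • (Y₁ : G → ℂ) := by
    rw [hδ, hz, ← Finset.sum_subset (Finset.subset_univ {Z, Y₁}) (fun χ _ hχ => by
      simp only [Finset.mem_insert, Finset.mem_singleton, not_or] at hχ
      rw [hzero χ hχ.1 hχ.2, Int.cast_zero, zero_smul]), Finset.sum_pair hZY]
  have hz1 : z Y₁ = -(ε * d) := by linarith [hA ▸ hA0]
  have hsign : z Z = ε := by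
    have h0 : δ 1 = 0 := dl_ind_one hd
    rw [hexp, Pi.add_apply, Pi.smul_apply, Pi.smul_apply, smul_eq_mul, smul_eq_mul,
      char_one_eq_deg (irr_isCharacter Z.2), char_one_eq_deg (irr_isCharacter Y₁.2), hz1] at h0
    have h0' : z Z * deg (Z : G → ℂ) + -(ε * d) * deg (Y₁ : G → ℂ) = 0 := by
      refine Int.cast_injective (α := ℂ) ?_
      push_cast at h0 ⊢
      exact h0
    have hsq : z Z * z Z = 1 := by linarith
    have hp : (0 : ℤ) < deg (Z : G → ℂ) := by exact_mod_cast deg_pos Z.2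
    have hp1 : (0 : ℤ) ≤ d * deg (Y₁ : G → ℂ) := by positivity
    rcases mul_self_eq_one_iff.1 hsq with e | e <;> rcases hε with rfl | rfl <;> rw [e] at h0' ⊢ <;>
      first | rfl | (exfalso; nlinarith)
  have hZab : Z ≠ α ∧ Z ≠ β := by
    have h0 := orth hT hF h h₁ hd
    rw [hzc, hzc] at h0
    have h0' : z α + z β = 0 := by exact_mod_cast h0
    have hz0 : z Z ≠ 0 := hZ
    constructor <;> intro e <;> subst e
    · rw [hzero β hF.ne.symm hY₁.2.symm, add_zero] at h0'; exact hz0 h0'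
    · rw [hzero α hF.ne hY₁.1.symm, zero_add] at h0'; exact hz0 h0'
  refine ⟨Z, hZab.1, hZab.2, ?_⟩
  rw [← hδ, hexp, hsign, hz1, smul_sub, smul_smul, hdd, sub_eq_add_neg, ← neg_smul]
  push_cast
  ring_nf

/-- The inner products with the second character are proportional to the degrees. -/
theorem inner_beta {ε : ℤ} {θ₁ : IrrCharacter Q} {Y₁ : IrrCharacter G} (hY₁ : Y₁ ≠ β) {θ : IrrCharacter Q}
    (hg : Good hT α β ε θ₁ Y₁ θ) :
    classInner (θ : Q → ℂ) (fun x : Q => (β : G → ℂ) x) =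
      (deg (θ : Q → ℂ) : ℂ) * classInner (θ₁ : Q → ℂ) (fun x : Q => (β : G → ℂ) x) := by
  obtain ⟨Y, -, hYb, hY⟩ := hg
  have h := frobenius Q (dl θ θ₁) (isClassFunction_character (irr_isCharacter β.2))
  rw [hY, classInner_smul_left, classInner_sub_left, classInner_smul_left, irrC_orth, irrC_orth, if_neg hYb,
    if_neg hY₁, mul_zero, sub_self, mul_zero, dl, classInner_sub_left, classInner_smul_left, eq_comm, sub_eq_zero] at h
  exact h

omit hF in
/-- Orbit representatives of an invariant set on which the action is free. -/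
theorem exists_reps [Fintype Dg] (T : Finset (IrrCharacter Q)) (hc : ∀ θ ∈ T, ∀ d : Dg, tw hT d θ ∈ T)
    (hfree : ∀ θ ∈ T, ∀ d : Dg, tw hT d θ = θ → d = 1) :
    ∃ R ⊆ T, (∀ ψ ∈ R, ∀ ψ' ∈ R, Rel hT ψ ψ' → ψ = ψ') ∧
      Nat.card Dg * ∑ ψ ∈ R, deg (ψ : Q → ℂ) ^ 2 = ∑ ψ ∈ T, deg (ψ : Q → ℂ) ^ 2 := by
  classical
  let st : Setoid (IrrCharacter Q) := ⟨Rel hT, rel_refl hT, rel_symm hT, rel_trans hT⟩
  let rep : IrrCharacter Q → IrrCharacter Q := fun θ => (Quotient.mk st θ).out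
  have hrep : ∀ θ, Rel hT θ (rep θ) := fun θ => rel_symm hT (Quotient.mk_out (s := st) θ)
  have hrep' : ∀ θ θ', Rel hT θ θ' → rep θ = rep θ' := fun θ θ' h => congrArg Quotient.out (Quotient.sound (s := st) h)
  refine ⟨T.image rep, fun ψ hψ => ?_, fun ψ hψ ψ' hψ' h => ?_, ?_⟩
  · obtain ⟨θ, hθ, rfl⟩ := Finset.mem_image.1 hψ
    obtain ⟨d, hd⟩ := hrep θ
    exact hd ▸ hc θ hθ d
  · obtain ⟨θ, -, rfl⟩ := Finset.mem_image.1 hψ
    obtain ⟨θ', -, rfl⟩ := Finset.mem_image.1 hψ'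
    exact hrep' _ _ (rel_trans hT (hrep θ) (rel_trans hT h (rel_symm hT (hrep θ'))))
  · rw [← Finset.sum_fiberwise_of_maps_to (s := T) (t := T.image rep) (g := rep)
      (fun θ hθ => Finset.mem_image_of_mem rep hθ), Finset.mul_sum]
    refine Finset.sum_congr rfl fun ψ hψ => ?_
    obtain ⟨θ₀, hθ₀, rfl⟩ := Finset.mem_image.1 hψ
    have e : T.filter (fun θ => rep θ = rep θ₀) = Finset.univ.image fun d : Dg => tw hT d θ₀ := by
      ext θ
      simp only [Finset.mem_filter, Finset.mem_image, Finset.mem_univ, true_and]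
      constructor
      · rintro ⟨-, h⟩
        exact rel_trans hT (hrep θ₀) (h ▸ rel_symm hT (hrep θ))
      · rintro ⟨d, rfl⟩
        exact ⟨hc θ₀ hθ₀ d, (hrep' _ _ ⟨d, rfl⟩).symm⟩
    rw [e, Finset.sum_image fun d _ d' _ h => ?_]
    · rw [Finset.sum_congr rfl fun d _ => by rw [deg_tw], Finset.sum_const, smul_eq_mul, Finset.card_univ,
        deg_rel hT (hrep θ₀), Nat.card_eq_fintype_card]
    · have h1 : tw hT (d * d'⁻¹) θ₀ = θ₀ := by
        show tw hT (d * d'⁻¹) θ₀ = θ₀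
        rw [tw_mul]
        conv_lhs => rw [show tw hT d θ₀ = tw hT d' θ₀ from h]
        rw [← tw_mul, mul_inv_cancel, tw_one]
      exact mul_inv_eq_one.1 (hfree θ₀ hθ₀ _ h1)

end Cfsg.Agent.Lie.R1C.Coh
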