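import Cfsg.Agent.Lib.Lie.SplitRankOne.CaseBCube
import Cfsg.Agent.Lib.Lie.SplitRankOne.TIFamily
import Cfsg.Agent.Lib.Char.PermLemma
import Cfsg.Agent.Lib.Char.CoherenceDescent

/-!
The second case is impossible: exceptional characters for the product `S × U`.
-/

set_option autoImplicit false
set_option linter.unusedSectionVars false
set_option linter.unusedSimpArgs false
set_option linter.style.haveILetI false

open scoped ComplexConjugate commutatorElement
open Cfsg Cfsg.Agent.Char MulAction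
open Cfsg.Agent.Lie.R1 (D tt t_inv tDt)

namespace Cfsg.Agent.Lie.R1C

universe u v

section Prod

variable {A B P : Type u} [Group A] [Group B] [Group P] [Fintype A] [Fintype B] [Fintype P] (e : A × B ≃* P)

/-- The projection to the first factor. -/
def prA : P →* A := (MonoidHom.fst A B).comp e.symm.toMonoidHom

/-- The projection to the second factor. -/
def prB : P →* B := (MonoidHom.snd A B).comp e.symm.toMonoidHom

theorem prA_e (a : A) (b : B) : prA e (e (a, b)) = a := by simp [prA]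

theorem prB_e (a : A) (b : B) : prB e (e (a, b)) = b := by simp [prB]

theorem classInner_prod (f f' : A → ℂ) (g g' : B → ℂ) :
    classInner (fun x : P => f (prA e x) * g (prB e x)) (fun x : P => f' (prA e x) * g' (prB e x)) =
      classInner f f' * classInner g g' := by
  simp only [classInner]
  rw [← Equiv.sum_comp e.toEquiv, ← Nat.card_congr e.toEquiv, Nat.card_prod, Fintype.sum_prod_type]
  simp only [MulEquiv.toEquiv_eq_coe, EquivLike.coe_coe, prA_e, prB_e, map_mul]
  push_cast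
  rw [mul_inv, mul_mul_mul_comm, Finset.sum_mul_sum]
  congr 1
  exact Finset.sum_congr rfl fun a _ => Finset.sum_congr rfl fun b _ => by ring

/-- The product of two irreducible characters. -/
noncomputable def pc (ρ : IrrCharacter A) (η : IrrCharacter B) : IrrCharacter P :=
  ⟨fun x => (ρ : A → ℂ) (prA e x) * (η : B → ℂ) (prB e x),
    isIrr_of_norm_one (isCharacter_mul (isCharacter_comp (prA e) (irr_isCharacter ρ.2))
      (isCharacter_comp (prB e) (irr_isCharacter η.2)))
      (by rw [classInner_prod, irr_self ρ.2, irr_self η.2, one_mul])⟩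

theorem pc_apply (ρ : IrrCharacter A) (η : IrrCharacter B) (x : P) :
    (pc e ρ η : P → ℂ) x = (ρ : A → ℂ) (prA e x) * (η : B → ℂ) (prB e x) := rfl

theorem deg_pc (ρ : IrrCharacter A) (η : IrrCharacter B) :
    deg (pc e ρ η : P → ℂ) = deg (ρ : A → ℂ) * deg (η : B → ℂ) := by
  have h := char_one_eq_deg (irr_isCharacter (pc e ρ η).2)
  rw [pc_apply, map_one, map_one, char_one_eq_deg (irr_isCharacter ρ.2), char_one_eq_deg (irr_isCharacter η.2),
    ← Nat.cast_mul] at h
  exact_mod_cast h.symm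

theorem pc_inj {ρ ρ' : IrrCharacter A} {η η' : IrrCharacter B} (h : pc e ρ η = pc e ρ' η') : ρ = ρ' ∧ η = η' := by
  classical
  have h1 := irr_self (pc e ρ η).2
  nth_rewrite 2 [h] at h1
  rw [show (pc e ρ η : P → ℂ) = fun x => (ρ : A → ℂ) (prA e x) * (η : B → ℂ) (prB e x) from rfl,
    show (pc e ρ' η' : P → ℂ) = fun x => (ρ' : A → ℂ) (prA e x) * (η' : B → ℂ) (prB e x) from rfl,
    classInner_prod, irrC_orth, irrC_orth] at h1
  split_ifs at h1 with h2 h3
  · exact ⟨h2, h3⟩
  all_goals simp at h1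

/-- Weighted sum over the characters of the first factor. -/
theorem sum_deg_inner (η : IrrCharacter B) (F : P → ℂ) :
    ∑ ρ : IrrCharacter A, (deg (ρ : A → ℂ) : ℂ) * classInner (pc e ρ η : P → ℂ) F =
      classInner (η : B → ℂ) (fun b => F (e (1, b))) := by
  classical
  have hso : ∀ a : A, ∑ ρ : IrrCharacter A, (ρ : A → ℂ) a * (deg (ρ : A → ℂ) : ℂ) =
      if a = 1 then (Nat.card A : ℂ) else 0 := fun a => by
    have h := second_orth a (1 : A)
    simp only [fun ρ : IrrCharacter A => char_one_eq_deg (irr_isCharacter ρ.2), Complex.conj_natCast] at h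
    rw [h]
    by_cases ha : a = 1
    · rw [if_pos ha, if_pos (ha ▸ IsConj.refl (1 : A))]
      haveI : Unique {x : A // IsConj 1 x} :=
        { default := ⟨1, IsConj.refl _⟩, uniq := fun x => Subtype.ext (isConj_one_right.1 x.2) }
      rw [show Nat.card {x : A // IsConj 1 x} = 1 from Nat.card_unique, Nat.cast_one, div_one]
    · rw [if_neg ha, if_neg fun h => ha (isConj_one_left.1 h)]
  have hex : ∀ ρ : IrrCharacter A, classInner (pc e ρ η : P → ℂ) F =
      (Nat.card P : ℂ)⁻¹ * ∑ a : A, ∑ b : B, (ρ : A → ℂ) a * (η : B → ℂ) b * conj (F (e (a, b))) := fun ρ => by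
    simp only [classInner]
    rw [← Equiv.sum_comp e.toEquiv, Fintype.sum_prod_type]
    simp only [MulEquiv.toEquiv_eq_coe, EquivLike.coe_coe, pc_apply, prA_e, prB_e]
  rw [Finset.sum_congr rfl fun (ρ : IrrCharacter A) _ => congrArg (HMul.hMul (deg (ρ : A → ℂ) : ℂ)) (hex ρ)]
  simp only [classInner, Finset.mul_sum]
  rw [Finset.sum_congr rfl fun ρ _ => Finset.sum_comm, Finset.sum_comm]
  refine Finset.sum_congr rfl fun b _ => ?_
  rw [Finset.sum_comm]
  rw [Finset.sum_congr rfl fun a _ => Finset.sum_congr rfl (g := fun ρ : IrrCharacter A =>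
    (Nat.card P : ℂ)⁻¹ * ((η : B → ℂ) b * conj (F (e (a, b)))) * ((ρ : A → ℂ) a * (deg (ρ : A → ℂ) : ℂ)))
      fun ρ _ => by ring]
  simp only [← Finset.mul_sum, hso, mul_ite, mul_zero]
  rw [Finset.sum_ite_eq' Finset.univ (1 : A), if_pos (Finset.mem_univ _), ← Nat.card_congr e.toEquiv, Nat.card_prod]
  have hA : (Nat.card A : ℂ) ≠ 0 := Nat.cast_ne_zero.2 Nat.card_pos.ne'
  push_cast
  field_simp

end Prod

section Irr

variable {B : Type u} [Group B] [Fintype B]

/-- The trivial character. -/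
noncomputable def one1 : IrrCharacter B := ⟨fun _ => 1, isIrrCharacter_one⟩

theorem deg_one1 : deg ((one1 : IrrCharacter B) : B → ℂ) = 1 := by
  have h := char_one_eq_deg (irr_isCharacter (one1 : IrrCharacter B).2)
  have h' : ((one1 : IrrCharacter B) : B → ℂ) 1 = 1 := rfl
  rw [h'] at h
  exact_mod_cast h.symm

theorem eq_one1_of_const {η : IrrCharacter B} (h : ∀ x : B, (η : B → ℂ) x = (η : B → ℂ) 1) : η = one1 := by
  classical
  by_contra hne
  have h1 := irrC_orth η (one1 : IrrCharacter B)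
  rw [if_neg hne] at h1
  have h2 : classInner (η : B → ℂ) ((one1 : IrrCharacter B) : B → ℂ) = (η : B → ℂ) 1 := by
    simp only [classInner, one1, h, map_one, mul_one, Finset.sum_const, Finset.card_univ, nsmul_eq_mul]
    rw [← Nat.card_eq_fintype_card, inv_mul_cancel_left₀ (Nat.cast_ne_zero.2 Nat.card_pos.ne')]
  exact irr_one_ne_zero η.2 (h2.symm.trans h1)

theorem irrComp_one1 (α : MulAut B) : irrComp α (one1 : IrrCharacter B) = one1 := Subtype.ext rfl

/-- An automorphism of prime order prime to the group order, fixing only the identity, fixes only the trivial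
character. -/
theorem eq_one1_of_fix (α : MulAut B) {r : ℕ} (hr : r.Prime) (hα : α ^ r = 1) (hco : ¬ r ∣ Nat.card B)
    (hfpf : ∀ x, α x = x → x = 1) {η : IrrCharacter B} (hη : irrComp α η = η) : η = one1 := by
  classical
  haveI := Fact.mk hr
  have hcl : ∀ C : ConjClasses B, ConjClasses.map α.toMonoidHom C = C → C = ConjClasses.mk 1 := by
    intro C hC
    obtain ⟨x₀, rfl⟩ := ConjClasses.mk_surjective C
    have hx₀ : IsConj (α x₀) x₀ := ConjClasses.mk_eq_mk_iff_isConj.1 hC
    let X := {x : B // IsConj x₀ x}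
    let σ : Equiv.Perm X :=
      { toFun := fun x => ⟨α x.1, hx₀.symm.trans (MonoidHom.map_isConj α.toMonoidHom x.2)⟩
        invFun := fun x => ⟨α.symm x.1, by
          have h1 := MonoidHom.map_isConj α.symm.toMonoidHom hx₀.symm
          simp only [MulEquiv.toMonoidHom_eq_coe, MonoidHom.coe_coe, MulEquiv.symm_apply_apply] at h1
          exact h1.symm.trans (MonoidHom.map_isConj α.symm.toMonoidHom x.2)⟩
        left_inv := fun x => Subtype.ext (α.symm_apply_apply _)
        right_inv := fun x => Subtype.ext (α.apply_symm_apply _) }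
    have hσ : ∀ (n : ℕ) (x : X), ((σ ^ n) x).1 = (α ^ n) x.1 := by
      intro n
      induction n with
      | zero => intro x; rfl
      | succ n ih =>
        intro x
        rw [pow_succ', pow_succ', Equiv.Perm.mul_apply, MulAut.mul_apply, ← ih x]
        rfl
    have hσr : σ ^ r ^ 1 = 1 := Equiv.ext fun x => Subtype.ext (by rw [pow_one, hσ r x, hα]; rfl)
    have hX : Nat.card X ∣ Nat.card B := by
      have e : Nat.card X = (MulAction.stabilizer (ConjAct B) x₀).index := by
        rw [MulAction.index_stabilizer, ← Nat.card_coe_set_eq]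
        exact Nat.card_congr (Equiv.subtypeEquivRight fun x => by
          rw [ConjAct.orbit_eq_carrier_conjClasses, ConjClasses.mem_carrier_iff_mk_eq,
            ConjClasses.mk_eq_mk_iff_isConj]
          exact ⟨IsConj.symm, IsConj.symm⟩)
      rw [e]
      exact Subgroup.index_dvd_card _
    obtain ⟨x, hx⟩ := Equiv.Perm.exists_fixed_point_of_prime (p := r) (n := 1)
      (fun h => hco ((Nat.card_eq_fintype_card (α := X) ▸ h).trans hX)) hσr
    have hx1 := hfpf x.1 (congrArg Subtype.val hx)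
    exact ConjClasses.mk_eq_mk_iff_isConj.2 (hx1 ▸ x.2)
  have h1 : Nat.card {C : ConjClasses B // ConjClasses.map α.toMonoidHom C = C} ≤ 1 := by
    haveI : Subsingleton {C : ConjClasses B // ConjClasses.map α.toMonoidHom C = C} :=
      ⟨fun C C' => Subtype.ext ((hcl C C.2).trans (hcl C' C'.2).symm)⟩
    exact Finite.card_le_one_iff_subsingleton.2 inferInstance
  rw [← card_fixed_irr_eq_card_fixed_classes, Finite.card_le_one_iff_subsingleton] at h1
  exact congrArg Subtype.val (h1.elim ⟨η, hη⟩ ⟨one1, irrComp_one1 α⟩)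

/-- The degrees over a subgroup that is central modulo the kernel. -/
theorem deg_sq_le_index (N M : Subgroup B) [M.Normal] (hc : ∀ x ∈ M, ∀ y : B, x * y * x⁻¹ * y⁻¹ ∈ N) (hNM : N ≤ ⊤)
    (η : IrrCharacter B) (hker : ∀ x ∈ N, (η : B → ℂ) x = (η : B → ℂ) 1) : deg (η : B → ℂ) ^ 2 ≤ M.index := by
  have h := deg_sq_le_of_central_section N M ⊤ le_top hNM (fun x hx y _ => hc x hx y) η hker
  rwa [Subgroup.index_top, one_pow, one_mul, Subgroup.relIndex_top_right] at h

theorem deg_le_one (N : Subgroup B) (hc : ∀ x y : B, x * y * x⁻¹ * y⁻¹ ∈ N) (η : IrrCharacter B)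
    (hker : ∀ x ∈ N, (η : B → ℂ) x = (η : B → ℂ) 1) : deg (η : B → ℂ) = 1 := by
  have h := deg_sq_le_index N ⊤ (fun x _ y => hc x y) le_top η hker
  rw [Subgroup.index_top] at h
  have := deg_pos η.2
  nlinarith

/-- A group of odd order has a nontrivial linear character. -/
theorem exists_lin (hodd : Odd (Nat.card B)) [Nontrivial B] :
    ∃ η : IrrCharacter B, η ≠ one1 ∧ deg (η : B → ℂ) = 1 := by
  obtain ⟨l, hl⟩ := exists_linear hodd ‹_›
  have hirr := isIrr_linear_mul (one1 : IrrCharacter B).2 l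
  refine ⟨⟨_, hirr⟩, fun e => hl (MonoidHom.ext fun g => ?_), ?_⟩
  · have h := congrFun (congrArg Subtype.val e) g
    simp only [one1, mul_one] at h
    rw [Units.val_eq_one.1 h, MonoidHom.one_apply]
  · have h := char_one_eq_deg (irr_isCharacter hirr)
    simp only [one1, map_one, Units.val_one, mul_one] at h ⊢
    exact_mod_cast h.symm

end Irr

namespace BCtx

variable {G : Type u} {Ω : Type v} [Group G] [MulAction G Ω] [Finite G] {a : Ω} {t : G} {Q S U : Subgroup G}
variable [IsSimpleGroup G] (h : BCtx G a t Q S U)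

include h

theorem ti : Coh.TI Q (D G a t) where
  normQ d hd x hx := R1.conj_Q h.ctx.hS (Subgroup.mem_inf.1 hd).1 hx
  inf x hx hxD := R1.Q_D_bot h.ctx.hS hx (Subgroup.mem_inf.1 hxD).2
  ti g x hx hx1 hgx := R1.mem_sup h.ctx.hS (by
    by_contra hga
    refine hx1 (R1.q_free h.ctx.hS hx (b := g⁻¹ • a) (fun e => hga ?_) ?_)
    · exact (inv_smul_eq_iff.1 e).symm
    · have e := R1.fix_a h.ctx.hS hgx
      rw [mul_smul, mul_smul, smul_eq_iff_eq_inv_smul] at e
      exact e)

/-- The action of the stabiliser of two points on `S`. -/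
noncomputable def cS (d : D G a t) : MulAut S :=
  conjSub S (d : G) fun _ hx => h.conj_S (Subgroup.mem_inf.1 d.2).1 hx

/-- The action of the stabiliser of two points on `U`. -/
noncomputable def cU (d : D G a t) : MulAut U :=
  conjSub U (d : G) fun _ hx => h.conj_U (Subgroup.mem_inf.1 d.2).1 hx

/-- The product decomposition. -/
noncomputable def eq2 : S × U ≃* Q := h.split.equiv Nat.prime_two

theorem eq2_coe (s : S) (u : U) : ((h.eq2 (s, u) : Q) : G) = s * u := rfl

theorem tw_pc [Fintype G] [Fintype S] [Fintype U] [Fintype Q] (d : D G a t) (ρ : IrrCharacter S) (η : IrrCharacter U) :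
    Coh.tw h.ti d (pc h.eq2 ρ η) = pc h.eq2 (irrComp (h.cS d) ρ) (irrComp (h.cU d) η) := by
  refine Subtype.ext (funext fun x => ?_)
  obtain ⟨⟨s, u⟩, rfl⟩ := h.eq2.surjective x
  have e : Coh.cj h.ti d (h.eq2 (s, u)) = h.eq2 (h.cS d s, h.cU d u) := Subtype.ext (by
    rw [Coh.cj_coe, eq2_coe, eq2_coe]
    show _ = ((d : G) * s * (d : G)⁻¹) * ((d : G) * u * (d : G)⁻¹)
    group)
  rw [Coh.tw_apply, e, pc_apply, pc_apply, prA_e, prB_e, prA_e, prB_e, irrComp_apply, irrComp_apply]

theorem cU_pow (d : D G a t) (n : ℕ) (x : U) : (((h.cU d) ^ n) x : G) = (d : G) ^ n * x * ((d : G) ^ n)⁻¹ :=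
  conjSub_pow _ _ _ n x

/-- Only the trivial character of `U` is fixed by a nontrivial element of `D`. -/
theorem fix_irr [Fintype U] {d : D G a t} (hd : d ≠ 1) {η : IrrCharacter U} (hη : irrComp (h.cU d) η = η) :
    η = one1 := by
  obtain ⟨r, hr, hrd⟩ := Nat.exists_prime_and_dvd (show orderOf (d : G) ≠ 1 by
    rw [Ne, orderOf_eq_one_iff]; exact fun e => hd (Subtype.ext e))
  obtain ⟨m, hm⟩ := hrd
  have her : orderOf ((d : G) ^ m) = r := by
    rw [orderOf_pow, hm, Nat.gcd_mul_left_left, Nat.mul_div_cancel]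
    exact Nat.pos_of_ne_zero fun e => (orderOf_pos (d : G)).ne' (by rw [hm, e, mul_zero])
  have hrD : r ∣ Nat.card (D G a t) := her ▸ Subgroup.orderOf_dvd_natCard _ (pow_mem d.2 m)
  have hα : ∀ n, irrComp (h.cU d ^ n) η = η := by
    intro n
    induction n with
    | zero => exact Subtype.ext (funext fun x => by rw [irrComp_apply, pow_zero, MulAut.one_apply])
    | succ n ih =>
      refine Subtype.ext (funext fun x => ?_)
      rw [irrComp_apply, pow_succ', MulAut.mul_apply, ← irrComp_apply (h.cU d), hη, ← irrComp_apply (h.cU d ^ n),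
        ih]
  refine eq_one1_of_fix (h.cU d ^ m) hr ?_ (fun hrU => ?_) (fun x hx => ?_) (hα m)
  · refine MulEquiv.ext fun x => Subtype.ext ?_
    rw [← pow_mul, h.cU_pow, mul_comm m r, ← hm, pow_orderOf_eq_one, one_mul, inv_one, mul_one]
    rfl
  · exact h.not_dvd_D hr (fun e => h.split.U_coprime (e ▸ hrU)) (hrU.trans h.U_dvd) hrD
  · have e := congrArg Subtype.val hx
    rw [h.cU_pow] at e
    exact Subtype.ext (h.fpf_U (pow_mem d.2 m) (fun e' => hr.ne_one (by rw [← her, e', orderOf_one])) x.2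
      (mul_inv_eq_iff_eq_mul.1 e))

theorem odd_index [Fintype U] (N : Subgroup U) : Odd N.index := h.odd_U.of_dvd_nat N.index_dvd_card

theorem q_even : 2 ∣ Nat.card (zg G a) := by
  obtain ⟨x, -, hx, -, -⟩ := R1.two_inv h.ctx.hS h.ctx.h2
  have hzx : x ∈ zg G a := h.ctx.mem_zg.2 (Or.inr hx)
  have ho : orderOf x = 2 := orderOf_eq_prime (by rw [pow_two]; exact h.ctx.zg_sq hzx) hx.2.1
  exact ho ▸ Subgroup.orderOf_dvd_natCard _ hzx

theorem q_four : 4 ≤ Nat.card (zg G a) := by
  classical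
  obtain ⟨x, y, hx, hy, hxy⟩ := R1.two_inv h.ctx.hS h.ctx.h2
  haveI := Fintype.ofFinite (zg G a)
  have h3 : 2 < Fintype.card (zg G a) := Fintype.two_lt_card_iff.2
    ⟨⟨x, h.ctx.mem_zg.2 (Or.inr hx)⟩, ⟨y, h.ctx.mem_zg.2 (Or.inr hy)⟩, 1,
      fun e => hxy (congrArg Subtype.val e), fun e => hx.2.1 (congrArg Subtype.val e),
      fun e => hy.2.1 (congrArg Subtype.val e)⟩
  rw [← Nat.card_eq_fintype_card] at h3
  obtain ⟨k, hk⟩ := h.q_even
  omega

theorem index_Z : ((zg G a).subgroupOf S).index = Nat.card (zg G a) ^ 2 := by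
  have h1 := Subgroup.card_mul_index ((zg G a).subgroupOf S)
  rw [Nat.card_congr (Subgroup.subgroupOfEquivOfLe h.zg_le_S).toEquiv, h.card_S] at h1
  have := Nat.card_pos (α := zg G a)
  exact Nat.eq_of_mul_eq_mul_left this (h1.trans (by ring))

theorem Z_central (x : S) (hx : x ∈ (zg G a).subgroupOf S) (y : S) : x * y = y * x :=
  Subtype.ext (h.ctx.zg_central (Subgroup.mem_subgroupOf.1 hx) (h.split.S_le y.2))

theorem comm_Z (x y : S) : x * y * x⁻¹ * y⁻¹ ∈ (zg G a).subgroupOf S := by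
  rw [Subgroup.mem_subgroupOf]
  have e := h.struct.2.1 (x : G)⁻¹ (inv_mem x.2) (y : G)⁻¹ (inv_mem y.2)
  simp only [inv_inv] at e
  push_cast
  exact e

theorem nilpotent_U : Group.IsNilpotent U := by
  haveI := R1.nilpotent h.ctx.hS h.ctx.h2 (Q := Q)
  exact Group.nilpotent_of_surjective ((MonoidHom.snd S U).comp h.eq2.symm.toMonoidHom) fun u =>
    ⟨h.eq2 (1, u), by simp⟩

/-- The second case does not occur. -/
theorem false : False := by
  classical
  have hc := h.ctx
  haveI := Fintype.ofFinite G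
  haveI := R1.finite_Ω hc.hS
  haveI := Fintype.ofFinite Ω
  haveI := Fintype.ofFinite Q
  haveI := Fintype.ofFinite S
  haveI := Fintype.ofFinite U
  haveI := Fintype.ofFinite (D G a t)
  haveI := h.nilpotent_U
  haveI : Nontrivial U := (Subgroup.nontrivial_iff_ne_bot _).2 h.U_ne
  obtain ⟨χ, hχ, hne⟩ := hc.exists_char h.V_ne
  obtain ⟨g, m, n, α, β, hH⟩ := exists_hecke χ hc.hS hχ
  let e := h.eq2
  let Θ : Set (IrrCharacter Q) := {θ | ∃ ρ η, η ≠ one1 ∧ θ = pc e ρ η}
  have hΘ : ∀ ρ η, η ≠ one1 → pc e ρ η ∈ Θ := fun ρ η hη => ⟨ρ, η, hη, rfl⟩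
  have hne1 : ∀ (d : D G a t) (η : IrrCharacter U), η ≠ one1 → irrComp (h.cU d) η ≠ one1 := fun d η hη he => by
    refine hη (Subtype.ext (funext fun x => ?_))
    have := congrFun (congrArg Subtype.val he) ((h.cU d).symm x)
    rwa [irrComp_apply, MulEquiv.apply_symm_apply] at this
  have hF : Coh.Fam h.ti Θ α β :=
    { closed := by
        rintro _ ⟨ρ, η, hη, rfl⟩ d
        rw [h.tw_pc]
        exact hΘ _ _ (hne1 d η hη)
      free := by
        rintro _ ⟨ρ, η, hη, rfl⟩ d hd
        rw [h.tw_pc] at hd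
        by_contra hd1
        exact hη (h.fix_irr hd1 (pc_inj _ hd).2)
      ne := hH.ne
      ne_one := by
        rintro _ ⟨ρ, η, hη, rfl⟩
        have h1 := classInner_prod e (ρ : S → ℂ) (fun _ => (1 : ℂ)) (η : U → ℂ) (fun _ => (1 : ℂ))
        simp only [one_mul] at h1
        refine h1.trans ?_
        rw [show classInner (η : U → ℂ) (fun _ => (1 : ℂ)) = 0 from (irrC_orth η one1).trans (if_neg hη), mul_zero]
      restr := ⟨1, fun x hx => ⟨by
        rw [hH.add]; exact trace_monM_Q χ hc.hS hχ x.2 fun e => hx (Subtype.ext e), rfl⟩⟩ }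
  -- the linear characters of `S`
  haveI : ((zg G a).subgroupOf S).Normal :=
    ⟨fun x hx y => by rw [← h.Z_central x hx y, mul_inv_cancel_right]; exact hx⟩
  obtain ⟨TS, hTS, hTSsum⟩ := sum_sq_kernel_contains ((zg G a).subgroupOf S)
  obtain ⟨q, hq⟩ : ∃ q, q = Nat.card (zg G a) := ⟨_, rfl⟩
  rw [h.index_Z, ← hq] at hTSsum
  have hq4 : 4 ≤ q := hq ▸ h.q_four
  have hTS1 : ∀ ρ ∈ TS, deg (ρ : S → ℂ) = 1 := fun ρ hρ => deg_le_one _ h.comm_Z ρ ((hTS ρ).1 hρ)
  have hTScard : TS.card = q ^ 2 := by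
    rw [← hTSsum, Finset.sum_congr rfl fun ρ hρ => by rw [hTS1 ρ hρ, one_pow], Finset.sum_const, smul_eq_mul,
      mul_one]
  have hρle : ∀ ρ : IrrCharacter S, deg (ρ : S → ℂ) ^ 2 ≤ q ^ 2 := fun ρ => by
    have := deg_sq_le_index (⊥ : Subgroup S) ((zg G a).subgroupOf S)
      (fun x hx y => by rw [Subgroup.mem_bot, h.Z_central x hx y]; group) le_top ρ
      (fun x hx => by rw [Subgroup.mem_bot.1 hx])
    rwa [h.index_Z, ← hq] at this
  have hneq : ∀ (η : IrrCharacter U) (ρ ρ' : IrrCharacter S), η ≠ one1 →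
      Coh.Rel h.ti (pc e ρ η) (pc e ρ' η) → pc e ρ η = pc e ρ' η := by
    rintro η ρ ρ' hη ⟨d, hd⟩
    rw [h.tw_pc] at hd
    by_cases hd1 : d = 1
    · subst hd1
      rw [← h.tw_pc, Coh.tw_one] at hd
      exact hd
    · exact absurd (h.fix_irr hd1 (pc_inj _ hd).2) hη
  -- the base of the family
  obtain ⟨η0, hη0, hη0d⟩ := exists_lin (B := U) h.odd_U
  obtain ⟨ρ0, hρ0⟩ : TS.Nonempty := Finset.card_pos.1 (by rw [hTScard]; positivity)
  obtain ⟨ε, hε, Y₁, hYa, hYb, hbase⟩ := Coh.exists_base (hT := h.ti) hF (ι := TS) (fun i => pc e i η0)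
    (fun i => hΘ _ _ hη0) (fun i => by rw [deg_pc, hTS1 i i.2, hη0d])
    (fun i j hij => Subtype.ext (pc_inj _ (hneq η0 _ _ hη0 hij)).1)
    (by rw [Fintype.card_coe, hTScard]; nlinarith) ⟨ρ0, hρ0⟩
  obtain ⟨θ₁, hθ₁⟩ : ∃ θ₁, θ₁ = pc e ρ0 η0 := ⟨_, rfl⟩
  simp only [← hθ₁] at hbase
  have hθΘ : θ₁ ∈ Θ := hθ₁ ▸ hΘ _ _ hη0
  have hθd : deg (θ₁ : Q → ℂ) = 1 := by rw [hθ₁, deg_pc, hTS1 ρ0 hρ0, hη0d]
  -- descent along the lower central series of `U`
  have hall : ∀ (i : ℕ) (η : IrrCharacter U), η ≠ one1 →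
      (∀ x ∈ (⊤ : Subgroup U).lowerCentralSeries i, (η : U → ℂ) x = (η : U → ℂ) 1) →
      ∀ ρ, Coh.Good h.ti α β ε θ₁ Y₁ (pc e ρ η) := by
    intro i
    induction i with
    | zero => exact fun η hη hk => absurd (eq_one1_of_const fun x => hk x (Subgroup.mem_top x)) hη
    | succ i ih =>
      intro η hη hk
      obtain ⟨N, hN⟩ : ∃ N, N = (⊤ : Subgroup U).lowerCentralSeries i := ⟨_, rfl⟩
      haveI : N.Normal := hN ▸ inferInstance
      have hdM : deg (η : U → ℂ) ^ 2 ≤ N.index := deg_sq_le_index _ N (fun x hx y => by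
        rw [Subgroup.lowerCentralSeries_succ, ← hN]
        exact Subgroup.commutator_mem_commutator hx (Subgroup.mem_top y)) le_top η hk
      have hd1 : 1 ≤ deg (η : U → ℂ) := deg_pos η.2
      have hlin : ∀ ρ ∈ TS, Coh.Good h.ti α β ε θ₁ Y₁ (pc e ρ η) := by
        intro ρ hρ
        have hdθ : deg (pc e ρ η : Q → ℂ) = deg (η : U → ℂ) := by rw [deg_pc, hTS1 ρ hρ, one_mul]
        by_cases hM1 : N.index = 1
        · refine Coh.good_of_sum h.ti hF hε hθΘ hθd ⟨hYa, hYb⟩ (TS.image fun ρ' => pc e ρ' η0) ?_ ?_ ?_ (hΘ _ _ hη) ?_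
          · intro ψ hψ
            obtain ⟨ρ', -, rfl⟩ := Finset.mem_image.1 hψ
            exact hΘ _ _ hη0
          · intro ψ hψ
            obtain ⟨ρ', hρ', rfl⟩ := Finset.mem_image.1 hψ
            exact hbase ⟨ρ', hρ'⟩
          · intro ψ hψ ψ' hψ' hr
            obtain ⟨ρ', -, rfl⟩ := Finset.mem_image.1 hψ
            obtain ⟨ρ'', -, rfl⟩ := Finset.mem_image.1 hψ'
            exact hneq η0 _ _ hη0 hr
          · rw [Finset.sum_image fun x _ y _ e => (pc_inj _ e).1,
              Finset.sum_congr rfl fun ρ' hρ' => by rw [deg_pc, hTS1 ρ' hρ', hη0d, one_mul, one_pow],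
              Finset.sum_const, smul_eq_mul, mul_one, hTScard, hdθ]
            rw [hM1] at hdM
            nlinarith
        · obtain ⟨TU, hTU, hTUsum⟩ := sum_sq_kernel_contains N
          have h1TU : (one1 : IrrCharacter U) ∈ TU := (hTU _).2 fun _ _ => rfl
          rw [← Finset.add_sum_erase _ _ h1TU, deg_one1, one_pow] at hTUsum
          have hTUc : ∀ η' ∈ TU.erase one1, ∀ d : D G a t, irrComp (h.cU d) η' ∈ TU.erase one1 := by
            intro η' hη' d
            obtain ⟨hη'1, hη'2⟩ := Finset.mem_erase.1 hη'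
            refine Finset.mem_erase.2 ⟨hne1 d η' hη'1, (hTU _).2 fun x hx => ?_⟩
            rw [irrComp_apply, irrComp_apply, map_one]
            refine (hTU _).1 hη'2 _ ?_
            haveI : N.Characteristic := hN ▸ inferInstance
            have hchar := Subgroup.characteristic_iff_map_eq.1 (inferInstance : N.Characteristic) (h.cU d)
            rw [← hchar]
            exact ⟨x, hx, rfl⟩
          -- the orbits on the characters trivial on `S`
          obtain ⟨R1', -, -, hR1⟩ := Coh.exists_reps (hT := h.ti)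
            ((TU.erase one1).image fun η' => pc e one1 η')
            (fun θ hθ d => by
              obtain ⟨η', hη', rfl⟩ := Finset.mem_image.1 hθ
              rw [h.tw_pc, irrComp_one1]
              exact Finset.mem_image.2 ⟨_, hTUc η' hη' d, rfl⟩)
            (fun θ hθ d hd => by
              obtain ⟨η', hη', rfl⟩ := Finset.mem_image.1 hθ
              exact hF.free _ (hΘ _ _ (Finset.mem_erase.1 hη').1) d hd)
          rw [Finset.sum_image fun x _ y _ e => (pc_inj _ e).2,
            Finset.sum_congr rfl (g := fun η' : IrrCharacter U => deg (η' : U → ℂ) ^ 2) fun η' _ => by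
              rw [deg_pc, deg_one1, one_mul]] at hR1
          obtain ⟨k, hk'⟩ : ∃ k, k = ∑ ψ ∈ R1', deg (ψ : Q → ℂ) ^ 2 := ⟨_, rfl⟩
          rw [← hk'] at hR1
          rw [← hR1] at hTUsum
          -- the orbits on the known part of the family
          obtain ⟨R, hRT, hRne, hRsum⟩ := Coh.exists_reps (hT := h.ti)
            ((Finset.univ ×ˢ TU.erase one1).image fun x : IrrCharacter S × IrrCharacter U => pc e x.1 x.2)
            (fun θ hθ d => by
              obtain ⟨⟨ρ', η'⟩, hη', rfl⟩ := Finset.mem_image.1 hθ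
              rw [h.tw_pc]
              exact Finset.mem_image.2 ⟨(_, _),
                Finset.mem_product.2 ⟨Finset.mem_univ _, hTUc η' (Finset.mem_product.1 hη').2 d⟩, rfl⟩)
            (fun θ hθ d hd => by
              obtain ⟨⟨ρ', η'⟩, hη', rfl⟩ := Finset.mem_image.1 hθ
              exact hF.free _ (hΘ _ _ (Finset.mem_erase.1 (Finset.mem_product.1 hη').2).1) d hd)
          have hRmem : ∀ ψ ∈ R, ∃ ρ' η', η' ≠ one1 ∧ η' ∈ TU ∧ ψ = pc e ρ' η' := by
            intro ψ hψ
            obtain ⟨⟨ρ', η'⟩, hη', rfl⟩ := Finset.mem_image.1 (hRT hψ)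
            exact ⟨ρ', η', (Finset.mem_erase.1 (Finset.mem_product.1 hη').2).1,
              (Finset.mem_erase.1 (Finset.mem_product.1 hη').2).2, rfl⟩
          have hsS : ∑ ρ' : IrrCharacter S, deg (ρ' : S → ℂ) ^ 2 = q ^ 3 := by
            have h2 := sum_sq_deg (G := S)
            rw [Finset.sum_congr rfl fun ρ' _ => by rw [char_one_eq_deg (irr_isCharacter ρ'.2)], h.card_S, ← hq] at h2
            exact_mod_cast h2
          rw [Finset.sum_image fun x _ y _ e => Prod.ext (pc_inj _ e).1 (pc_inj _ e).2, Finset.sum_product] at hRsum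
          simp only [deg_pc, mul_pow, ← Finset.mul_sum] at hRsum
          rw [← Finset.sum_mul, hsS, ← hR1, mul_left_comm] at hRsum
          have hX : ∑ ψ ∈ R, deg (ψ : Q → ℂ) ^ 2 = q ^ 3 * k := Nat.eq_of_mul_eq_mul_left Nat.card_pos hRsum
          have hk1 : 2 ∣ k := by
            obtain ⟨M', hM'⟩ := h.odd_index N
            have h2 : 2 ∣ Nat.card (D G a t) * k := ⟨M', by omega⟩
            exact (Nat.Coprime.dvd_of_dvd_mul_left (Nat.coprime_two_left.2 hc.hS.odd_card) h2)
          have hk0 : k ≠ 0 := fun e => hM1 (by rw [e, mul_zero] at hTUsum; omega)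
          have hD : 2 * Nat.card (D G a t) + 2 ≤ q ^ 6 := by
            have h6 := h.card_D_bound
            rw [← hq] at h6
            obtain ⟨q', hq'⟩ := hq ▸ h.q_even
            have : q ^ 6 = 2 * (q' * q ^ 5) := by rw [hq']; ring
            omega
          refine Coh.good_of_sum h.ti hF hε hθΘ hθd ⟨hYa, hYb⟩ R ?_ ?_ hRne (hΘ _ _ hη) ?_
          · intro ψ hψ
            obtain ⟨ρ', η', hη', -, rfl⟩ := hRmem ψ hψ
            exact hΘ _ _ hη'
          · intro ψ hψ
            obtain ⟨ρ', η', hη', hη'T, rfl⟩ := hRmem ψ hψ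
            exact ih η' hη' (hN ▸ (hTU η').1 hη'T) ρ'
          · rw [hX, hdθ]
            obtain ⟨k', rfl⟩ := hk1
            by_contra hlt
            push Not at hlt
            have h3 : q ^ 3 * k' ≤ deg (η : U → ℂ) := by
              have : q ^ 3 * (2 * k') = 2 * (q ^ 3 * k') := by ring
              omega
            have h4 : (q ^ 3 * k') ^ 2 ≤ 1 + Nat.card (D G a t) * (2 * k') := by
              rw [hTUsum]; exact (Nat.pow_le_pow_left h3 2).trans hdM
            have hk'1 : 1 ≤ k' := by omega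
            have h5 : (2 * Nat.card (D G a t) + 2) * k' ≤ q ^ 6 * k' := Nat.mul_le_mul_right _ hD
            have h6 : q ^ 6 * k' * 1 ≤ q ^ 6 * k' * k' := Nat.mul_le_mul_left _ hk'1
            nlinarith
      intro ρ
      refine Coh.good_of_sum h.ti hF hε hθΘ hθd ⟨hYa, hYb⟩ (TS.image fun ρ' => pc e ρ' η) ?_ ?_ ?_ (hΘ _ _ hη) ?_
      · intro ψ hψ
        obtain ⟨ρ', -, rfl⟩ := Finset.mem_image.1 hψ
        exact hΘ _ _ hη
      · intro ψ hψ
        obtain ⟨ρ', hρ', rfl⟩ := Finset.mem_image.1 hψ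
        exact hlin ρ' hρ'
      · intro ψ hψ ψ' hψ' hr
        obtain ⟨ρ', -, rfl⟩ := Finset.mem_image.1 hψ
        obtain ⟨ρ'', -, rfl⟩ := Finset.mem_image.1 hψ'
        exact hneq η _ _ hη hr
      · rw [Finset.sum_image fun x _ y _ e => (pc_inj _ e).1,
          Finset.sum_congr rfl fun ρ' hρ' => by rw [deg_pc, hTS1 ρ' hρ', one_mul],
          Finset.sum_const, smul_eq_mul, hTScard, deg_pc]
        have h1 : deg (ρ : S → ℂ) ≤ q := (Nat.pow_le_pow_iff_left two_ne_zero).1 (hρle ρ)
        have h2 : deg (ρ : S → ℂ) * deg (η : U → ℂ) ≤ q * deg (η : U → ℂ) := Nat.mul_le_mul_right _ h1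
        nlinarith [Nat.mul_le_mul hq4 hd1]
  obtain ⟨N₀, hN₀⟩ := Subgroup.nilpotent_iff_lowerCentralSeries.1 (inferInstance : Group.IsNilpotent U)
  have hgood : ∀ η : IrrCharacter U, η ≠ one1 → ∀ ρ, Coh.Good h.ti α β ε θ₁ Y₁ (pc e ρ η) := fun η hη =>
    hall N₀ η hη fun x hx => by rw [hN₀, Subgroup.mem_bot] at hx; rw [hx]
  -- the second character is constant on the nontrivial elements of `U`
  let F : U → ℂ := fun x => (β : G → ℂ) (x : G)
  obtain ⟨c, hcdef⟩ : ∃ c, c = classInner (θ₁ : Q → ℂ) (fun x : Q => (β : G → ℂ) x) := ⟨_, rfl⟩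
  have hinner : ∀ η : IrrCharacter U, η ≠ one1 →
      classInner (η : U → ℂ) F = (deg (η : U → ℂ) : ℂ) * ((Nat.card S : ℂ) * c) := by
    intro η hη
    have h1 := sum_deg_inner e η (fun x : Q => (β : G → ℂ) x)
    rw [show (fun b : U => (β : G → ℂ) ((e (1, b) : Q) : G)) = F from
      funext fun b => by rw [h.eq2_coe]; simp [F]] at h1
    rw [← h1, Finset.sum_congr rfl fun ρ _ => by
      rw [Coh.inner_beta h.ti hF hYb (hgood η hη ρ), deg_pc, ← hcdef]]
    have h2 := sum_sq_deg (G := S)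
    rw [Finset.sum_congr rfl fun ρ' _ => by rw [char_one_eq_deg (irr_isCharacter ρ'.2)]] at h2
    rw [← h2, Finset.sum_mul, Finset.mul_sum]
    exact Finset.sum_congr rfl fun ρ _ => by push_cast; ring
  have hFcl : IsClassFunction U F := fun x y => by
    simp only [F, Subgroup.coe_mul, Subgroup.coe_inv]
    exact isClassFunction_character (irr_isCharacter β.2) _ _
  obtain ⟨z, hz⟩ : ∃ z, z = conj ((Nat.card S : ℂ) * c) := ⟨_, rfl⟩
  have hFval : ∀ x : U, x ≠ 1 → F x = classInner F ((one1 : IrrCharacter U) : U → ℂ) - z := by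
    intro x hx
    have h0 := second_orth x (1 : U)
    rw [if_neg fun hh => hx (isConj_one_left.1 hh), ← Finset.add_sum_erase _ _ (Finset.mem_univ one1)] at h0
    simp only [fun η : IrrCharacter U => char_one_eq_deg (irr_isCharacter η.2), Complex.conj_natCast, deg_one1,
      Nat.cast_one, map_one, mul_one] at h0
    rw [show ((one1 : IrrCharacter U) : U → ℂ) x = 1 from rfl] at h0
    have h1 := congrFun (classFun_expansion hFcl) x
    rw [Finset.sum_apply, ← Finset.add_sum_erase _ _ (Finset.mem_univ one1)] at h1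
    rw [Finset.sum_congr rfl (g := fun η : IrrCharacter U => z * ((η : U → ℂ) x * (deg (η : U → ℂ) : ℂ)))
      fun η hη => by
      rw [Pi.smul_apply, smul_eq_mul, ← classInner_symm, hinner η (Finset.mem_erase.1 hη).1, map_mul,
        Complex.conj_natCast, hz]
      ring, ← Finset.mul_sum, Pi.smul_apply, smul_eq_mul] at h1
    rw [h1, show ((one1 : IrrCharacter U) : U → ℂ) x = 1 from rfl]
    linear_combination z * h0
  -- the contradiction
  obtain ⟨p, hp, hp2, hpU⟩ := h.exists_p
  haveI := Fact.mk hp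
  have hpQ : p ∣ Nat.card Q := hpU.trans h.U_dvd
  obtain ⟨P, U', hPU⟩ := exists_psplit (R1.nilpotent hc.hS hc.h2) hp (Q := Q)
  obtain ⟨x₀, hx₀, hx₀p, hx₀c⟩ := hPU.exists_central hp hpQ
  have hPle : ∀ x ∈ P, x ∈ U := fun x hx => by
    refine h.split.mem_U x (hPU.S_le hx) fun h2 => ?_
    obtain ⟨j, hj⟩ := IsPGroup.iff_orderOf.1 hPU.S_pgroup ⟨x, hx⟩
    rw [Subgroup.orderOf_mk] at hj
    exact hp2 ((Nat.prime_dvd_prime_iff_eq Nat.prime_two hp).1 (Nat.prime_two.dvd_of_dvd_pow (hj ▸ h2))).symm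
  have hx₀1 : x₀ ≠ 1 := fun e => hp.ne_one (by rw [← hx₀p, e, orderOf_one])
  have hgn := (gm_ne hH hχ hne).2
  refine not_dvd_of_const hH hχ hp hPU.S_le (hPU.card_S hp) (fun x hx hx1 => ?_)
    (prime_dvd_g hH hχ hgn hp (hPU.S_le hx₀) hx₀p hx₀c (h.not_dvd_D hp hp2 hpQ))
  rw [← (val_central hH hχ (hPU.S_le hx₀) hx₀1 hx₀c).2]
  congr 1
  have e1 := hFval ⟨x, hPle x hx⟩ fun e => hx1 (congrArg Subtype.val e)
  have e2 := hFval ⟨x₀, hPle x₀ hx₀⟩ fun e => hx₀1 (congrArg Subtype.val e)
  exact e1.trans e2.symm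

end BCtx

end Cfsg.Agent.Lie.R1C
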