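import Cfsg.Agent.Lib.Lie.SplitRankOne.CaseB

/-!
The second case: a bound for the order of the two-point stabiliser.
-/

set_option autoImplicit false
set_option linter.unusedSectionVars false
set_option linter.unusedSimpArgs false
set_option linter.style.haveILetI false

namespace Cfsg.Agent.Lie.R1C

open Cfsg MulAction
open Cfsg.Agent.Lie.R1 (D tt t_inv tDt)

universe u v

section Gen

variable {G : Type u} [Group G] [Finite G]

/-- A subgroup whose cosets are separated by a function into a finite type. -/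
theorem card_le_of_orbit {H K : Subgroup G} {α : Type*} [Finite α] (φ : H → α)
    (hφ : ∀ w w', φ w = φ w' → ((w' : G)⁻¹ * w : G) ∈ K) : Nat.card H ≤ Nat.card α * Nat.card K := by
  classical
  rw [← Nat.card_prod]
  refine Nat.card_le_card_of_injective
    (fun w => (φ w, (⟨((Function.invFun φ (φ w) : H) : G)⁻¹ * w,
      hφ _ _ (Function.invFun_eq ⟨w, rfl⟩).symm⟩ : K))) fun w w' e => ?_
  simp only [Prod.mk.injEq, Subtype.mk.injEq] at e
  rw [e.1] at e
  exact Subtype.ext (mul_left_cancel e.2)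

/-- Central elements of the derived group vanish when all Sylow subgroups are cyclic. -/
theorem eq_one_of_central_commutator {V : Type*} [Group V] [Finite V]
    (hcyc : ∀ (r : ℕ) [Fact r.Prime] (P : Sylow r V), IsCyclic (P : Subgroup V)) {z : V}
    (hzc : ∀ g, g * z = z * g) (hz : z ∈ commutator V) : z = 1 := by
  by_contra hz1
  obtain ⟨r, hr, hrz⟩ := Nat.exists_prime_and_dvd (show orderOf z ≠ 1 by rw [Ne, orderOf_eq_one_iff]; exact hz1)
  obtain ⟨m, hm⟩ := hrz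
  haveI := Fact.mk hr
  have hy : orderOf (z ^ m) = r := by
    rw [orderOf_pow, hm, Nat.gcd_mul_left_left, Nat.mul_div_cancel]
    exact Nat.pos_of_ne_zero fun e => (orderOf_pos z).ne' (by rw [hm, e, mul_zero])
  have hyc : ∀ g, g * z ^ m = z ^ m * g := fun g => ((show Commute g z from hzc g).pow_right m).eq
  obtain ⟨P, hP⟩ := (IsPGroup.of_card (n := 1) (by rw [Nat.card_zpowers, hy, pow_one]) :
    IsPGroup r (Subgroup.zpowers (z ^ m))).exists_le_sylow
  haveI := hcyc r P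
  letI : CommGroup (P : Subgroup V) := IsCyclic.commGroup
  have hker : commutator V ≤ (MonoidHom.transfer (MonoidHom.id (P : Subgroup V))).ker :=
    Abelianization.commutator_subset_ker _
  have h1 : MonoidHom.transfer (MonoidHom.id (P : Subgroup V)) (z ^ m) = 1 := hker (pow_mem hz m)
  rw [MonoidHom.transfer_eq_pow _ _ (fun k g₀ _ => by
    rw [mul_assoc, ← ((show Commute g₀ (z ^ m) from hyc g₀).pow_right k).eq, inv_mul_cancel_left])] at h1
  have h2 : orderOf (z ^ m) ∣ (P : Subgroup V).index := orderOf_dvd_of_pow_eq_one (congrArg Subtype.val h1)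
  rw [hy] at h2
  exact P.not_dvd_index h2

end Gen

variable {G : Type u} {Ω : Type v} [Group G] [MulAction G Ω] [Finite G] {a : Ω} {t : G} {Q S U : Subgroup G}

namespace BCtx

variable [IsSimpleGroup G] (h : BCtx G a t Q S U)

include h

/-- The orders of the torus-invariant subgroups of `S` over `Z`. -/
theorem card_inv {T : Subgroup G} (hZT : zg G a ≤ T) (hTS : T ≤ S)
    (hK : ∀ k ∈ kg G a t, ∀ x ∈ T, k * x * k⁻¹ ∈ T) {x : G} (hx : x ∈ T) (hxZ : x ∉ zg G a) :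
    Nat.card T = Nat.card (zg G a) ^ 2 ∨ T = S := by
  classical
  have hc := h.ctx
  obtain ⟨f, hf, hq⟩ := hc.exists_f
  let X := {y : T // y ≠ 1}
  letI : MulAction (kg G a t) X :=
    { smul := fun k y => ⟨⟨(k : G) * y.1 * (k : G)⁻¹, hK k k.2 _ y.1.2⟩, fun e => y.2 (Subtype.ext
        (conj_eq_one_iff.1 (congrArg Subtype.val e)))⟩
      one_smul := fun y => Subtype.ext (Subtype.ext (by
        show ((1 : kg G a t) : G) * y.1 * ((1 : kg G a t) : G)⁻¹ = y.1
        simp))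
      mul_smul := fun k k' y => Subtype.ext (Subtype.ext (by
        show ((k * k' : kg G a t) : G) * y.1 * ((k * k' : kg G a t) : G)⁻¹ =
          (k : G) * ((k' : G) * y.1 * (k' : G)⁻¹) * (k : G)⁻¹
        simp [mul_assoc])) }
  have hfree : ∀ y : X, MulAction.stabilizer (kg G a t) y = ⊥ := fun y => by
    rw [Subgroup.eq_bot_iff_forall]
    intro k hk
    by_contra hk1
    have e : (k : G) * y.1 * (k : G)⁻¹ = y.1 := congrArg (fun z : X => ((z.1 : T) : G)) hk
    exact y.2 (Subtype.ext (hc.kg_fpf k.2 (fun e => hk1 (Subtype.ext e)) (h.split.S_le (hTS y.1.2))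
      (mul_inv_eq_iff_eq_mul.1 e)))
  have hdvd : Nat.card (kg G a t) ∣ Nat.card X := by
    rw [Nat.card_congr (MulAction.selfEquivOrbitsQuotientProd hfree), Nat.card_prod]
    exact dvd_mul_left _ _
  have hX : Nat.card X + 1 = Nat.card T := by
    rw [← Finite.card_option]
    exact Nat.card_congr (Equiv.optionSubtypeNe (1 : T))
  haveI := Fact.mk Nat.prime_two
  obtain ⟨b, hb⟩ := (h.split.S_pgroup.to_le hTS).exists_card_eq
  have hK' : Nat.card (kg G a t) = 2 ^ f - 1 := by have := hc.card_kg; omega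
  have hfb : f ∣ b := by
    rw [hK', show Nat.card X = 2 ^ b - 1 by omega] at hdvd
    have h1 := Nat.pow_sub_one_gcd_pow_sub_one 2 f b
    rw [Nat.gcd_eq_left hdvd] at h1
    have h3 := Nat.one_le_two_pow (n := Nat.gcd f b)
    have h4 := Nat.one_le_two_pow (n := f)
    have h5 : 2 ^ f = 2 ^ Nat.gcd f b := by omega
    exact (Nat.pow_right_injective le_rfl h5).symm ▸ Nat.gcd_dvd_right f b
  obtain ⟨j, rfl⟩ := hfb
  have hbig : 2 ^ f < 2 ^ (f * j) := by
    rw [← hq, ← hb]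
    refine lt_of_le_of_ne (Nat.le_of_dvd Nat.card_pos (Subgroup.card_dvd_of_le hZT)) fun e => ?_
    exact hxZ (Subgroup.eq_of_le_of_card_ge hZT e.ge ▸ hx)
  have hle : 2 ^ (f * j) ≤ 2 ^ (f * 3) := by
    rw [← hb, pow_mul, ← hq, ← h.card_S]
    exact Nat.le_of_dvd Nat.card_pos (Subgroup.card_dvd_of_le hTS)
  rw [Nat.pow_lt_pow_iff_right (by norm_num)] at hbig
  rw [Nat.pow_le_pow_iff_right (by norm_num)] at hle
  have hj : j = 2 ∨ j = 3 := by
    have h1 : 1 < j := by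
      by_contra hj
      have : f * j ≤ f * 1 := Nat.mul_le_mul_left _ (by omega)
      omega
    have h2 : j ≤ 3 := Nat.le_of_mul_le_mul_left hle (by omega)
    omega
  rcases hj with rfl | rfl
  · left; rw [hb, hq, pow_mul]
  · right; exact Subgroup.eq_of_le_of_card_ge hTS (by rw [hb, h.card_S, hq, pow_mul])

/-- The index of the centraliser of `S` in `W` is small. -/
theorem card_wg_le : Nat.card (wg G a t) ≤ (Nat.card (zg G a) ^ 2 - 1) * (Nat.card (zg G a) - 1) *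
    Nat.card ↥(wg G a t ⊓ Subgroup.centralizer (S : Set G)) := by
  classical
  have hc := h.ctx
  obtain ⟨f, hf, hq⟩ := hc.exists_f
  set q := Nat.card (zg G a) with hqdef
  have hq1 : 1 < q := hq ▸ Nat.one_lt_two_pow (by omega)
  have hwa : ∀ w ∈ wg G a t, w • a = a := fun w hw => hc.vg_fix (hc.wg_le_vg hw)
  -- the cosets of a torus-invariant subgroup
  have hcosets : ∀ T : Subgroup G, T ≤ S → ∀ c : ℕ, Nat.card T * c = Nat.card S →
      Nat.card {b : S ⧸ T.subgroupOf S // b ≠ ((1 : S) : S ⧸ T.subgroupOf S)} = c - 1 := by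
    intro T hT c hcard
    haveI := Fintype.ofFinite (S ⧸ T.subgroupOf S)
    rw [Nat.card_eq_fintype_card, Fintype.card_subtype_compl, Fintype.card_subtype_eq,
      ← Nat.card_eq_fintype_card, ← Subgroup.index_eq_card]
    congr 1
    have h1 := Subgroup.card_mul_index (T.subgroupOf S)
    rw [Nat.card_congr (Subgroup.subgroupOfEquivOfLe hT).toEquiv, ← hcard] at h1
    exact Nat.eq_of_mul_eq_mul_left Nat.card_pos h1
  obtain ⟨x, hx, hxZ⟩ : ∃ x ∈ S, x ∉ zg G a := by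
    by_contra hh
    push Not at hh
    obtain ⟨x, hx, y, hy, hxy⟩ := h.not_comm
    exact hxy (hc.zg_central (hh x hx) (h.split.S_le hy))
  set Wx : Subgroup G := wg G a t ⊓ Subgroup.centralizer {x} with hWx
  have hT1 : ∀ X : Subgroup G, X ≤ wg G a t →
      zg G a ≤ S ⊓ Subgroup.centralizer (X : Set G) ∧
        ∀ k ∈ kg G a t, ∀ y ∈ S ⊓ Subgroup.centralizer (X : Set G),
          k * y * k⁻¹ ∈ S ⊓ Subgroup.centralizer (X : Set G) := fun X hX =>
    ⟨fun z hz => ⟨h.zg_le_S hz, Subgroup.mem_centralizer_iff.2 fun w hw => hc.wg_comm_zg (hX hw) hz⟩,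
      fun k hk y hy => ⟨h.conj_S (hc.kg_fix hk) hy.1, Subgroup.mem_centralizer_iff.2 fun w hw => by
        have e1 := hc.wg_comm_kg (hX hw) hk
        have e2 := hc.wg_comm_kg (hX hw) (inv_mem hk)
        have e3 := Subgroup.mem_centralizer_iff.1 hy.2 w hw
        calc w * (k * y * k⁻¹) = (w * k) * y * k⁻¹ := by group
          _ = k * (w * y) * k⁻¹ := by rw [e1]; group
          _ = k * y * (w * k⁻¹) := by rw [e3]; group
          _ = _ := by rw [e2]; group⟩⟩
  have step1 : Nat.card (wg G a t) ≤ (q ^ 2 - 1) * Nat.card Wx := by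
    let φ : wg G a t → {b : S ⧸ (zg G a).subgroupOf S // b ≠ ((1 : S) : S ⧸ (zg G a).subgroupOf S)} := fun w =>
      ⟨((⟨(w : G) * x * (w : G)⁻¹, h.conj_S (hwa w w.2) hx⟩ : S) : S ⧸ (zg G a).subgroupOf S), fun e => hxZ (by
        have e' := QuotientGroup.eq.1 e
        simp only [Subgroup.mem_subgroupOf, Subgroup.coe_mul, Subgroup.coe_inv, Subgroup.coe_one, mul_one,
          inv_mem_iff] at e'
        have := hc.conj_zg (hwa _ (inv_mem w.2)) e'
        rwa [inv_inv, show (w : G)⁻¹ * ((w : G) * x * (w : G)⁻¹) * w = x by group] at this)⟩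
    have h1 := card_le_of_orbit (K := Wx) φ fun w w' e => by
      have e' := QuotientGroup.eq.1 (congrArg Subtype.val e)
      simp only [Subgroup.mem_subgroupOf, Subgroup.coe_mul, Subgroup.coe_inv] at e'
      obtain ⟨z, hz, hze⟩ : ∃ z ∈ zg G a, (w' : G) * x * (w' : G)⁻¹ = (w : G) * x * (w : G)⁻¹ * z :=
        ⟨_, e', by group⟩
      have hd : (w : G)⁻¹ * w' ∈ wg G a t := mul_mem (inv_mem w.2) w'.2
      have hcomm : (w : G)⁻¹ * z * w = z := by
        rw [mul_assoc, ← hc.wg_comm_zg w.2 hz, inv_mul_cancel_left]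
      have h0 : (w : G)⁻¹ * w' * x * ((w : G)⁻¹ * w')⁻¹ = x * z := by
        calc (w : G)⁻¹ * w' * x * ((w : G)⁻¹ * w')⁻¹ = (w : G)⁻¹ * ((w' : G) * x * (w' : G)⁻¹) * w := by group
          _ = x * ((w : G)⁻¹ * z * w) := by rw [hze]; group
          _ = _ := by rw [hcomm]
      rw [h.w_fix_coset hd hz h0, mul_one] at h0
      have h2 : (w : G)⁻¹ * w' ∈ Wx :=
        Subgroup.mem_inf.2 ⟨hd, Subgroup.mem_centralizer_singleton_iff.2 (mul_inv_eq_iff_eq_mul.1 h0)⟩
      simpa using inv_mem h2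
    rwa [hcosets (zg G a) h.zg_le_S (q ^ 2) (by rw [h.card_S, ← hqdef]; ring)] at h1
  set W0 := wg G a t ⊓ Subgroup.centralizer (S : Set G) with hW0
  obtain ⟨hZ1, hK1⟩ := hT1 Wx inf_le_left
  set S1 := S ⊓ Subgroup.centralizer (Wx : Set G) with hS1
  have hxS1 : x ∈ S1 := ⟨hx, Subgroup.mem_centralizer_iff.2 fun w hw =>
    Subgroup.mem_centralizer_singleton_iff.1 (Subgroup.mem_inf.1 hw).2⟩
  refine le_trans step1 ?_
  rw [mul_assoc]
  refine Nat.mul_le_mul_left _ ?_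
  rcases h.card_inv hZ1 inf_le_left hK1 hxS1 hxZ with hcard | htop
  swap
  · refine le_trans (Nat.le_of_dvd Nat.card_pos (Subgroup.card_dvd_of_le (le_inf inf_le_left fun w hw => ?_)))
      (Nat.le_mul_of_pos_left _ (by omega))
    exact Subgroup.mem_centralizer_iff.2 fun y hy =>
      (Subgroup.mem_centralizer_iff.1 (show y ∈ S1 from htop.symm ▸ hy).2 w hw).symm
  rw [← hqdef] at hcard
  obtain ⟨y, hy, hyS1⟩ : ∃ y ∈ S, y ∉ S1 := by
    by_contra hh
    push Not at hh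
    have h1 : S1 = S := le_antisymm inf_le_left hh
    rw [show S1 = S from h1, h.card_S, ← hqdef] at hcard
    have := Nat.pow_lt_pow_right hq1 (show 2 < 3 by norm_num)
    omega
  let φ : Wx → {b : S ⧸ S1.subgroupOf S // b ≠ ((1 : S) : S ⧸ S1.subgroupOf S)} := fun w =>
    ⟨((⟨(w : G) * y * (w : G)⁻¹, h.conj_S (hwa _ (Subgroup.mem_inf.1 w.2).1) hy⟩ : S) : S ⧸ S1.subgroupOf S),
      fun e => hyS1 (by
        have e' := QuotientGroup.eq.1 e
        simp only [Subgroup.mem_subgroupOf, Subgroup.coe_mul, Subgroup.coe_inv, Subgroup.coe_one, mul_one,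
          inv_mem_iff] at e'
        have h3 := Subgroup.mem_centralizer_iff.1 e'.2 w w.2
        have h4 : (w : G) * y * (w : G)⁻¹ = y := by
          calc (w : G) * y * (w : G)⁻¹ = (w : G)⁻¹ * ((w : G) * ((w : G) * y * (w : G)⁻¹)) := by group
            _ = (w : G)⁻¹ * ((w : G) * y * (w : G)⁻¹ * w) := by rw [h3]
            _ = y := by group
        rwa [h4] at e')⟩
  set K2 : Subgroup G := Wx ⊓ Subgroup.centralizer {y} with hK2
  have h2 := card_le_of_orbit (K := K2) φ fun w w' e => by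
    have e' := QuotientGroup.eq.1 (congrArg Subtype.val e)
    simp only [Subgroup.mem_subgroupOf, Subgroup.coe_mul, Subgroup.coe_inv] at e'
    obtain ⟨z, hz, hze⟩ : ∃ z ∈ S1, (w' : G) * y * (w' : G)⁻¹ = (w : G) * y * (w : G)⁻¹ * z := ⟨_, e', by group⟩
    have hd : (w : G)⁻¹ * w' ∈ Wx := mul_mem (inv_mem w.2) w'.2
    have hcomm : (w : G)⁻¹ * z * w = z := by
      rw [mul_assoc, ← Subgroup.mem_centralizer_iff.1 hz.2 w w.2, inv_mul_cancel_left]
    have h0 : (w : G)⁻¹ * w' * y * ((w : G)⁻¹ * w')⁻¹ = y * z := by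
      calc (w : G)⁻¹ * w' * y * ((w : G)⁻¹ * w')⁻¹ = (w : G)⁻¹ * ((w' : G) * y * (w' : G)⁻¹) * w := by group
        _ = y * ((w : G)⁻¹ * z * w) := by rw [hze]; group
        _ = _ := by rw [hcomm]
    obtain ⟨j, hj⟩ := h.split.S_pgroup ⟨z, hz.1⟩
    have hz1 : z = 1 := eq_one_of_shift
      (hc.hS.odd_card.of_dvd_nat (Subgroup.orderOf_dvd_natCard _
        (hc.vg_le (hc.wg_le_vg (Subgroup.mem_inf.1 hd).1))))
      (Subgroup.mem_centralizer_iff.1 hz.2 _ hd) h0 (k := j) (congrArg Subtype.val hj)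
    rw [hz1, mul_one] at h0
    have h2 : (w : G)⁻¹ * w' ∈ K2 :=
      Subgroup.mem_inf.2 ⟨hd, Subgroup.mem_centralizer_singleton_iff.2 (mul_inv_eq_iff_eq_mul.1 h0)⟩
    simpa using inv_mem h2
  rw [hcosets S1 inf_le_left q (by rw [hcard, h.card_S, ← hqdef]; ring)] at h2
  refine le_trans h2 (Nat.mul_le_mul_left _ (Nat.le_of_dvd Nat.card_pos (Subgroup.card_dvd_of_le ?_)))
  obtain ⟨hZ2, hK2'⟩ := hT1 K2 (inf_le_left.trans inf_le_left)
  have hle : S1 ≤ S ⊓ Subgroup.centralizer (K2 : Set G) :=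
    inf_le_inf_left _ (Subgroup.centralizer_le inf_le_left)
  rcases h.card_inv hZ2 inf_le_left hK2' (hle hxS1) hxZ with hcard2 | htop
  · exfalso
    refine hyS1 ?_
    rw [Subgroup.eq_of_le_of_card_ge hle (by rw [hcard2, hcard])]
    exact ⟨hy, Subgroup.mem_centralizer_iff.2 fun w hw =>
      Subgroup.mem_centralizer_singleton_iff.1 (Subgroup.mem_inf.1 hw).2⟩
  · refine le_inf (inf_le_left.trans inf_le_left) fun w hw => Subgroup.mem_centralizer_iff.2 fun s hs => ?_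
    exact (Subgroup.mem_centralizer_iff.1
      (show s ∈ S ⊓ Subgroup.centralizer (K2 : Set G) from htop.symm ▸ hs).2 w hw).symm

/-- `V` modulo `W` embeds in the automorphisms of the field. -/
theorem card_vg_le {f : ℕ} (hfq : Nat.card (zg G a) = 2 ^ f) :
    Nat.card (vg G a t) ≤ f * Nat.card (wg G a t) := by
  classical
  have hc := h.ctx
  obtain ⟨L, i1, i2, f', zp, kp, hf, hLf, hZ, hC⟩ := hc.exists_coord
  obtain rfl : f' = f := Nat.pow_right_injective le_rfl (hZ.symm.trans hfq)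
  haveI := hC.charTwo
  letI : Algebra (ZMod 2) L := ZMod.algebra L 2
  haveI : FiniteDimensional (ZMod 2) L := Module.Finite.of_finite
  choose σ hσ using fun v : vg G a t => hC.semilinear hc v.2
  let φ : vg G a t → (L ≃ₐ[ZMod 2] L) := fun v => AlgEquiv.ofRingEquiv (f := σ v) fun c =>
    RingHom.congr_fun (RingHom.ext_zmod ((σ v).toRingHom.comp (algebraMap (ZMod 2) L)) (algebraMap (ZMod 2) L)) c
  haveI : Finite (L ≃ₐ[ZMod 2] L) := Finite.of_injective (fun e => (e : L → L)) DFunLike.coe_injective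
  have h1 := card_le_of_orbit (K := wg G a t) φ fun w w' e => by
    refine Subgroup.mem_inf.2 ⟨hc.vg_le (mul_mem (inv_mem w'.2) w.2), Subgroup.mem_centralizer_iff.2 fun z hz => ?_⟩
    obtain ⟨x, rfl⟩ := (hC.mem_zp z).1 (hc.mem_zg.2 (Or.inr hz))
    have hx : (w : G) * zp x * (w : G)⁻¹ = (w' : G) * zp x * (w' : G)⁻¹ := by
      rw [(hσ w).1, (hσ w').1]
      exact congrArg zp (DFunLike.congr_fun e x)
    calc zp x * ((w' : G)⁻¹ * w) = (w' : G)⁻¹ * ((w' : G) * zp x * (w' : G)⁻¹) * w := by group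
      _ = (w' : G)⁻¹ * ((w : G) * zp x * (w : G)⁻¹) * w := by rw [hx]
      _ = (w' : G)⁻¹ * w * zp x := by group
  rw [IsGalois.card_aut_eq_finrank] at h1
  have hfin := Module.card_eq_pow_finrank (K := ZMod 2) (V := L)
  rw [hLf, ZMod.card] at hfin
  rwa [← Nat.pow_right_injective le_rfl hfin] at h1

/-- The centraliser of `S` in `W` has at most three elements. -/
theorem card_W0_le : Nat.card ↥(wg G a t ⊓ Subgroup.centralizer (S : Set G)) ≤ 3 := by
  classical
  have hc := h.ctx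
  obtain ⟨W0, hW0⟩ : ∃ W0, W0 = wg G a t ⊓ Subgroup.centralizer (S : Set G) := ⟨_, rfl⟩
  rw [← hW0]
  by_cases hbot : W0 = ⊥
  · rw [hbot, Subgroup.card_bot]; norm_num
  obtain ⟨w₁, hw₁, hw₁1⟩ : ∃ w ∈ W0, w ≠ 1 := by
    by_contra hh
    push Not at hh
    exact hbot ((Subgroup.eq_bot_iff_forall _).2 hh)
  have hW0w : ∀ w ∈ W0, w ∈ wg G a t := fun w hw => (hW0 ▸ hw : w ∈ wg G a t ⊓ _).1
  have hW0S : ∀ w ∈ W0, ∀ x ∈ S, w * x = x * w := fun w hw x hx =>
    (Subgroup.mem_centralizer_iff.1 (hW0 ▸ hw : w ∈ wg G a t ⊓ Subgroup.centralizer (S : Set G)).2 x hx).symm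
  -- the `V`-parts of the coordinates
  have hvpart : ∀ x ∈ S, x ≠ 1 → ∀ v ∈ vg G a t, ∀ k ∈ kg G a t, R1C.hc hc.hS x = v * k →
      ∀ w ∈ W0, v * w = w * v := by
    intro x hx hx1 v hv k hk e w hw
    have hwW := hW0w w hw
    have h1 := (coords_conj hc.hS (h.split.S_le hx) hx1 (hc.vg_le (hc.wg_le_vg hwW))).2.1
    rw [hW0S w hw x hx, mul_inv_cancel_right, (hc.mem_vg.1 (hc.wg_le_vg hwW)).2, e,
      eq_mul_inv_iff_mul_eq] at h1
    refine mul_right_cancel (b := k) ?_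
    rw [mul_assoc, hc.wg_comm_kg hwW hk, ← mul_assoc, h1, mul_assoc]
  have hcentral : ∀ v ∈ vg G a t, ∀ w ∈ W0, v * w = w * v := by
    let N : Subgroup (vg G a t) := (Subgroup.centralizer (W0 : Set G)).subgroupOf (vg G a t)
    haveI : N.Normal := ⟨fun n hn g => by
      refine Subgroup.mem_subgroupOf.2 (Subgroup.mem_centralizer_iff.2 fun w hw => ?_)
      have hga := hc.vg_fix g.2
      have hw' : (g : G)⁻¹ * w * g ∈ W0 := by
        rw [hW0]
        refine Subgroup.mem_inf.2 ⟨?_, Subgroup.mem_centralizer_iff.2 fun s hs => ?_⟩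
        · refine Subgroup.mem_inf.2 ⟨mul_mem (mul_mem (inv_mem (hc.vg_le g.2)) (hc.vg_le (hc.wg_le_vg (hW0w w hw))))
            (hc.vg_le g.2), Subgroup.mem_centralizer_iff.2 fun s hs => ?_⟩
          have hz : (g : G) * s * (g : G)⁻¹ ∈ zg G a := hc.conj_zg hga (hc.mem_zg.2 (Or.inr hs))
          have h3 := hc.wg_comm_zg (hW0w w hw) hz
          calc s * ((g : G)⁻¹ * w * g) = (g : G)⁻¹ * (((g : G) * s * (g : G)⁻¹) * w) * g := by group
            _ = _ := by rw [← h3]; group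
        · have h3 := hW0S w hw _ (h.conj_S hga hs)
          calc s * ((g : G)⁻¹ * w * g) = (g : G)⁻¹ * (((g : G) * s * (g : G)⁻¹) * w) * g := by group
            _ = _ := by rw [← h3]; group
      have h4 := Subgroup.mem_centralizer_iff.1 (Subgroup.mem_subgroupOf.1 hn) _ hw'
      simp only [Subgroup.coe_mul, Subgroup.coe_inv]
      calc w * ((g : G) * n * (g : G)⁻¹) = g * (((g : G)⁻¹ * w * g) * n) * (g : G)⁻¹ := by group
        _ = g * ((n : G) * ((g : G)⁻¹ * w * g)) * (g : G)⁻¹ := by rw [h4]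
        _ = _ := by group⟩
    by_contra hh
    push Not at hh
    obtain ⟨v₀, hv₀, w₀, hw₀, hne⟩ := hh
    haveI : Nontrivial (vg G a t ⧸ N) := by
      rw [QuotientGroup.nontrivial_iff]
      intro htop
      exact hne (Subgroup.mem_centralizer_iff.1
        (Subgroup.mem_subgroupOf.1 (htop ▸ Subgroup.mem_top (⟨v₀, hv₀⟩ : vg G a t) : _ ∈ N)) w₀ hw₀).symm
    obtain ⟨ψ, hψ⟩ := exists_linear (H := vg G a t ⧸ N)
      (hc.odd_vg.of_dvd_nat (Subgroup.card_quotient_dvd_card N)) inferInstance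
    obtain ⟨χ, hχ, hval⟩ := hc.exists_torus_char (ψ.comp (QuotientGroup.mk' N))
    refine h.const_contra hχ (fun e => hψ (MonoidHom.ext fun q => ?_)) fun x hx hx1 => ?_
    · obtain ⟨v, rfl⟩ := QuotientGroup.mk_surjective q
      have := hval ⟨v, hc.vg_fix v.2⟩ v.2
      rw [e] at this
      exact this.symm
    · obtain ⟨v, hv, k, hk, e⟩ := hc.decomp (hc_mem hc.hS (h.split.S_le hx) hx1)
      rw [e, lam_mul_left χ (hc.vg_fix hv), lam_K χ hc.hS hχ (k := k) (by rw [← hc.kg_eq]; exact hk), mul_one,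
        lam_of_mem χ (hc.vg_fix hv), hval _ hv]
      have hvN : (⟨v, hv⟩ : vg G a t) ∈ N := Subgroup.mem_subgroupOf.2
        (Subgroup.mem_centralizer_iff.2 fun w hw => (hvpart x hx hx1 v hv k hk e w hw).symm)
      rw [MonoidHom.comp_apply, QuotientGroup.mk'_apply, (QuotientGroup.eq_one_iff _).2 hvN, map_one, Units.val_one]
  -- the centraliser of `W0`
  have hX : (W0 : Set G) ⊆ (vg G a t : Set G) := fun w hw => hc.wg_le_vg (hW0w w hw)
  obtain ⟨z, z', hz, hz', hzz⟩ := R1.two_inv hc.hS hc.h2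
  have hcH := Sub.ctx hc.hS hX hc (hc.mem_zg.2 (Or.inr hz)) hz.2.1 (hc.mem_zg.2 (Or.inr hz')) hz'.2.1 hzz
    (fun w hw => hc.wg_comm_zg (hW0w w hw) (hc.mem_zg.2 (Or.inr hz)))
    (fun w hw => hc.wg_comm_zg (hW0w w hw) (hc.mem_zg.2 (Or.inr hz')))
  set H := Subgroup.centralizer (W0 : Set G) with hH
  set b := Sub.pt hc.hS hX with hb
  set τ := Sub.tinv hc.hS hX with hτ
  set QH := Q.subgroupOf H with hQH
  have hzH : ∀ z ∈ zg G a, z ∈ H := fun z hz =>
    Subgroup.mem_centralizer_iff.2 fun w hw => hc.wg_comm_zg (hW0w w hw) hz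
  have hkH : ∀ k ∈ kg G a t, k ∈ H := fun k hk =>
    Subgroup.mem_centralizer_iff.2 fun w hw => hc.wg_comm_kg (hW0w w hw) hk
  have hvH : ∀ v ∈ vg G a t, v ∈ H := fun v hv =>
    Subgroup.mem_centralizer_iff.2 fun w hw => (hcentral v hv w hw).symm
  have hSH : ∀ x ∈ S, x ∈ H := fun x hx => Subgroup.mem_centralizer_iff.2 fun w hw => hW0S w hw x hx
  have hQS : ∀ x : H, x ∈ QH ↔ (x : G) ∈ S := fun x =>
    ⟨fun hx => h.w_two (hW0w w₁ hw₁) hw₁1 hx (Subgroup.mem_centralizer_iff.1 x.2 w₁ hw₁),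
      fun hx => h.split.S_le hx⟩
  have hzgH : ∀ x : H, x ∈ zg H b ↔ (x : G) ∈ zg G a := fun x => by
    refine ⟨fun hx => ?_, fun hx => hcH.mem_zg_of_sq ((Sub.mem_stab hc.hS hX).2
      (R1.fix_a hc.hS (hc.zg_le_Q hx))) (Subtype.ext (hc.zg_sq hx))⟩
    rcases hcH.mem_zg.1 hx with rfl | ⟨h1, h2, h3⟩
    · exact one_mem _
    · exact hc.mem_zg_of_sq ((Sub.mem_stab hc.hS hX).1 h1) (congrArg Subtype.val h3)
  have hqH : Nat.card (zg H b) = Nat.card (zg G a) :=
    Nat.card_congr ⟨fun x => ⟨((x : H) : G), (hzgH x).1 x.2⟩,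
      fun z => ⟨⟨z, hzH z z.2⟩, (hzgH _).2 z.2⟩, fun _ => rfl, fun _ => rfl⟩
  have hQ3 : Nat.card QH = Nat.card (zg H b) ^ 3 := by
    rw [hqH, ← h.card_S]
    exact Nat.card_congr ⟨fun x => ⟨((x : H) : G), (hQS x).1 x.2⟩,
      fun s => ⟨⟨s, hSH s s.2⟩, (hQS _).2 s.2⟩, fun _ => rfl, fun _ => rfl⟩
  have hvgH : ∀ x : H, x ∈ vg H b τ ↔ (x : G) ∈ vg G a t := fun x => by
    rw [hcH.mem_vg, hc.mem_vg]
    exact and_congr (Sub.mem_D' hc.hS hX) ⟨fun e => congrArg Subtype.val e, fun e => Subtype.ext e⟩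
  have hkgH : ∀ k : H, (k : G) ∈ kg G a t → k ∈ kg H b τ := fun k hk => by
    refine hcH.mem_kg.2 ⟨(Sub.mem_D' hc.hS hX).2 (hc.kg_le hk), Subtype.ext (hc.kg_inv hk)⟩
  let ι : vg G a t →* stabilizer H b := MonoidHom.mk'
    (fun v => ⟨⟨v, hvH v v.2⟩, (Sub.mem_stab hc.hS hX).2 (hc.vg_fix v.2)⟩) fun _ _ => rfl
  -- nonlinearity in the centraliser
  have hnonlin : ∀ χ' : stabilizer H b →* ℂˣ, IsTorusChar H b τ QH χ' → χ' ≠ 1 →
      (∀ x ∈ QH, x ≠ 1 → lam χ' (R1C.hc hcH.hS x) = 1) → False := by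
    intro χ' hχ' hne' hall
    obtain ⟨χ, hχ, hval⟩ := hc.exists_torus_char (χ'.comp ι)
    have hone : ∀ x ∈ S, x ≠ 1 → lam χ (R1C.hc hc.hS x) = 1 := fun x hx hx1 => by
      obtain ⟨v, hv, k, hk, e⟩ := hc.decomp (hc_mem hc.hS (h.split.S_le hx) hx1)
      have hxH : (⟨x, hSH x hx⟩ : H) ∈ QH := (hQS _).2 hx
      have h0 := hall _ hxH (fun e => hx1 (congrArg Subtype.val e))
      have e2 : R1C.hc hcH.hS (⟨x, hSH x hx⟩ : H) = (⟨v, hvH v hv⟩ : H) * ⟨k, hkH k hk⟩ := Subtype.ext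
        ((Sub.coords_eq' hc.hS hX (x := ⟨x, hSH x hx⟩) (h.split.S_le hx)
          (fun e => hx1 (congrArg Subtype.val e))).trans e)
      rw [e2, lam_mul_left χ' ((Sub.mem_stab hc.hS hX).2 (hc.vg_fix hv)),
        lam_K χ' hcH.hS hχ' (k := (⟨k, hkH k hk⟩ : H)) (by rw [← hcH.kg_eq]; exact hkgH _ hk), mul_one,
        lam_of_mem χ' ((Sub.mem_stab hc.hS hX).2 (hc.vg_fix hv))] at h0
      rw [e, lam_mul_left χ (hc.vg_fix hv), lam_K χ hc.hS hχ (k := k) (by rw [← hc.kg_eq]; exact hk), mul_one,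
        lam_of_mem χ (hc.vg_fix hv), hval _ hv]
      exact h0
    refine h.const_contra hχ (fun e => hne' ?_) hone
    refine MonoidHom.ext fun g => ?_
    obtain ⟨q, hq, d, hd, hg⟩ := R1.mem_sup hcH.hS g.2
    obtain ⟨v, hv, k, hk, rfl⟩ := hcH.decomp hd
    have hv' := (hvgH v).1 hv
    have h1 : (χ' ⟨v, hcH.vg_fix hv⟩ : ℂˣ) = 1 := by
      have := hval ⟨(v : G), hc.vg_fix hv'⟩ hv'
      rw [e] at this
      exact this.symm
    have hgl : lam χ' (g : H) = 1 := by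
      rw [hg, lam_mul_left χ' (hcH.hS.le hq), lam_Q χ' hcH.hS hχ' hq, one_mul,
        lam_mul_left χ' (hcH.vg_fix hv), lam_K χ' hcH.hS hχ' (k := k) (by rw [← hcH.kg_eq]; exact hk), mul_one,
        lam_of_mem χ' (hcH.vg_fix hv), h1, Units.val_one]
    rw [lam_of_mem χ' g.2] at hgl
    rw [MonoidHom.one_apply]
    exact Units.ext hgl
  haveI := R1.finite_Ω hcH.hS
  have hVH : vg H b τ ≠ ⊥ := fun e => h.V_ne ((Subgroup.eq_bot_iff_forall _).2 fun v hv =>
    congrArg Subtype.val (Subgroup.mem_bot.1 (e ▸ (hvgH ⟨v, hvH v hv⟩).2 hv) : (⟨v, hvH v hv⟩ : H) = 1))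
  obtain ⟨hsq, -, -⟩ := h.struct
  obtain ⟨L, i1, i2, i3, f, zp, kp, x0, hCS, hsum, -, -, -⟩ := hcH.exists_cset hQ3
    (fun x hx => (hzgH _).2 (hsq _ ((hQS x).1 hx)))
    (fun χ' hχ' hne' g m n α β hH' hgn => hnonlin χ' hχ' hne'
      (all_one_of_linear hH' hχ' (Or.inr hgn)).2)
    (hcH.exists_char hVH)
  -- the cube of `w` is killed by the linear characters
  have hcube : ∀ w ∈ W0, ∀ ψ : vg G a t →* ℂˣ, ∀ hw : w ∈ vg G a t, ψ ⟨w, hw⟩ ^ 3 = 1 := by
    intro w hw ψ hwv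
    let π : vg H b τ →* vg G a t := MonoidHom.mk' (fun v => ⟨((v : H) : G), (hvgH v).1 v.2⟩) fun _ _ => rfl
    obtain ⟨w', hw'⟩ : ∃ w' : H, (w' : G) = w := ⟨⟨w, hvH w hwv⟩, rfl⟩
    have hv' : w' ∈ vg H b τ := (hvgH w').2 (hw' ▸ hwv)
    have hx0 : w' • x0 = x0 := Subtype.ext (by
      show (w' : G) • (x0 : Ω) = (x0 : Ω)
      rw [hw']; exact x0.2 w hw)
    have hrho : hCS.rho hv' = 1 := hCS.mg_inj (by rw [hCS.rho_spec, hx0, map_one, one_smul])
    have hFc : hCS.Fc hv' = w' := by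
      have hF := (hvgH _).1 (hCS.F_mem (bot (1 : Matrix.SpecialLinearGroup (Fin 2) L)))
      rw [CSet.Fc, hrho]
      refine Subtype.ext ?_
      simp only [Subgroup.coe_mul, Subgroup.coe_inv, hw']
      rw [mul_assoc, ← hcentral _ hF w hw, inv_mul_cancel_left]
    let ψ' := ψ.comp π
    have hΔ : (ψ'.comp hCS.Fhom * (ψ' * ψ')) = 1 := hCS.gen hsum _ fun u r hur => by
      rw [MonoidHom.mul_apply, MonoidHom.mul_apply, MonoidHom.comp_apply, hCS.Fhom_apply, ← pow_two]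
      exact hCS.Fc_sq ψ' hur
    have h1 := DFunLike.congr_fun hΔ ⟨w', hv'⟩
    rw [MonoidHom.mul_apply, MonoidHom.mul_apply, MonoidHom.comp_apply, hCS.Fhom_apply, MonoidHom.one_apply] at h1
    have e1 : (⟨hCS.Fc hv', hCS.Fc_mem hv'⟩ : vg H b τ) = ⟨w', hv'⟩ := Subtype.ext hFc
    rw [e1] at h1
    have e2 : ψ' ⟨w', hv'⟩ = ψ ⟨w, hwv⟩ := congrArg ψ (Subtype.ext hw')
    rw [e2] at h1
    rw [pow_succ, pow_two]
    rw [← mul_assoc] at h1
    exact h1
  -- `V` acts freely on the odd part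
  haveI : Nontrivial (vg G a t) := (Subgroup.nontrivial_iff_ne_bot _).2 h.V_ne
  haveI : Nontrivial U := (Subgroup.nontrivial_iff_ne_bot _).2 h.U_ne
  let φ : vg G a t →* MulAut U := MonoidHom.mk' (fun v => conjSub U (v : G) fun x hx => h.conj_U (hc.vg_fix v.2) hx)
    fun v v' => MulEquiv.ext fun x => Subtype.ext (by simp [conjSub_coe, MulAut.mul_apply, mul_assoc])
  obtain ⟨K, k1, k2, nn, ρ, hn0, hρ⟩ := Perm.Fpf.hasFpf_of_action φ (fun v hv1 x hx => Subtype.ext
    (h.fpf_U (hc.vg_le v.2) (fun e => hv1 (Subtype.ext e)) x.2 (mul_inv_eq_iff_eq_mul.1 (congrArg Subtype.val hx))))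
  haveI : Nonempty (Fin nn) := ⟨⟨0, hn0⟩⟩
  have hcyc : ∀ (r : ℕ) [Fact r.Prime] (P : Sylow r (vg G a t)), IsCyclic (P : Subgroup (vg G a t)) := by
    intro r _ P
    rcases eq_or_ne r 2 with rfl | hr
    · haveI : Subsingleton (P : Subgroup (vg G a t)) := by
        rw [← Finite.card_le_one_iff_subsingleton]
        obtain ⟨k, hk⟩ := P.isPGroup'.exists_card_eq
        have h1 := hc.odd_vg.of_dvd_nat (Subgroup.card_subgroup_dvd_card (P : Subgroup (vg G a t)))
        rw [hk] at h1 ⊢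
        rcases Nat.eq_zero_or_pos k with rfl | hk0
        · simp
        · exact absurd h1 (Nat.not_odd_iff_even.2 ((Nat.even_pow' hk0.ne').2 even_two))
      exact isCyclic_of_subsingleton
    · exact hρ.isCyclic_of_odd hr (P : Subgroup (vg G a t)) P.isPGroup'
  have hexp : ∀ w ∈ W0, w ^ 3 = 1 := by
    intro w hw
    have hwv := hc.wg_le_vg (hW0w w hw)
    set z₀ : vg G a t := ⟨w, hwv⟩ ^ 3 with hz₀
    have hzc : ∀ g, g * z₀ = z₀ * g := fun g => by
      have h1 : Commute g ⟨w, hwv⟩ := Subtype.ext (hcentral g g.2 w hw)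
      exact (h1.pow_right 3).eq
    have hzC : z₀ ∈ commutator (vg G a t) := by
      rw [← Abelianization.ker_of, MonoidHom.mem_ker]
      haveI : Finite (Abelianization (vg G a t)) := Quotient.finite _
      haveI : NeZero (Monoid.exponent (Abelianization (vg G a t)) : ℂ) := ⟨by
        exact_mod_cast Monoid.exponent_ne_zero_of_finite⟩
      by_contra hne
      obtain ⟨φ, hφ⟩ := CommGroup.exists_apply_ne_one_of_hasEnoughRootsOfUnity (Abelianization (vg G a t)) ℂ hne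
      refine hφ ?_
      have h1 := hcube w hw (φ.comp Abelianization.of) hwv
      rw [hz₀, map_pow, map_pow]
      exact h1
    have h1 := eq_one_of_central_commutator hcyc hzc hzC
    exact congrArg Subtype.val (hz₀ ▸ h1)
  haveI : Fact (Nat.Prime 3) := ⟨Nat.prime_three⟩
  have hW0V : W0 ≤ vg G a t := fun w hw => hc.wg_le_vg (hW0w w hw)
  have hexp' : ∀ x : W0.subgroupOf (vg G a t), x ^ 3 = 1 := fun x =>
    Subtype.ext (Subtype.ext (hexp _ (Subgroup.mem_subgroupOf.1 x.2)))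
  haveI := hρ.isCyclic_of_odd (p := 3) (by norm_num) (W0.subgroupOf (vg G a t)) (fun x => ⟨1, by
    rw [pow_one]; exact hexp' x⟩)
  rw [← Nat.card_congr (Subgroup.subgroupOfEquivOfLe hW0V).toEquiv, ← IsCyclic.exponent_eq_card]
  exact Nat.le_of_dvd (by norm_num) (Monoid.exponent_dvd_of_forall_pow_eq_one hexp')

/-- The bound for the two-point stabiliser. -/
theorem card_D_bound : 2 * Nat.card (D G a t) < Nat.card (zg G a) ^ 6 := by
  have hc := h.ctx
  obtain ⟨f, hf, hq⟩ := hc.exists_f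
  set q := Nat.card (zg G a) with hqdef
  have h1 := h.card_wg_le
  have h2 := h.card_vg_le hq
  have h3 := h.card_W0_le
  rw [← hqdef] at h1
  rw [hc.card_D, show Nat.card (kg G a t) = q - 1 by have := hc.card_kg; omega]
  have h4 : Nat.card (vg G a t) * (q - 1) ≤ f * ((q ^ 2 - 1) * (q - 1) * 3) * (q - 1) :=
    Nat.mul_le_mul_right _ (h2.trans (Nat.mul_le_mul_left _ (h1.trans (Nat.mul_le_mul_left _ h3))))
  have h5 : 6 * f ≤ q ^ 2 := by
    rw [hq]
    clear * - hf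
    induction f, hf using Nat.le_induction with
    | base => norm_num
    | succ f hf ih =>
      have h4 : 2 ^ (f + 1) * 1 = 2 ^ f * 2 := by ring
      nlinarith [Nat.pow_le_pow_right (show 0 < 2 by norm_num) hf]
  have hq1 : 4 ≤ q := hq ▸ Nat.pow_le_pow_right (show 0 < 2 by norm_num) hf
  have hq2 : q ^ 2 - 1 < q ^ 2 := Nat.sub_lt (by positivity) one_pos
  calc 2 * (Nat.card (vg G a t) * (q - 1)) ≤ 2 * (f * ((q ^ 2 - 1) * (q - 1) * 3) * (q - 1)) :=
        Nat.mul_le_mul_left _ h4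
    _ = 6 * f * ((q ^ 2 - 1) * ((q - 1) * (q - 1))) := by ring
    _ ≤ q ^ 2 * ((q ^ 2 - 1) * ((q - 1) * (q - 1))) := Nat.mul_le_mul_right _ h5
    _ < q ^ 2 * (q ^ 2 * (q * q)) := by
      refine Nat.mul_lt_mul_of_pos_left ?_ (by positivity)
      exact Nat.mul_lt_mul_of_lt_of_le hq2 (Nat.mul_le_mul (by omega) (by omega)) (by positivity)
    _ = q ^ 6 := by ring

end BCtx

end Cfsg.Agent.Lie.R1C
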