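import Cfsg.Agent.Lib.Lie.SplitRankOne.Setup
import Cfsg.Agent.Lib.Lie.CyclicRegularField

/-!
Coordinates on the involutions of the point stabiliser and on the torus: a field of two-power order.
-/

set_option autoImplicit false
set_option linter.unusedSectionVars false
set_option linter.unusedSimpArgs false
set_option linter.style.haveILetI false

namespace Cfsg.Agent.Lie.R1C

open Cfsg MulAction
open Cfsg.Agent.Lie.R1 (D tt t_inv tDt)

theorem exists_sq {L : Type*} [Field L] [Finite L] [CharP L 2] (α : L) : ∃ μ : L, μ ^ 2 = α :=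
  haveI : ExpChar L 2 := ExpChar.prime Nat.prime_two
  (Finite.injective_iff_bijective.1 (frobenius_inj L 2)).2 α

theorem sq_inj {L : Type*} [Field L] [CharP L 2] {a b : L} (h : a ^ 2 = b ^ 2) : a = b :=
  haveI : ExpChar L 2 := ExpChar.prime Nat.prime_two
  frobenius_inj L 2 h

variable {G Ω : Type*} [Group G] [MulAction G Ω]

/-- A field parametrising the involutions of the point stabiliser and the torus. -/
structure Coord (G : Type*) {Ω : Type*} [Group G] [MulAction G Ω] (a : Ω) (t : G) (Q : Subgroup G) (L : Type)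
    [Field L] (zp kp : L → G) : Prop where
  charTwo : CharP L 2
  finite : Finite L
  zp_add : ∀ x y, zp (x + y) = zp x * zp y
  zp_inj : Function.Injective zp
  mem_zp : ∀ z, z ∈ zg G a ↔ ∃ x, zp x = z
  kp_mul : ∀ x y, x ≠ 0 → y ≠ 0 → kp (x * y) = kp x * kp y
  kp_inj : ∀ x y, x ≠ 0 → y ≠ 0 → kp x = kp y → x = y
  mem_kp : ∀ k, k ∈ kg G a t ↔ ∃ x, x ≠ 0 ∧ kp x = k
  conj : ∀ x y, x ≠ 0 → kp x * zp y * (kp x)⁻¹ = zp (x ^ 2 * y)
  pair : ∃ r ∈ Q, t * zp 1 * t = r⁻¹ * t * r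

variable [Finite G] {a : Ω} {t : G} {Q : Subgroup G} (hc : Ctx G Ω a t Q)

include hc

theorem Ctx.exists_coord : ∃ (L : Type) (_ : Field L) (_ : Fintype L) (f : ℕ) (zp kp : L → G),
    2 ≤ f ∧ Fintype.card L = 2 ^ f ∧ Nat.card (zg G a) = 2 ^ f ∧ Coord G a t Q L zp kp := by
  classical
  obtain ⟨f, hf, hcard⟩ := hc.exists_f
  let L := GaloisField 2 f
  haveI : Fintype L := Fintype.ofFinite L
  haveI : CharP L 2 := inferInstance
  have hL : Fintype.card L = 2 ^ f := by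
    rw [← Nat.card_eq_fintype_card]; exact GaloisField.card 2 f (by omega)
  obtain ⟨g, hg, hgeq⟩ := hc.exists_gen
  have hgK : g ∈ kg G a t := hg ▸ Subgroup.mem_zpowers g
  letI : CommGroup (zg G a) :=
    { (inferInstance : Group (zg G a)) with
      mul_comm := fun x y => Subtype.ext (hc.zg_central x.2 (hc.zg_le_Q y.2)) }
  let R : Additive (zg G a) ≃+ Additive (zg G a) :=
    { toFun := fun x => Additive.ofMul ⟨g * (x.toMul : G) * g⁻¹, hc.conj_zg (hc.kg_fix hgK) x.toMul.2⟩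
      invFun := fun x => Additive.ofMul ⟨g⁻¹ * (x.toMul : G) * g⁻¹⁻¹,
        hc.conj_zg (hc.kg_fix (inv_mem hgK)) x.toMul.2⟩
      left_inv := fun x => Additive.toMul.injective (Subtype.ext (by simp [mul_assoc]))
      right_inv := fun x => Additive.toMul.injective (Subtype.ext (by simp [mul_assoc]))
      map_add' := fun x y => Additive.toMul.injective (Subtype.ext (by simp [mul_assoc])) }
  have hR : ∀ (j : ℕ) (x : Additive (zg G a)),
      ((((R : Additive (zg G a) → Additive (zg G a))^[j] x).toMul : zg G a) : G) =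
        g ^ j * (x.toMul : G) * (g ^ j)⁻¹ := by
    intro j
    induction j with
    | zero => intro x; simp
    | succ j ih =>
      intro x
      rw [Function.iterate_succ_apply, ih]
      show g ^ j * (g * (x.toMul : G) * g⁻¹) * (g ^ j)⁻¹ = _
      rw [pow_succ]; group
  have hnpow : ∀ k ∈ kg G a t, ∃ j : ℕ, k = g ^ j := fun k hk => by
    rw [hg] at hk
    obtain ⟨j, hj⟩ := (isOfFinOrder_of_finite g).mem_powers_iff_mem_zpowers.2 hk
    exact ⟨j, hj.symm⟩
  obtain ⟨κ, ζ, hζ0, hκ, hζgen⟩ := CyclicField.exists_coord_of f (by omega)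
    ((Nat.card_congr Additive.toMul).trans hcard)
    (fun x => Additive.toMul.injective (Subtype.ext (hc.zg_sq x.toMul.2))) R
    (fun x y hx hy => by
      obtain ⟨k, hk, hke⟩ := hc.kg_trans x.toMul.2 (fun h => hx (Additive.toMul.injective (Subtype.ext h)))
        y.toMul.2 (fun h => hy (Additive.toMul.injective (Subtype.ext h)))
      obtain ⟨j, rfl⟩ := hnpow k hk
      exact ⟨j, Additive.toMul.injective (Subtype.ext ((hR j x).trans hke))⟩) L hL
  obtain ⟨s₀, r₀, e0, e1, e2, e3, e4⟩ := R1.exists_pair hc.hS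
  have hsZ : s₀ ∈ zg G a := hc.mem_zg_of_sq e0 e2
  set c := κ.symm (Additive.ofMul ⟨s₀, hsZ⟩) with hcdef
  have hc0 : c ≠ 0 := fun h => e1 (by
    have := congrArg (fun u => (((κ u).toMul : zg G a) : G)) h
    simpa [hcdef] using this)
  set zp : L → G := fun x => (((κ (x * c)).toMul : zg G a) : G) with hzp
  have hstep : ∀ y : L, g * zp y * g⁻¹ = zp (ζ * y) := fun y => by
    simp only [hzp, mul_assoc ζ y c, ← hκ]
    rfl
  have hstepn : ∀ (j : ℕ) (y : L), g ^ j * zp y * (g ^ j)⁻¹ = zp (ζ ^ j * y) := by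
    intro j
    induction j with
    | zero => intro y; simp
    | succ j ih =>
      intro y
      rw [show g ^ (j + 1) * zp y * (g ^ (j + 1))⁻¹ = g ^ j * (g * zp y * g⁻¹) * (g ^ j)⁻¹ by
        rw [pow_succ]; group, hstep, ih, pow_succ, mul_assoc]
  have hmem : ∀ z, z ∈ zg G a ↔ ∃ x, zp x = z := by
    refine fun z => ⟨fun hz => ⟨κ.symm (Additive.ofMul ⟨z, hz⟩) / c, ?_⟩, ?_⟩
    · simp only [hzp, div_mul_cancel₀ _ hc0, AddEquiv.apply_symm_apply, toMul_ofMul]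
    · rintro ⟨x, rfl⟩; exact ((κ (x * c)).toMul : zg G a).2
  have hinj : Function.Injective zp := fun x y h =>
    mul_right_cancel₀ hc0 (κ.injective (Additive.toMul.injective (Subtype.ext h)))
  -- the torus
  have hk : ∀ x : L, ∃ k : G, x ≠ 0 → k ∈ kg G a t ∧ ∀ y, k * zp y * k⁻¹ = zp (x ^ 2 * y) := by
    intro x
    by_cases hx : x = 0
    · exact ⟨1, fun h => absurd hx h⟩
    obtain ⟨j, hj⟩ := hζgen (x ^ 2) (pow_ne_zero 2 hx)
    exact ⟨g ^ j, fun _ => ⟨pow_mem hgK j, fun y => by rw [hstepn, hj]⟩⟩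
  choose kp hkp using hk
  have hkuniq : ∀ k ∈ kg G a t, ∀ k' ∈ kg G a t, k * zp 1 * k⁻¹ = k' * zp 1 * k'⁻¹ → k = k' := by
    intro k hk k' hk' h
    by_contra hne
    refine one_ne_zero (α := L) (hinj ((hc.kg_fpf (mul_mem (inv_mem hk') hk) (fun e => hne (inv_mul_eq_one.1 e).symm)
      (hc.zg_le_Q ((hmem _).2 ⟨1, rfl⟩)) ?_).trans ?_))
    · have := congrArg (fun w => k'⁻¹ * w * k) h
      simpa [mul_assoc] using this
    · simp [hzp]
  refine ⟨L, inferInstance, inferInstance, f, zp, kp, hf, hL, hcard, ⟨inferInstance, inferInstance, fun x y => ?_,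
    hinj, hmem, fun x y hx hy => ?_, fun x y hx hy h => ?_, fun k => ?_, fun x y hx => (hkp x hx).2 y,
    ⟨r₀, e3, ?_⟩⟩⟩
  · simp only [hzp, add_mul, map_add, toMul_add, Subgroup.coe_mul]
  · refine hkuniq _ (hkp _ (mul_ne_zero hx hy)).1 _ (mul_mem (hkp x hx).1 (hkp y hy).1) ?_
    rw [(hkp _ (mul_ne_zero hx hy)).2, show kp x * kp y * zp 1 * (kp x * kp y)⁻¹ =
      kp x * (kp y * zp 1 * (kp y)⁻¹) * (kp x)⁻¹ by group, (hkp y hy).2, (hkp x hx).2]
    congr 1
    ring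
  · have h1 := (hkp x hx).2 1
    rw [h, (hkp y hy).2, mul_one, mul_one] at h1
    exact (sq_inj (hinj h1)).symm
  · constructor
    · intro hk
      obtain ⟨j, rfl⟩ := hnpow k hk
      obtain ⟨x, hx⟩ := exists_sq (ζ ^ j)
      have hx0 : x ≠ 0 := fun h => pow_ne_zero j hζ0 (by rw [← hx, h]; simp)
      exact ⟨x, hx0, hkuniq _ (hkp x hx0).1 _ hk (by rw [(hkp x hx0).2, hstepn, hx])⟩
    · rintro ⟨x, hx, rfl⟩; exact (hkp x hx).1
  · rw [show zp 1 = s₀ by simp [hzp, hcdef]]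
    exact e4

namespace Coord

variable {L : Type} [Field L] {zp kp : L → G} (hL : Coord G a t Q L zp kp)

include hL

theorem zp_zero : zp 0 = 1 := by
  have := hL.zp_add 0 0
  rwa [add_zero, left_eq_mul] at this

theorem zp_mem (x : L) : zp x ∈ zg G a := (hL.mem_zp _).2 ⟨x, rfl⟩

theorem kp_mem {x : L} (hx : x ≠ 0) : kp x ∈ kg G a t := (hL.mem_kp _).2 ⟨x, hx, rfl⟩

theorem kp_one : kp 1 = 1 := by
  have := hL.kp_mul 1 1 one_ne_zero one_ne_zero
  rwa [mul_one, left_eq_mul] at this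

theorem kp_inv {x : L} (hx : x ≠ 0) : (kp x)⁻¹ = kp x⁻¹ := by
  refine inv_eq_of_mul_eq_one_right ?_
  rw [← hL.kp_mul _ _ hx (inv_ne_zero hx), mul_inv_cancel₀ hx, hL.kp_one hc]

theorem kp_t {x : L} (hx : x ≠ 0) : t * kp x * t = kp x⁻¹ := by
  rw [hc.kg_inv (hL.kp_mem hc hx), hL.kp_inv hc hx]

/-- The element attached to the involution of the pair is that involution or lies outside `Z`. -/
theorem pair_eq {r : G} (hr : r ∈ Q) (he : t * zp 1 * t = r⁻¹ * t * r) (hrZ : r ∈ zg G a) : r = zp 1 := by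
  have h1 : zp 1 ≠ 1 := fun h => one_ne_zero (α := L) (hL.zp_inj (h.trans (hL.zp_zero hc).symm))
  have hsQ := hc.zg_le_Q (hL.zp_mem hc 1)
  obtain ⟨c1, c2, c3⟩ := coords_unique hc.hS hsQ h1 (inv_mem hr) (one_mem (D G a t)) hr (by rw [mul_one]; exact he)
  have hr2 : r⁻¹ = r := inv_eq_of_mul_eq_one_left (hc.zg_sq hrZ)
  have hr1 : r ≠ 1 := fun h => by
    have := gc_ne hc.hS hsQ h1
    rw [c1, h, inv_one] at this
    exact this rfl
  obtain ⟨d1, -, d3⟩ := coords_gc hc.hS hsQ h1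
  rw [c1, hr2] at d1
  rw [c1, c2, c3, hr2, inv_one, mul_one, hc.hS.mul_self, inv_one, one_mul, mul_one] at d3
  have d5 := (coords_inv hc.hS hr hr1).1
  rw [hr2, d1, d3, inv_eq_of_mul_eq_one_left (hc.zg_sq hrZ)] at d5
  exact d5.symm

/-- The conjugate of an involution of `Z` by `t`. -/
theorem tzt {r : G} (hr : r ∈ Q) (he : t * zp 1 * t = r⁻¹ * t * r) (hrZ : r ∈ zg G a) {x : L} (hx : x ≠ 0) :
    t * zp x * t = zp x⁻¹ * kp x⁻¹ * t * zp x⁻¹ := by
  have := hL.charTwo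
  haveI := hL.finite
  rw [hL.pair_eq hc hr he hrZ, inv_eq_of_mul_eq_one_left (hc.zg_sq (hL.zp_mem hc 1))] at he
  obtain ⟨m, rfl⟩ := exists_sq x
  have hm : m ≠ 0 := fun h => hx (by rw [h]; ring)
  have hm' : m⁻¹ ≠ 0 := inv_ne_zero hm
  have e1 : zp (m ^ 2) = kp m * zp 1 * (kp m)⁻¹ := by rw [hL.conj _ _ hm, mul_one]
  have e2 : zp (m ^ 2)⁻¹ = (kp m)⁻¹ * zp 1 * kp m := by
    rw [hL.kp_inv hc hm]
    conv_rhs => rw [show kp m = (kp m⁻¹)⁻¹ by rw [hL.kp_inv hc hm', inv_inv]]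
    rw [hL.conj _ _ hm', mul_one, inv_pow]
  have hk := hc.kg_inv (hL.kp_mem hc hm)
  have e3 : kp (m ^ 2)⁻¹ = (kp m)⁻¹ * (kp m)⁻¹ := by
    rw [hL.kp_inv hc hm, ← hL.kp_mul _ _ hm' hm', pow_two, mul_inv]
  have hkt : t * (kp m)⁻¹ = kp m * t := by
    rw [← hk]
    simp only [mul_assoc, tt hc.hS]
  calc t * zp (m ^ 2) * t = (t * kp m * t) * (t * zp 1 * t) * (t * kp m * t)⁻¹ := by
        rw [e1]
        simp only [_root_.mul_inv_rev, t_inv hc.hS, mul_assoc, tt hc.hS]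
    _ = (kp m)⁻¹ * (zp 1 * t * zp 1) * kp m := by rw [he, hk, inv_inv]
    _ = (kp m)⁻¹ * zp 1 * (t * (kp m)⁻¹⁻¹) * ((kp m)⁻¹ * zp 1 * kp m) := by group
    _ = _ := by
      rw [e2, e3, inv_inv, show t * kp m = (kp m)⁻¹ * t by
        rw [← hk]; simp only [mul_assoc, hc.hS.mul_self, mul_one]]
      group

omit hL in
theorem two_eq {L : Type*} [Field L] [CharP L 2] : (2 : L) = 0 := CharTwo.two_eq_zero

/-- The elements of `V` act semilinearly. -/
theorem semilinear {v : G} (hv : v ∈ vg G a t) :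
    ∃ σ : L ≃+* L, (∀ x, v * zp x * v⁻¹ = zp (σ x)) ∧ ∀ x, x ≠ 0 → v * kp x * v⁻¹ = kp (σ x) := by
  classical
  have := hL.charTwo
  haveI := hL.finite
  haveI : Fintype L := Fintype.ofFinite L
  obtain ⟨hvD, hvt⟩ := hc.mem_vg.1 hv
  have hva : v • a = a := (Subgroup.mem_inf.1 hvD).1
  choose σ hσ using fun x => (hL.mem_zp _).1 (hc.conj_zg hva (hL.zp_mem hc x))
  have hadd : ∀ x y, σ (x + y) = σ x + σ y := fun x y => hL.zp_inj (by
    rw [hL.zp_add (σ x), hσ, hσ, hσ, hL.zp_add]; group)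
  have hinj : Function.Injective σ := fun x y h => hL.zp_inj (by
    have := hσ x
    rw [h, hσ] at this
    exact (mul_left_cancel (mul_right_cancel this)).symm)
  have hone : σ 1 = 1 := by
    refine hL.zp_inj ?_
    rw [hσ]
    obtain ⟨r, hr, he⟩ := hL.pair
    have h1 : zp 1 ≠ 1 := fun h => one_ne_zero (α := L) (hL.zp_inj (h.trans (hL.zp_zero hc).symm))
    have hza : zp 1 • a = a := R1.fix_a hc.hS (hc.zg_le_Q (hL.zp_mem hc 1))
    have hz2 := hc.zg_sq (hL.zp_mem hc 1)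
    refine (R1.pair_unique hc.hS (s := v * zp 1 * v⁻¹) (r := v * r * v⁻¹) ?_ (fun h => h1 (conj_eq_one_iff.1 h))
      ?_ (R1.conj_Q hc.hS hva hr) ?_ hza h1 hz2 hr he).1
    · exact hc.hS.le (hc.zg_le_Q (hc.conj_zg hva (hL.zp_mem hc 1)))
    · rw [show v * zp 1 * v⁻¹ * (v * zp 1 * v⁻¹) = v * (zp 1 * zp 1) * v⁻¹ by group, hz2]; group
    · have hvc : t * v = v * t := by
        conv_rhs => rw [← hvt]
        rw [mul_assoc, hc.hS.mul_self, mul_one]
      have hvc' : v⁻¹ * t = t * v⁻¹ := (show Commute t v from hvc).inv_right.eq.symm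
      calc t * (v * zp 1 * v⁻¹) * t = v * (t * zp 1 * t) * v⁻¹ := by
            rw [show t * (v * zp 1 * v⁻¹) * t = (t * v) * zp 1 * (v⁻¹ * t) by group, hvc, hvc']; group
        _ = _ := by
            rw [he, show (v * r * v⁻¹)⁻¹ * t * (v * r * v⁻¹) = v * r⁻¹ * (v⁻¹ * t) * v * r * v⁻¹ by group, hvc']
            group
  have hk : ∀ x, x ≠ 0 → ∃ x', x' ≠ 0 ∧ kp x' = v * kp x * v⁻¹ ∧ x' ^ 2 = σ (x ^ 2) ∧
      ∀ y, σ (x ^ 2 * y) = σ (x ^ 2) * σ y := by
    intro x hx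
    obtain ⟨x', hx', he⟩ := (hL.mem_kp _).1 (hc.conj_kg hvD (hL.kp_mem hc hx))
    have key : ∀ y, σ (x ^ 2 * y) = x' ^ 2 * σ y := fun y => hL.zp_inj (by
      rw [← hL.conj _ _ hx', he, hσ, hσ, ← hL.conj _ _ hx]; group)
    have h1 := key 1
    rw [mul_one, hone, mul_one] at h1
    exact ⟨x', hx', he, h1.symm, fun y => by rw [key, h1]⟩
  have h0 : σ 0 = 0 := by have := hadd 0 0; rwa [add_zero, left_eq_add] at this
  have hmul : ∀ x y, σ (x * y) = σ x * σ y := by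
    intro x y
    by_cases hx : x = 0
    · simp [hx, h0]
    obtain ⟨w, rfl⟩ := exists_sq x
    obtain ⟨w', -, -, -, h⟩ := hk w (fun h => hx (by rw [h]; ring))
    exact h y
  have hkp : ∀ x, x ≠ 0 → v * kp x * v⁻¹ = kp (σ x) := by
    intro x hx
    obtain ⟨x', -, he, h, -⟩ := hk x hx
    have hx'σ : x' = σ x := sq_inj (by rw [h, pow_two, pow_two, hmul])
    rw [← he, hx'σ]
  exact ⟨RingEquiv.ofBijective ({ toFun := σ, map_one' := hone, map_mul' := hmul, map_zero' := h0, map_add' := hadd } :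
      L →+* L) (Finite.injective_iff_bijective.1 hinj), fun x => (hσ x).symm, hkp⟩

/-- `W` acts trivially. -/
theorem wg_fix {w : G} (hw : w ∈ wg G a t) :
    (∀ x, w * zp x * w⁻¹ = zp x) ∧ ∀ x, x ≠ 0 → w * kp x * w⁻¹ = kp x :=
  ⟨fun x => by rw [hc.wg_comm_zg hw (hL.zp_mem hc x), mul_inv_cancel_right],
    fun x hx => by rw [hc.wg_comm_kg hw (hL.kp_mem hc hx), mul_inv_cancel_right]⟩

end Coord

end Cfsg.Agent.Lie.R1C
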