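import Cfsg.Agent.Lib.Lie.SplitRankOne.CubeW
import Mathlib.FieldTheory.Galois.Basic

/-!
With a nontrivial `W` there is a single label, so `V = W`.
-/

set_option autoImplicit false
set_option linter.unusedSectionVars false
set_option linter.unusedSimpArgs false
set_option linter.style.haveILetI false

namespace Cfsg.Agent.Lie.R1C

open Cfsg MulAction Matrix
open Cfsg.Agent.Lie.R1 (D tt t_inv tDt)
open scoped MatrixGroups

section Field

variable {L : Type} [Field L] [Fintype L]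

theorem card_aut_le [CharP L 2] {f : ℕ} (hf : Fintype.card L = 2 ^ f) : Nat.card (L ≃+* L) ≤ f := by
  haveI : Fact (Nat.Prime 2) := ⟨Nat.prime_two⟩
  letI : Algebra (ZMod 2) L := ZMod.algebra L 2
  haveI : Finite (L ≃ₐ[ZMod 2] L) := inferInstance
  let F : (L ≃+* L) → (L ≃ₐ[ZMod 2] L) := fun σ => AlgEquiv.ofRingEquiv (f := σ) fun x => by
    have : (σ.toRingHom.comp (algebraMap (ZMod 2) L)) = algebraMap (ZMod 2) L := Subsingleton.elim _ _
    exact DFunLike.congr_fun this x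
  have hinj : Function.Injective F := fun σ τ h => RingEquiv.ext fun x => DFunLike.congr_fun h x
  refine (Nat.card_le_card_of_injective F hinj).trans ?_
  rw [Nat.card_eq_fintype_card]
  refine AlgEquiv.card_le.trans (le_of_eq ?_)
  have h := Module.card_eq_pow_finrank (K := ZMod 2) (V := L)
  rw [ZMod.card, hf] at h
  exact (Nat.pow_right_injective le_rfl h).symm

/-- The fixed field of an automorphism of odd order other than one is small. -/
theorem card_fix_cube {σ : L ≃+* L} (hne : σ ≠ RingEquiv.refl L) {n : ℕ} (hn : Odd n)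
    (hσ : ∀ x, (⇑σ)^[n] x = x) : Nat.card {x : L // σ x = x} ^ 3 ≤ Fintype.card L := by
  classical
  let K : Subfield L :=
    { carrier := {x | σ x = x}
      mul_mem' := fun {a b} (ha : σ a = a) (hb : σ b = b) => show σ (a * b) = a * b by rw [map_mul, ha, hb]
      one_mem' := map_one σ
      add_mem' := fun {a b} (ha : σ a = a) (hb : σ b = b) => show σ (a + b) = a + b by rw [map_add, ha, hb]
      zero_mem' := map_zero σ
      neg_mem' := fun {a} (ha : σ a = a) => show σ (-a) = -a by rw [map_neg, ha]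
      inv_mem' := fun a (ha : σ a = a) => show σ a⁻¹ = a⁻¹ by rw [map_inv₀, ha] }
  have hK : Nat.card {x : L // σ x = x} = Nat.card K := rfl
  haveI : Fintype K := Fintype.ofFinite K
  have hcard : Fintype.card L = Fintype.card K ^ Module.finrank K L := Module.card_eq_pow_finrank
  have h1 : 1 < Fintype.card K := Fintype.one_lt_card
  rw [hK, Nat.card_eq_fintype_card, hcard]
  refine Nat.pow_le_pow_right (by omega) ?_
  by_contra hlt
  push Not at hlt
  let τ : L ≃ₐ[K] L := AlgEquiv.ofRingEquiv (f := σ) fun x => x.2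
  have hcard2 : Nat.card (L ≃ₐ[K] L) ≤ 2 := by
    rw [Nat.card_eq_fintype_card]
    exact AlgEquiv.card_le.trans (by omega)
  have hτn : τ ^ n = 1 := AlgEquiv.ext fun x => by
    rw [AlgEquiv.coe_pow]
    exact hσ x
  have hτ : τ ^ 2 = 1 := by
    rcases Nat.lt_or_ge (Nat.card (L ≃ₐ[K] L)) 2 with h | h
    · haveI : Subsingleton (L ≃ₐ[K] L) :=
        (Nat.card_eq_one_iff_unique.1 (by have := Nat.card_pos (α := L ≃ₐ[K] L); omega)).1
      exact Subsingleton.elim _ _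
    · have := pow_card_eq_one' (x := τ)
      rwa [le_antisymm hcard2 h] at this
  obtain ⟨j, hj⟩ := hn
  rw [hj, pow_succ, pow_mul, hτ, one_pow, one_mul] at hτn
  exact hne (RingEquiv.ext fun x => DFunLike.congr_fun hτn x)

theorem not_two_pow_bound {f u : ℕ} (hf : 2 ≤ f) (hu : u ^ 3 ≤ 2 ^ f) : ¬ 2 ^ f + 1 ≤ f * u := by
  intro h
  have h1 : (2 ^ f + 1) ^ 3 ≤ f ^ 3 * 2 ^ f :=
    (Nat.pow_le_pow_left h 3).trans (by rw [mul_pow]; exact Nat.mul_le_mul_left _ hu)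
  have h2 : f ^ 3 ≤ (2 ^ f) ^ 2 := by
    rw [← pow_mul, mul_comm, pow_mul]
    clear h h1 hu
    induction f, hf using Nat.le_induction with
    | base => norm_num
    | succ f hf ih =>
      rw [pow_succ (2 ^ 2) f]
      have : (f + 1) ^ 3 ≤ 4 * f ^ 3 := by
        nlinarith [Nat.mul_le_mul_left (f * f) hf, Nat.mul_le_mul_left f hf]
      linarith
  nlinarith [Nat.one_le_two_pow (n := f), Nat.mul_le_mul_right (2 ^ f) h2]

end Field

variable {G Ω : Type*} [Group G] [MulAction G Ω] [Finite G] [FaithfulSMul G Ω] {a : Ω} {t : G} {Q : Subgroup G}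
  {L : Type} [Field L] [Fintype L] [CharP L 2] {zp kp : L → G} {x0 : Ω}

namespace CSet

variable (hC : CSet G a t Q L zp kp x0)

include hC

omit [FaithfulSMul G Ω] in
theorem sg_iter {v : G} (hv : v ∈ vg G a t) (n : ℕ) (x : L) :
    (⇑(hC.sg hv))^[n] x = hC.sg (pow_mem hv n) x := by
  induction n generalizing x with
  | zero =>
    exact (hC.sg_eq _ (by simp)).symm
  | succ n ih =>
    rw [Function.iterate_succ_apply, ih, ← hC.sg_mul (pow_mem hv n) hv]
    exact congrArg (fun σ : L ≃+* L => σ x) (hC.sg_congr _ _ (pow_succ v n).symm)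

omit [FaithfulSMul G Ω] in
theorem sg_period {v : G} (hv : v ∈ vg G a t) (x : L) :
    (⇑(hC.sg hv))^[Nat.card (vg G a t)] x = x := by
  rw [hC.sg_iter hv]
  refine hC.sg_eq _ ?_
  have : v ^ Nat.card (vg G a t) = 1 := congrArg Subtype.val (pow_card_eq_one' (x := (⟨v, hv⟩ : vg G a t)))
  rw [this]
  simp

/-- The quadratic form attached to `Φ`. -/
theorem quad (hsum : hC.HSum) (hW : wg G a t ≠ ⊥) {u r : L × L} (h : dt u r = 1) (l : L) :
    (hC.Φ (u + l • r))⁻¹ = (hC.Φ u)⁻¹ + l + l ^ 2 * (hC.Φ r)⁻¹ := by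
  haveI : Nontrivial (wg G a t) := (Subgroup.nontrivial_iff_ne_bot _).2 hW
  obtain ⟨p, hp, hpd⟩ := Nat.exists_prime_and_dvd (n := Nat.card (wg G a t))
    (Finite.one_lt_card.ne')
  haveI : Fact p.Prime := ⟨hp⟩
  obtain ⟨⟨w, hw⟩, hwp⟩ := exists_prime_orderOf_dvd_card' (G := wg G a t) p hpd
  have hwp' : orderOf w = p := (Subgroup.orderOf_coe ⟨w, hw⟩).trans hwp
  set P := hC.rho (hC.m.ctx.wg_le_vg hw)
  set τ := P.1 0 0 + P.1 1 1
  have hτ : τ ≠ 0 := (no_eigen_b (hC.no_eigen hw fun e => hp.ne_one (by rw [← hwp', e, orderOf_one]))).2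
  have key : ∀ {v : L × L}, v ≠ 0 → (hC.Φ v)⁻¹ = dt v (vm v P) / τ := fun {v} hv => by
    have h : hC.Φ v * dt v (vm v P) = τ := hC.Phi_form hsum hw hp hwp' hv
    rw [eq_div_iff hτ, ← h]
    field_simp [hC.Φ_ne v]
  have hu : u + l • r ≠ 0 := (ne_zero_of_dt (r := r) (by rw [dt_add_smul h]; exact one_ne_zero)).1
  obtain ⟨hu0, hr0⟩ := ne_zero_of_dt (by rw [h]; exact one_ne_zero : dt u r ≠ 0)
  rw [key hu, key hu0, key hr0]
  field_simp
  have hp' := dt_polar u r P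
  rw [h, mul_one] at hp'
  rw [vm_add, vm_smul]
  simp only [dt, Prod.fst_add, Prod.snd_add, Prod.smul_fst, Prod.smul_snd, smul_eq_mul] at hp' ⊢
  linear_combination l * hp'

/-- The scale-free torus coordinate. -/
noncomputable def Gf (r : L × L) : L := hC.γ r ^ 2 * hC.Φ r

/-- The scale-free product of two values. -/
noncomputable def Sf (u r : L × L) : L := (hC.Φ u * hC.Φ r * dt u r ^ 2)⁻¹

omit [FaithfulSMul G Ω] in
theorem Gf_smul {l : L} (hl : l ≠ 0) {r : L × L} (hr : r ≠ 0) : hC.Gf (l • r) = hC.Gf r := by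
  obtain ⟨h1, -, h3⟩ := hC.smul_row hl hr
  rw [Gf, Gf, h1, h3]
  field_simp

omit [FaithfulSMul G Ω] in
theorem Gf_ne (r : L × L) : hC.Gf r ≠ 0 := mul_ne_zero (pow_ne_zero 2 (hC.γ_ne r)) (hC.Φ_ne r)

omit [FaithfulSMul G Ω] in
theorem Sf_smul {l : L} (hl : l ≠ 0) {u : L × L} (hu : u ≠ 0) (r : L × L) : hC.Sf (l • u) r = hC.Sf u r := by
  rw [Sf, Sf, (hC.smul_row hl hu).2.2, dt_smul_left]
  field_simp

theorem ratio_eq (hsum : hC.HSum) (hW : wg G a t ≠ ⊥) {u r : L × L} (h : dt u r = 1) {α : L} (hα : α ≠ 0) :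
    hC.sg (hC.eps_mem u r) (hC.Φ u) * hC.γ u ^ 2 / hC.sg (hC.eps_mem u r) (hC.γ r) ^ 2 =
      hC.sg (hC.eps_mem (u + α • r) r) (hC.Φ (u + α • r)) * hC.γ (u + α • r) ^ 2 /
        hC.sg (hC.eps_mem (u + α • r) r) (hC.γ r) ^ 2 := by
  have hval : ∀ {u : L × L}, dt u r = 1 → dt (hC.TT u r) (hC.RR u r α) = 1 ∧
      hC.Φ (hC.TT u r) = hC.sg (hC.eps_mem u r) (hC.Φ u) * hC.γ u ^ 2 / hC.sg (hC.eps_mem u r) (hC.γ r) ^ 2 := by
    intro u h
    have hA : dt (hC.Aq u r) r = 1 := dt_add_smul h _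
    have hq : (hC.Φ (hC.Aq u r))⁻¹ = (hC.Φ u)⁻¹ := by
      rw [Aq, hC.quad hsum hW h]
      have : hC.Φ r + hC.Φ r ^ 2 * (hC.Φ r)⁻¹ = 0 := by
        rw [pow_two, mul_inv_cancel_right₀ (hC.Φ_ne r), CharTwo.add_self_eq_zero]
      linear_combination this
    rw [_root_.inv_inj] at hq
    have hA0 := (ne_zero_of_dt (by rw [hA]; exact one_ne_zero : dt (hC.Aq u r) r ≠ 0)).1
    have hcu := hC.cc_ne u r
    have hγu := hC.γ_ne u
    refine ⟨?_, ?_⟩
    · rw [TT, RR, dt_smul_left, dt_smul_right, hC.dt_Psi, R0,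
        dt_comm (hC.Aq u r), dt_add_left, dt_smul_left, dt_self, mul_zero, add_zero, dt_comm r, hA, map_one]
      field_simp
    · have hP0 : hC.Psi (hC.eps_mem u r) (hC.Aq u r) ≠ 0 := by
        obtain ⟨B, hB⟩ := exists_mat hA0
        rw [← hB, ← hC.bot_act]
        exact bot_ne _
      rw [TT, (hC.smul_row (div_ne_zero hcu hγu) hP0).2.2, (hC.Psi_row _ hA0).2.2, hq]
      rw [cc] at hcu ⊢
      field_simp
  obtain ⟨hd, h1⟩ := hval h
  obtain ⟨-, h2⟩ := hval (dt_add_smul h α)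
  rw [← h1, ← h2, (hC.pair h hα).2]
  refine inv_injective ?_
  have hR := hC.Φ_ne (hC.RR u r α)
  rw [hC.quad hsum hW hd, pow_two, mul_inv_cancel_right₀ hR, add_assoc, CharTwo.add_self_eq_zero, add_zero]

/-- The invariant of a pencil. -/
theorem inv_eq (hsum : hC.HSum) (hW : wg G a t ≠ ⊥) {u u' r : L × L} (h : dt u r ≠ 0) (h' : dt u' r ≠ 0) :
    hC.sg (hC.eps_mem u r) (hC.Gf r * hC.Sf u r) / (hC.Gf u * hC.Sf u r) =
      hC.sg (hC.eps_mem u' r) (hC.Gf r * hC.Sf u' r) / (hC.Gf u' * hC.Sf u' r) := by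
  have hnorm : ∀ {u : L × L}, dt u r ≠ 0 → ∃ v : L × L, dt v r = 1 ∧
      hC.sg (hC.eps_mem u r) (hC.Gf r * hC.Sf u r) / (hC.Gf u * hC.Sf u r) =
        hC.sg (hC.eps_mem v r) (hC.γ r) ^ 2 /
          (hC.sg (hC.eps_mem v r) (hC.Φ v) * hC.γ v ^ 2) * hC.Φ r := by
    intro u h
    obtain ⟨hu0, hr0⟩ := ne_zero_of_dt h
    have hl := inv_ne_zero h
    refine ⟨(dt u r)⁻¹ • u, by rw [dt_smul_left, inv_mul_cancel₀ h], ?_⟩
    have he : hC.eps ((dt u r)⁻¹ • u) r = hC.eps u r := by rw [eps, eps, (hC.smul_row hl hu0).2.1]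
    rw [hC.sg_congr (hC.eps_mem u r) (hC.eps_mem ((dt u r)⁻¹ • u) r) he.symm, ← hC.Gf_smul hl hu0,
      ← hC.Sf_smul hl hu0 r]
    set v := (dt u r)⁻¹ • u
    have hv : dt v r = 1 := by rw [dt_smul_left, inv_mul_cancel₀ h]
    have h1 := hC.Φ_ne v
    have h2 := hC.Φ_ne r
    have h3 := hC.γ_ne v
    have h4 := hC.γ_ne r
    set σ := hC.sg (hC.eps_mem v r)
    have h5 : σ (hC.Φ v) ≠ 0 := by simpa using h1
    have h6 : σ (hC.Φ r) ≠ 0 := by simpa using h2
    simp only [Gf, Sf, hv, one_pow, mul_one, map_mul, map_inv₀, map_pow]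
    field_simp
  obtain ⟨v, hv, e⟩ := hnorm h
  obtain ⟨v', hv', e'⟩ := hnorm h'
  rw [e, e']
  obtain ⟨l, hl⟩ := eq_smul_of_dt (u := v' + v) (ne_zero_of_dt h).2
    (by rw [dt_add_left, hv, hv', CharTwo.add_self_eq_zero])
  have hv'' : v' = v + l • r := by
    rw [← hl, add_comm v' v, ← add_assoc]
    ext <;> simp [CharTwo.add_self_eq_zero]
  by_cases hl0 : l = 0
  · rw [hl0, zero_smul, add_zero] at hv''
    rw [hv'']
  · rw [hv'', ← inv_div _ (hC.sg (hC.eps_mem v r) (hC.γ r) ^ 2), hC.ratio_eq hsum hW hv hl0, inv_div]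

/-- The label of a row. -/
noncomputable def lab (r : L × L) : L ≃+* L := hC.sg (hC.F_mem r)

omit [FaithfulSMul G Ω] in
theorem sg_eps_apply (u r : L × L) (x : L) :
    hC.sg (hC.eps_mem u r) (hC.lab r x) = hC.lab u x := by
  rw [lab, lab, ← hC.sg_mul (hC.eps_mem u r) (hC.F_mem r)]
  exact congrArg (fun σ : L ≃+* L => σ x) (hC.sg_congr _ _ (by rw [eps, inv_mul_cancel_right]))

omit [FaithfulSMul G Ω] in
theorem sg_eps_refl {u r : L × L} (h : hC.lab u = hC.lab r) (x : L) : hC.sg (hC.eps_mem u r) x = x := by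
  have := hC.sg_eps_apply u r ((hC.lab r).symm x)
  rw [h, RingEquiv.apply_symm_apply] at this
  exact this

omit [FaithfulSMul G Ω] in
theorem sg_eps_eq {u u' r : L × L} (h : hC.lab u = hC.lab u') (x : L) :
    hC.sg (hC.eps_mem u r) x = hC.sg (hC.eps_mem u' r) x := by
  have h1 := hC.sg_eps_apply u r ((hC.lab r).symm x)
  have h2 := hC.sg_eps_apply u' r ((hC.lab r).symm x)
  rw [RingEquiv.apply_symm_apply] at h1 h2
  rw [h1, h2, h]

/-- A third row with the same label. -/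
theorem exists_third (hsum : hC.HSum) (hW : wg G a t ≠ ⊥) {u r : L × L} (hu : u ≠ 0) (hr : r ≠ 0) :
    ∃ x : L × L, hC.lab x = hC.lab r ∧ dt x u ≠ 0 ∧ dt x r ≠ 0 := by
  obtain ⟨w, hw, hw1⟩ := (Subgroup.ne_bot_iff_exists_ne_one.1 hW) |> fun ⟨⟨w, hw⟩, h⟩ =>
    (⟨w, hw, fun e => h (Subtype.ext e)⟩ : ∃ w, w ∈ wg G a t ∧ w ≠ 1)
  have hv := hC.m.ctx.wg_le_vg hw
  have hline : ∀ {v : L × L}, v ≠ 0 → dt (hC.Psi hv v) v ≠ 0 := fun {v} hv0 e => by
    obtain ⟨l, hl⟩ := eq_smul_of_dt hv0 e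
    exact hw1 (hC.eq_one_of_line hw hv0 hl)
  have hlab : ∀ {v : L × L}, v ≠ 0 → hC.lab (hC.Psi hv v) = hC.lab v := fun {v} hv0 =>
    RingEquiv.ext fun x => hC.lab_wg hsum hw hv0 x
  set r1 := hC.Psi hv r with hr1
  have hr10 : r1 ≠ 0 := (ne_zero_of_dt (hline hr)).1
  set r2 := hC.Psi hv r1 with hr2
  by_cases h1 : dt r1 u = 0
  · refine ⟨r2, by rw [hr2, hlab hr10, hr1, hlab hr], ?_, ?_⟩
    · intro h2
      obtain ⟨l1, e1⟩ := eq_smul_of_dt hu h1
      obtain ⟨l2, e2⟩ := eq_smul_of_dt hu h2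
      exact hline hr10 (by rw [← hr2, e2, e1, dt_smul_left, dt_smul_right, dt_self, mul_zero, mul_zero])
    · rw [hr2, hr1, hC.Psi_wg hw, hC.Psi_wg hw, vm_sq, dt_add_left, dt_smul_left, dt_self, add_zero,
        ← hC.Psi_wg hw]
      exact mul_ne_zero (no_eigen_b (hC.no_eigen hw hw1)).2 (hline hr)
  · exact ⟨r1, hlab hr, h1, hline hr⟩

/-- The scale-free coordinate is constant on each label class. -/
theorem Gf_const (hsum : hC.HSum) (hW : wg G a t ≠ ⊥) {u r : L × L} (hu : u ≠ 0) (hr : r ≠ 0)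
    (h : hC.lab u = hC.lab r) : hC.Gf u = hC.Gf r := by
  by_cases hd : dt u r = 0
  · obtain ⟨l, rfl⟩ := eq_smul_of_dt hr hd
    exact hC.Gf_smul (fun e => hu (by rw [e, zero_smul])) hr
  obtain ⟨x, hx, hxu, hxr⟩ := hC.exists_third hsum hW hu hr
  have key : ∀ {p q s : L × L}, dt p s ≠ 0 → dt q s ≠ 0 → hC.lab p = hC.lab s → hC.lab q = hC.lab s →
      hC.Gf p = hC.Gf q := by
    intro p q s hp hq e1 e2
    have := hC.inv_eq hsum hW hp hq
    have hS : ∀ {p : L × L}, dt p s ≠ 0 → hC.Sf p s ≠ 0 := fun hp =>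
      inv_ne_zero (mul_ne_zero (mul_ne_zero (hC.Φ_ne _) (hC.Φ_ne _)) (pow_ne_zero 2 hp))
    rw [hC.sg_eps_refl e1, hC.sg_eps_refl e2, mul_div_mul_right _ _ (hS hp), mul_div_mul_right _ _ (hS hq),
      div_eq_div_iff (hC.Gf_ne p) (hC.Gf_ne q)] at this
    exact (mul_left_cancel₀ (hC.Gf_ne s) this).symm
  have h1 : hC.Gf u = hC.Gf x := key hd hxr h hx
  have h2 : hC.Gf r = hC.Gf x := key (by rwa [dt_comm]) hxu h.symm (hx.trans h.symm)
  rw [h1, h2]

/-- All rows have the same label. -/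
theorem lab_const (hsum : hC.HSum) (hW : wg G a t ≠ ⊥) {f : ℕ} (hf2 : 2 ≤ f) (hf : Fintype.card L = 2 ^ f)
    {u r : L × L} (hu : u ≠ 0) (hr : r ≠ 0) : hC.lab u = hC.lab r := by
  classical
  by_contra hne
  set V := (Finset.univ : Finset (L × L)).filter (fun v => v ≠ 0) with hV
  set I := V.image hC.lab with hI
  have hIcard : I.card ≤ f := by
    haveI : Finite (L ≃+* L) := Finite.of_injective _ DFunLike.coe_injective
    haveI := Fintype.ofFinite (L ≃+* L)
    refine (Finset.card_le_univ I).trans ?_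
    rw [← Nat.card_eq_fintype_card]
    exact card_aut_le hf
  have hVcard : V.card + 1 = Fintype.card L ^ 2 := by
    rw [hV, Finset.filter_ne', Finset.card_erase_add_one (Finset.mem_univ _), Finset.card_univ,
      Fintype.card_prod, pow_two]
  have hu' : u ∈ V := by simp [hV, hu]
  obtain ⟨c, hc, hmax⟩ := Finset.exists_max_image I (fun l => (V.filter fun v => hC.lab v = l).card)
    ⟨_, Finset.mem_image_of_mem _ hu'⟩
  obtain ⟨u0, hu0, rfl⟩ := Finset.mem_image.1 hc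
  rw [hV, Finset.mem_filter] at hu0
  obtain ⟨r0, hr0, hr0c⟩ : ∃ r0 : L × L, r0 ≠ 0 ∧ hC.lab r0 ≠ hC.lab u0 := by
    by_cases h : hC.lab u = hC.lab u0
    · exact ⟨r, hr, fun e => hne (h.trans e.symm)⟩
    · exact ⟨u, hu, h⟩
  obtain ⟨r1, hr1, hr10, -⟩ := hC.exists_third hsum hW hr0 hr0
  have hdif : ∀ {x s : L × L}, x ≠ 0 → s ≠ 0 → hC.lab x ≠ hC.lab s → dt x s ≠ 0 := by
    intro x s hx hs hlab e
    obtain ⟨l, rfl⟩ := eq_smul_of_dt hs e
    refine hlab (RingEquiv.ext fun y => ?_)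
    exact congrArg (fun σ : L ≃+* L => σ y)
      (hC.sg_congr _ _ (hC.smul_row (fun e => hx (by rw [e, zero_smul])) hs).2.1)
  have hr1z := (ne_zero_of_dt hr10).1
  set σ := hC.sg (hC.eps_mem u0 r0) with hσ
  have hσne : σ ≠ RingEquiv.refl L := by
    intro e
    refine hr0c (RingEquiv.ext fun x => ?_)
    have h : σ (hC.lab r0 x) = hC.lab u0 x := hC.sg_eps_apply u0 r0 x
    rw [e] at h
    exact h
  set C := V.filter fun v => hC.lab v = hC.lab u0 with hCdef
  set K := {x : L // σ x = x}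
  haveI : Fintype K := Fintype.ofFinite K
  have hmem : ∀ {x : L × L}, x ∈ C → x ≠ 0 ∧ hC.lab x = hC.lab u0 := fun {x} hx => by
    simp only [hCdef, hV, Finset.mem_filter] at hx
    exact ⟨hx.1.2, hx.2⟩
  have hd : ∀ {x : L × L}, x ∈ C → dt x r0 ≠ 0 ∧ dt x r1 ≠ 0 := fun {x} hx =>
    ⟨hdif (hmem hx).1 hr0 (by rw [(hmem hx).2]; exact hr0c.symm),
      hdif (hmem hx).1 hr1z (by rw [(hmem hx).2, hr1]; exact hr0c.symm)⟩
  have hu0C : u0 ∈ C := by simp [hCdef, hV, hu0.2]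
  set cr : L × L → L := fun x => dt u0 r0 * dt x r1 / (dt x r0 * dt u0 r1) with hcr
  have hfix : ∀ {x : L × L}, x ∈ C → σ (cr x) = cr x := by
    intro x hx
    have hrat : ∀ {s : L × L}, hC.lab s = hC.lab r0 → dt u0 s ≠ 0 → dt x s ≠ 0 →
        σ (hC.Sf u0 s / hC.Sf x s) = hC.Sf u0 s / hC.Sf x s := by
      intro s hs h1 h2
      have h := hC.inv_eq hsum hW h1 h2
      have hσs : ∀ y, hC.sg (hC.eps_mem u0 s) y = σ y := fun y => by
        have e1 := hC.sg_eps_apply u0 s ((hC.lab s).symm y)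
        have e2 := hC.sg_eps_apply u0 r0 ((hC.lab s).symm y)
        rw [← hs, RingEquiv.apply_symm_apply] at e2
        rw [RingEquiv.apply_symm_apply] at e1
        rw [e1, hσ, e2]
      rw [← hC.sg_eps_eq (hmem hx).2.symm, hσs, hσs, hC.Gf_const hsum hW (hmem hx).1 hu0.2 (hmem hx).2,
        map_mul, map_mul] at h
      have hS1 : hC.Sf u0 s ≠ 0 := inv_ne_zero (mul_ne_zero (mul_ne_zero (hC.Φ_ne _) (hC.Φ_ne _)) (pow_ne_zero 2 h1))
      have hS2 : hC.Sf x s ≠ 0 := inv_ne_zero (mul_ne_zero (mul_ne_zero (hC.Φ_ne _) (hC.Φ_ne _)) (pow_ne_zero 2 h2))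
      have hS2' : σ (hC.Sf x s) ≠ 0 := by simpa using hS2
      have hG : σ (hC.Gf s) ≠ 0 := by simpa using hC.Gf_ne s
      have hG' := hC.Gf_ne u0
      rw [map_div₀]
      field_simp at h ⊢
      linear_combination h
    have e0 := hrat rfl (hd hu0C).1 (hd hx).1
    have e1 := hrat hr1 (hd hu0C).2 (hd hx).2
    have hsq : cr x ^ 2 = (hC.Sf u0 r1 / hC.Sf x r1) / (hC.Sf u0 r0 / hC.Sf x r0) := by
      have := hC.Φ_ne u0
      have := hC.Φ_ne x
      have := hC.Φ_ne r0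
      have := hC.Φ_ne r1
      have := (hd hu0C).1
      have := (hd hu0C).2
      have := (hd hx).1
      have := (hd hx).2
      simp only [hcr, Sf]
      field_simp
    have h2 : σ (cr x) ^ 2 = cr x ^ 2 := by rw [← map_pow, hsq, map_div₀, e0, e1]
    exact sq_inj h2
  let F : C → {y : K // (y : L) ≠ 0} × {y : L // y ≠ 0} := fun x =>
    (⟨⟨cr x.1, hfix x.2⟩, div_ne_zero (mul_ne_zero (hd hu0C).1 (hd x.2).2) (mul_ne_zero (hd x.2).1 (hd hu0C).2)⟩,
      ⟨dt x.1 r0, (hd x.2).1⟩)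
  have hinj : Function.Injective F := by
    intro x y e
    have e1 : cr x.1 = cr y.1 := congrArg (fun p => ((p.1.1 : K) : L)) e
    have e2 : dt x.1 r0 = dt y.1 r0 := congrArg (fun p => (p.2 : L)) e
    have e3 : dt x.1 r1 = dt y.1 r1 := by
      simp only [hcr, e2] at e1
      have := (hd y.2).1
      have := (hd hu0C).1
      have := (hd hu0C).2
      field_simp at e1
      linear_combination e1
    obtain ⟨l, hl⟩ := eq_smul_of_dt (u := x.1 + y.1) hr0 (by rw [dt_add_left, e2, CharTwo.add_self_eq_zero])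
    have h0 : dt (x.1 + y.1) r1 = 0 := by rw [dt_add_left, e3, CharTwo.add_self_eq_zero]
    rw [hl, dt_smul_left] at h0
    rw [(mul_eq_zero.1 h0).resolve_right (by rwa [dt_comm]), zero_smul] at hl
    apply Subtype.ext
    ext
    · exact CharTwo.add_eq_zero.1 (congrArg Prod.fst hl)
    · exact CharTwo.add_eq_zero.1 (congrArg Prod.snd hl)
  have hbound := Fintype.card_le_of_injective F hinj
  have hL0 : Fintype.card {y : L // y ≠ 0} = Fintype.card L - 1 := by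
    rw [← Fintype.card_subtype_eq (0 : L)]
    exact Fintype.card_subtype_compl _
  have hK0 : Fintype.card {y : K // (y : L) ≠ 0} = Fintype.card K - 1 := by
    rw [← show Fintype.card {y : K // (y : L) = 0} = 1 from Fintype.card_eq_one_iff.2
      ⟨⟨⟨0, map_zero σ⟩, rfl⟩, fun y => Subtype.ext (Subtype.ext y.2)⟩]
    exact Fintype.card_subtype_compl _
  rw [Fintype.card_prod, Fintype.card_coe, hL0, hK0] at hbound
  have hsplit : V.card ≤ I.card * C.card := by
    rw [Finset.card_eq_sum_card_image hC.lab V]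
    exact (Finset.sum_le_card_nsmul _ _ _ hmax).trans_eq (smul_eq_mul _ _)
  have hk := card_fix_cube hσne hC.m.ctx.odd_vg (hC.sg_period (hC.eps_mem u0 r0))
  rw [Nat.card_eq_fintype_card, hf] at hk
  rw [hf] at hbound hVcard
  refine not_two_pow_bound hf2 hk ?_
  have hK1 : Fintype.card K - 1 ≤ Fintype.card K := Nat.sub_le _ _
  have h4 : V.card ≤ f * Fintype.card K * (2 ^ f - 1) := calc
    V.card ≤ I.card * C.card := hsplit
    _ ≤ f * ((Fintype.card K - 1) * (2 ^ f - 1)) := Nat.mul_le_mul hIcard hbound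
    _ ≤ f * (Fintype.card K * (2 ^ f - 1)) := Nat.mul_le_mul_left _ (Nat.mul_le_mul_right _ hK1)
    _ = _ := by ring
  obtain ⟨w, hw⟩ : ∃ w, 2 ^ f = w + 1 := ⟨2 ^ f - 1, by have := Nat.one_le_two_pow (n := f); omega⟩
  rw [hw, Nat.add_sub_cancel] at h4
  rw [hw] at hVcard
  have hwpos : 0 < w := by
    have : 2 ^ 2 ≤ 2 ^ f := Nat.pow_le_pow_right (show 0 < 2 by norm_num) hf2
    omega
  rw [hw]
  have hVw : V.card = w * (w + 2) := by nlinarith
  rw [hVw] at h4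
  refine Nat.le_of_mul_le_mul_right ?_ hwpos
  nlinarith

/-- `V` centralises `Z`. -/
theorem vg_eq_wg (hsum : hC.HSum) (hW : wg G a t ≠ ⊥) {f : ℕ} (hf2 : 2 ≤ f) (hf : Fintype.card L = 2 ^ f) :
    vg G a t = wg G a t := by
  refine le_antisymm (fun x hx => hC.sep_wg hx fun ψ hψ => ?_) hC.m.ctx.wg_le_vg
  have : ψ = 1 := hC.gen hsum ψ fun u r h => hψ _ ?_
  · rw [this, MonoidHom.one_apply]
  · obtain ⟨hu, hr⟩ := ne_zero_of_dt (by rw [h]; exact one_ne_zero : dt u r ≠ 0)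
    have hl := hC.lab_const hsum hW hf2 hf hu hr
    refine Subgroup.mem_inf.2 ⟨hC.m.ctx.vg_le (hC.eps_mem u r), Subgroup.mem_centralizer_iff.2 fun s hs => ?_⟩
    obtain ⟨x, hx⟩ := (hC.m.coord.mem_zp s).1 (hC.m.ctx.mem_zg.2 (Or.inr hs))
    have := hC.sg_z (hC.eps_mem u r) x
    rw [hC.sg_eps_refl hl, mul_inv_eq_iff_eq_mul, hx] at this
    exact this.symm

end CSet

end Cfsg.Agent.Lie.R1C
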