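import Cfsg.Agent.Lib.Lie.SplitRankOne.SmallS

/-!
Coordinates on `Q` outside `Z` by the linear group, when the linear group is regular off the orbit of the base
point.
-/

set_option autoImplicit false
set_option linter.unusedSectionVars false
set_option linter.unusedSimpArgs false
set_option linter.style.haveILetI false

namespace Cfsg.Agent.Lie.R1C

open Cfsg MulAction Matrix
open Cfsg.Agent.Lie.R1 (D tt t_inv tDt)
open scoped MatrixGroups

section Vec

variable {L : Type} [Field L] [CharP L 2]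

/-- The first row. -/
def top (A : SL(2, L)) : L × L := (A.1 0 0, A.1 0 1)

/-- The second row. -/
def bot (A : SL(2, L)) : L × L := (A.1 1 0, A.1 1 1)

/-- The determinant of two rows. -/
def dt (u r : L × L) : L := u.1 * r.2 + u.2 * r.1

/-- A row times a matrix. -/
def vm (r : L × L) (P : SL(2, L)) : L × L := (r.1 * P.1 0 0 + r.2 * P.1 1 0, r.1 * P.1 0 1 + r.2 * P.1 1 1)

/-- A field automorphism applied to a row. -/
def sm (σ : L ≃+* L) (r : L × L) : L × L := (σ r.1, σ r.2)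

theorem dt_top_bot (A : SL(2, L)) : dt (top A) (bot A) = 1 := det_eq A

theorem bot_ne (A : SL(2, L)) : bot A ≠ 0 := fun h => by
  have := dt_top_bot A
  simp [h, dt] at this

theorem ext_rows {A B : SL(2, L)} (h1 : top A = top B) (h2 : bot A = bot B) : A = B :=
  sl_ext (congrArg Prod.fst h1) (congrArg Prod.snd h1) (congrArg Prod.fst h2) (congrArg Prod.snd h2)

/-- The matrix with given rows. -/
def mk2 (u r : L × L) (h : dt u r = 1) : SL(2, L) :=
  ⟨!![u.1, u.2; r.1, r.2], by rw [Matrix.det_fin_two]; simpa [CharTwo.sub_eq_add, dt] using h⟩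

@[simp] theorem top_mk2 (u r : L × L) (h : dt u r = 1) : top (mk2 u r h) = u := rfl

@[simp] theorem bot_mk2 (u r : L × L) (h : dt u r = 1) : bot (mk2 u r h) = r := rfl

theorem top_z (x : L) (A : SL(2, L)) : top (zmat x * A) = top A + x • bot A := by
  obtain ⟨h1, h2, -, -⟩ := zmat_mul_apply x A
  exact Prod.ext h1 h2

theorem bot_z (x : L) (A : SL(2, L)) : bot (zmat x * A) = bot A := by
  obtain ⟨-, -, h3, h4⟩ := zmat_mul_apply x A
  exact Prod.ext h3 h4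

theorem top_k {x : L} (hx : x ≠ 0) (A : SL(2, L)) : top (kmat x * A) = x • top A := by
  obtain ⟨h1, h2, -, -⟩ := kmat_mul_apply hx A
  exact Prod.ext h1 h2

theorem bot_k {x : L} (hx : x ≠ 0) (A : SL(2, L)) : bot (kmat x * A) = x⁻¹ • bot A := by
  obtain ⟨-, -, h3, h4⟩ := kmat_mul_apply hx A
  exact Prod.ext h3 h4

theorem top_t (A : SL(2, L)) : top (tmat * A) = bot A := by
  obtain ⟨h1, h2, -, -⟩ := tmat_mul_apply A
  exact Prod.ext h1 h2

theorem bot_t (A : SL(2, L)) : bot (tmat * A) = top A := by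
  obtain ⟨-, -, h3, h4⟩ := tmat_mul_apply A
  exact Prod.ext h3 h4

theorem top_mul (A P : SL(2, L)) : top (A * P) = vm (top A) P := by
  simp [top, vm, Matrix.SpecialLinearGroup.coe_mul, Matrix.mul_apply, Fin.sum_univ_two]

theorem bot_mul (A P : SL(2, L)) : bot (A * P) = vm (bot A) P := by
  simp [bot, vm, Matrix.SpecialLinearGroup.coe_mul, Matrix.mul_apply, Fin.sum_univ_two]

/-- A field automorphism applied to a matrix. -/
def mapσ (σ : L ≃+* L) : SL(2, L) →* SL(2, L) := Matrix.SpecialLinearGroup.map σ.toRingHom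

theorem top_map (σ : L ≃+* L) (A : SL(2, L)) : top (mapσ σ A) = sm σ (top A) := rfl

theorem bot_map (σ : L ≃+* L) (A : SL(2, L)) : bot (mapσ σ A) = sm σ (bot A) := rfl

theorem exists_z {A B : SL(2, L)} (h : bot A = bot B) : ∃ x, B = zmat x * A := by
  refine ⟨dt (top A) (top B), ext_rows ?_ (by rw [bot_z, h])⟩
  rw [top_z]
  have h1 := dt_top_bot A
  have h2 := dt_top_bot B
  rw [← h] at h2
  generalize top A = u, top B = u', bot A = r at h1 h2
  obtain ⟨u1, u2⟩ := u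
  obtain ⟨v1, v2⟩ := u'
  obtain ⟨r1, r2⟩ := r
  simp only [dt] at h1 h2 ⊢
  have h3 : (2 : L) = 0 := CharTwo.two_eq_zero
  ext <;> simp
  · linear_combination (-v1) * h1 + u1 * h2 - (u1 * r1 * v2) * h3
  · linear_combination (-v2) * h1 + u2 * h2 - (u2 * v1 * r2) * h3

theorem exists_mat {r : L × L} (hr : r ≠ 0) : ∃ A : SL(2, L), bot A = r := by
  obtain ⟨r1, r2⟩ := r
  by_cases h : r2 = 0
  · subst h
    have h1 : r1 ≠ 0 := fun h => hr (by simp [h])
    exact ⟨mk2 (0, r1⁻¹) (r1, 0) (by simp [dt, h1]), rfl⟩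
  · exact ⟨mk2 (r2⁻¹, 0) (r1, r2) (by simp [dt, h]), rfl⟩

theorem mul_sm_bruhat {M : Type*} [Monoid M] {f f' : SL(2, L) →* M} (hz : ∀ x, f (zmat x) = f' (zmat x))
    (hk : ∀ x, x ≠ 0 → f (kmat x) = f' (kmat x)) (ht : f tmat = f' tmat) (A : SL(2, L)) : f A = f' A := by
  by_cases hc : A.1 1 0 = 0
  · obtain ⟨ha, hA⟩ := bruhat_small hc
    rw [hA, map_mul, map_mul, hz, hk _ ha]
  · rw [bruhat_big hc]
    simp only [map_mul, hz, hk _ (inv_ne_zero hc), ht]

end Vec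

variable {G Ω : Type*} [Group G] [MulAction G Ω] [Finite G] {a : Ω} {t : G} {Q : Subgroup G} {L : Type} [Field L]
  [Fintype L] [CharP L 2] {zp kp : L → G} {x0 : Ω}

/-- The setting of the case `|Q| = q ^ 3`. -/
structure CSet (G : Type*) {Ω : Type*} [Group G] [MulAction G Ω] (a : Ω) (t : G) (Q : Subgroup G) (L : Type)
    [Field L] [Fintype L] [CharP L 2] (zp kp : L → G) (x0 : Ω) : Prop where
  m : MCtx G a t Q L zp kp
  notin : ¬ m.inB x0
  cardQ : Nat.card Q = Fintype.card L ^ 3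
  sq_mem : ∀ x ∈ Q, x * x ∈ zg G a

namespace CSet

variable (hC : CSet G a t Q L zp kp x0)

include hC

theorem mg_notin (A : SL(2, L)) : ¬ hC.m.inB (hC.m.mg A • x0) := fun h => hC.notin ((hC.m.inB_smul A).1 h)

theorem mg_inj {A B : SL(2, L)} (h : hC.m.mg A • x0 = hC.m.mg B • x0) : A = B := by
  by_contra hne
  refine hC.notin (hC.m.semireg (A := B⁻¹ * A) (fun e => hne (inv_mul_eq_one.1 e).symm) ?_)
  rw [map_mul, mul_smul, h, map_inv, inv_smul_smul]

theorem mg_surj {b : Ω} (hb : ¬ hC.m.inB b) : ∃ A, hC.m.mg A • x0 = b := by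
  classical
  haveI := R1.finite_Ω hC.m.ctx.hS
  let f : SL(2, L) → {b : Ω // ¬ hC.m.inB b} := fun A => ⟨hC.m.mg A • x0, hC.mg_notin A⟩
  have hinj : Function.Injective f := fun A B e => hC.mg_inj (congrArg Subtype.val e)
  have hB : Nat.card {b : Ω // hC.m.inB b} = Fintype.card L + 1 := by
    rw [← Nat.card_eq_fintype_card, ← Finite.card_option]
    refine (Nat.card_eq_of_bijective (fun o : Option L => o.elim (⟨a, Or.inl rfl⟩ : {b : Ω // hC.m.inB b})
      (fun x => ⟨zp x • (t • a), Or.inr ⟨x, rfl⟩⟩)) ⟨?_, ?_⟩).symm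
    · have hne : ∀ x, zp x • (t • a) ≠ a := fun x h => R1.ta_ne hC.m.ctx.hS (MulAction.injective (zp x)
        (h.trans (R1.fix_a hC.m.ctx.hS (hC.m.ctx.zg_le_Q (hC.m.coord.zp_mem hC.m.ctx x))).symm))
      rintro (_ | x) (_ | y) e
      · rfl
      · exact absurd (congrArg Subtype.val e).symm (hne y)
      · exact absurd (congrArg Subtype.val e) (hne x)
      · exact congrArg some (hC.m.coord.zp_inj (R1.q_unique hC.m.ctx.hS (hC.m.ctx.zg_le_Q (hC.m.coord.zp_mem hC.m.ctx x))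
          (hC.m.ctx.zg_le_Q (hC.m.coord.zp_mem hC.m.ctx y)) (congrArg Subtype.val e)))
    · rintro ⟨b, rfl | ⟨x, rfl⟩⟩
      exacts [⟨none, rfl⟩, ⟨some x, rfl⟩]
  have hsum : Nat.card Ω = Nat.card {b : Ω // hC.m.inB b} + Nat.card {b : Ω // ¬ hC.m.inB b} := by
    rw [← Nat.card_sum]; exact Nat.card_congr (Equiv.sumCompl _).symm
  rw [hB, R1.card_Ω hC.m.ctx.hS, hC.cardQ] at hsum
  have hcard : Nat.card SL(2, L) = Nat.card {b : Ω // ¬ hC.m.inB b} := by
    rw [Small.SL2C.card_SL2]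
    set q := Fintype.card L
    obtain ⟨w, hw⟩ : ∃ w, q ^ 2 = w + 1 := ⟨q ^ 2 - 1, by
      have : 0 < q ^ 2 := by have := Fintype.card_pos (α := L); positivity
      omega⟩
    rw [hw, Nat.add_sub_cancel]
    rw [pow_succ, hw] at hsum
    nlinarith
  obtain ⟨A, hA⟩ := ((Nat.bijective_iff_injective_and_card f).2 ⟨hinj, hcard⟩).2 ⟨b, hb⟩
  exact ⟨A, congrArg Subtype.val hA⟩

/-- The element of `Q` attached to a matrix. -/
noncomputable def elt (A : SL(2, L)) : G :=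
  (R1.exists_q hC.m.ctx.hS (b := hC.m.mg A • x0) fun h => hC.mg_notin A (Or.inl h)).choose

theorem elt_mem (A : SL(2, L)) : hC.elt A ∈ Q :=
  (R1.exists_q hC.m.ctx.hS (b := hC.m.mg A • x0) fun h => hC.mg_notin A (Or.inl h)).choose_spec.1

theorem elt_smul (A : SL(2, L)) : hC.elt A • (t • a) = hC.m.mg A • x0 :=
  (R1.exists_q hC.m.ctx.hS (b := hC.m.mg A • x0) fun h => hC.mg_notin A (Or.inl h)).choose_spec.2

theorem elt_eq {A : SL(2, L)} {x : G} (hx : x ∈ Q) (h : x • (t • a) = hC.m.mg A • x0) : hC.elt A = x :=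
  R1.q_unique hC.m.ctx.hS (hC.elt_mem A) hx ((hC.elt_smul A).trans h.symm)

theorem elt_not_zg (A : SL(2, L)) : hC.elt A ∉ zg G a := fun h => hC.mg_notin A (by
  obtain ⟨x, hx⟩ := (hC.m.coord.mem_zp _).1 h
  exact Or.inr ⟨x, by rw [hx, hC.elt_smul]⟩)

theorem elt_ne (A : SL(2, L)) : hC.elt A ≠ 1 := fun h => hC.elt_not_zg A (h ▸ one_mem _)

theorem elt_inj {A B : SL(2, L)} (h : hC.elt A = hC.elt B) : A = B :=
  hC.mg_inj (by rw [← hC.elt_smul, h, hC.elt_smul])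

theorem elt_surj {x : G} (hx : x ∈ Q) (hxZ : x ∉ zg G a) : ∃ A, hC.elt A = x := by
  obtain ⟨A, hA⟩ := hC.mg_surj (b := x • (t • a)) fun h => by
    rcases h with h | ⟨y, hy⟩
    · exact R1.ta_ne hC.m.ctx.hS (MulAction.injective x (h.trans (R1.fix_a hC.m.ctx.hS hx).symm))
    · exact hxZ (R1.q_unique hC.m.ctx.hS hx (hC.m.ctx.zg_le_Q (hC.m.coord.zp_mem hC.m.ctx y)) hy ▸
        hC.m.coord.zp_mem hC.m.ctx y)
  exact ⟨A, hC.elt_eq hx hA.symm⟩

theorem elt_z (x : L) (A : SL(2, L)) : hC.elt (zmat x * A) = zp x * hC.elt A := by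
  refine hC.elt_eq (mul_mem (hC.m.ctx.zg_le_Q (hC.m.coord.zp_mem hC.m.ctx x)) (hC.elt_mem A)) ?_
  rw [mul_smul, hC.elt_smul, map_mul, hC.m.mg_z, mul_smul]

theorem elt_k {x : L} (hx : x ≠ 0) (A : SL(2, L)) : hC.elt (kmat x * A) = kp x * hC.elt A * (kp x)⁻¹ := by
  have hk := hC.m.coord.kp_mem hC.m.ctx hx
  refine hC.elt_eq (R1.conj_Q hC.m.ctx.hS (hC.m.ctx.kg_fix hk) (hC.elt_mem A)) ?_
  rw [mul_smul, show (kp x)⁻¹ • (t • a) = t • a from (Subgroup.mem_inf.1 (inv_mem (hC.m.ctx.kg_le hk))).2,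
    mul_smul, hC.elt_smul, map_mul, hC.m.mg_k hx, mul_smul]

theorem elt_t (A : SL(2, L)) : hC.elt (tmat * A) = gc hC.m.ctx.hS (hC.elt A) := by
  have hS := hC.m.ctx.hS
  have hx := hC.elt_mem A
  have hx1 := hC.elt_ne A
  refine hC.elt_eq (gc_mem hS hx hx1) ?_
  rw [map_mul, hC.m.mg_t, mul_smul, ← hC.elt_smul, smul_smul t, smul_smul (t * _),
    coords_eq hS hx hx1]
  simp only [mul_smul, R1.fix_a hS (fc_mem hS hx hx1),
    show hc hS (hC.elt A) • (t • a) = t • a from (Subgroup.mem_inf.1 (hc_mem hS hx hx1)).2]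

theorem elt_gc (A : SL(2, L)) : gc hC.m.ctx.hS (hC.elt A) = hC.elt (tmat * A) := (hC.elt_t A).symm

/-- The coordinate of the square. -/
noncomputable def sqv (A : SL(2, L)) : L :=
  ((hC.m.coord.mem_zp _).1 (hC.sq_mem _ (hC.elt_mem A))).choose

theorem sqv_spec (A : SL(2, L)) : zp (hC.sqv A) = hC.elt A * hC.elt A :=
  ((hC.m.coord.mem_zp _).1 (hC.sq_mem _ (hC.elt_mem A))).choose_spec

theorem sqv_ne (A : SL(2, L)) : hC.sqv A ≠ 0 := fun h => hC.elt_not_zg A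
  (hC.m.ctx.mem_zg_of_sq (hC.m.ctx.hS.le (hC.elt_mem A)) (by rw [← hC.sqv_spec, h, hC.m.coord.zp_zero hC.m.ctx]))

theorem elt_inv (A : SL(2, L)) : (hC.elt A)⁻¹ = hC.elt (zmat (hC.sqv A) * A) := by
  have h2 := hC.m.ctx.zg_sq (hC.m.coord.zp_mem hC.m.ctx (hC.sqv A))
  refine inv_eq_of_mul_eq_one_right ?_
  rw [hC.elt_z, ← mul_assoc, ← hC.m.ctx.zg_central (hC.m.coord.zp_mem hC.m.ctx _) (hC.elt_mem A), mul_assoc,
    ← hC.sqv_spec, h2]

theorem sqv_z (x : L) (A : SL(2, L)) : hC.sqv (zmat x * A) = hC.sqv A := by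
  refine hC.m.coord.zp_inj ?_
  have hz := hC.m.coord.zp_mem hC.m.ctx x
  rw [hC.sqv_spec, hC.sqv_spec, hC.elt_z, mul_assoc, ← mul_assoc (hC.elt A),
    ← hC.m.ctx.zg_central hz (hC.elt_mem A), mul_assoc (zp x), ← mul_assoc, hC.m.ctx.zg_sq hz, one_mul]

theorem sqv_k {x : L} (hx : x ≠ 0) (A : SL(2, L)) : hC.sqv (kmat x * A) = x ^ 2 * hC.sqv A := by
  refine hC.m.coord.zp_inj ?_
  rw [hC.sqv_spec, hC.elt_k hx, ← hC.m.coord.conj _ _ hx, hC.sqv_spec]
  group

theorem fc_elt (A : SL(2, L)) :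
    fc hC.m.ctx.hS (hC.elt A) =
      hC.elt (zmat (hC.sqv (tmat * (zmat (hC.sqv A) * A))) * (tmat * (zmat (hC.sqv A) * A))) := by
  rw [← hC.elt_inv, hC.elt_t, ← hC.elt_inv, (coords_inv hC.m.ctx.hS (hC.elt_mem A) (hC.elt_ne A)).1, inv_inv]

/-- A representative in `Q` of the chosen point. -/
noncomputable def base : G := hC.elt 1 * t

theorem base_smul : hC.base • a = x0 := by
  rw [base, mul_smul, hC.elt_smul, map_one, one_smul]

theorem exists_gam (A : SL(2, L)) :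
    ∃ d, d ∈ D G a t ∧ ∃ q ∈ Q, hC.m.mg A * hC.base = hC.elt A * t * d * q := by
  have hfix : ((hC.elt A * t)⁻¹ * (hC.m.mg A * hC.base)) • a = a := by
    rw [mul_smul, mul_smul (hC.m.mg A), hC.base_smul, inv_smul_eq_iff, mul_smul, hC.elt_smul]
  obtain ⟨q, hq, d, hd, e⟩ := R1.mem_sup hC.m.ctx.hS hfix
  refine ⟨d, hd, d⁻¹ * q * d, ?_, ?_⟩
  · have := R1.conj_Q hC.m.ctx.hS (Subgroup.mem_inf.1 (inv_mem hd)).1 hq
    simpa using this
  · rw [show hC.elt A * t * d * (d⁻¹ * q * d) = hC.elt A * t * (q * d) by group, ← e]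
    group

/-- The part in `D`. -/
noncomputable def gam (A : SL(2, L)) : G := (hC.exists_gam A).choose

theorem gam_mem (A : SL(2, L)) : hC.gam A ∈ D G a t := (hC.exists_gam A).choose_spec.1

theorem gam_eq {A : SL(2, L)} {d q : G} (hd : d ∈ D G a t) (hq : q ∈ Q)
    (h : hC.m.mg A * hC.base = hC.elt A * t * d * q) : hC.gam A = d := by
  obtain ⟨q', hq', e⟩ := (hC.exists_gam A).choose_spec.2
  change hC.m.mg A * hC.base = hC.elt A * t * hC.gam A * q' at e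
  rw [h, mul_assoc (hC.elt A * t) _ q, mul_assoc (hC.elt A * t) _ q', mul_left_cancel_iff] at e
  have hd' := hC.gam_mem A
  have e' : d * q * d⁻¹ * d = hC.gam A * q' * (hC.gam A)⁻¹ * hC.gam A := by simpa using e
  exact ((R1.D_unique hC.m.ctx.hS (R1.conj_Q hC.m.ctx.hS (Subgroup.mem_inf.1 hd).1 hq) hd
    (R1.conj_Q hC.m.ctx.hS (Subgroup.mem_inf.1 hd').1 hq') hd' e').2).symm

theorem gam_spec (A : SL(2, L)) : ∃ q ∈ Q, hC.m.mg A * hC.base = hC.elt A * t * hC.gam A * q :=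
  (hC.exists_gam A).choose_spec.2

theorem gam_z (x : L) (A : SL(2, L)) : hC.gam (zmat x * A) = hC.gam A := by
  obtain ⟨q, hq, e⟩ := hC.gam_spec A
  exact hC.gam_eq (hC.gam_mem A) hq (by rw [map_mul, hC.m.mg_z, mul_assoc, e, hC.elt_z]; simp only [mul_assoc])

theorem gam_k {x : L} (hx : x ≠ 0) (A : SL(2, L)) : hC.gam (kmat x * A) = (kp x)⁻¹ * hC.gam A := by
  obtain ⟨q, hq, e⟩ := hC.gam_spec A
  have hk := hC.m.coord.kp_mem hC.m.ctx hx
  refine hC.gam_eq (mul_mem (inv_mem (hC.m.ctx.kg_le hk)) (hC.gam_mem A)) hq ?_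
  rw [map_mul, hC.m.mg_k hx, mul_assoc, e, hC.elt_k hx, hC.m.coord.kp_inv hC.m.ctx hx]
  rw [show kp x * hC.elt A * kp x⁻¹ * t * (kp x⁻¹ * hC.gam A) = kp x * hC.elt A * (kp x⁻¹ * (t * kp x⁻¹)) * hC.gam A by
      group, hC.m.tk (inv_ne_zero hx), inv_inv, ← mul_assoc (kp x⁻¹), hC.m.kk (inv_ne_zero hx) hx,
    inv_mul_cancel₀ hx, hC.m.coord.kp_one hC.m.ctx, one_mul]
  simp only [mul_assoc]

theorem gam_t (A : SL(2, L)) :
    hC.gam (tmat * A) = t * hc hC.m.ctx.hS (hC.elt A) * t * hC.gam A := by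
  obtain ⟨q, hq, e⟩ := hC.gam_spec A
  have hS := hC.m.ctx.hS
  have hx := hC.elt_mem A
  have hx1 := hC.elt_ne A
  have hd := hC.gam_mem A
  refine hC.gam_eq (mul_mem (tDt hS (hc_mem hS hx hx1)) hd)
    (q := (hC.gam A)⁻¹ * fc hS (hC.elt A) * hC.gam A * q) (mul_mem ?_ hq) ?_
  · have := R1.conj_Q hS (Subgroup.mem_inf.1 (inv_mem hd)).1 (fc_mem hS hx hx1)
    simpa using this
  · rw [map_mul, hC.m.mg_t, mul_assoc, e, hC.elt_t,
      show t * (hC.elt A * t * hC.gam A * q) = (t * hC.elt A * t) * hC.gam A * q by group, coords_eq hS hx hx1]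
    simp only [mul_assoc, tt hS, mul_inv_cancel_left]

end CSet

end Cfsg.Agent.Lie.R1C
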