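import Cfsg.Agent.Lib.Lie.SplitRankOne.CubeClass
import Mathlib.RingTheory.AdjoinRoot

/-!
The quadratic extension carrying the form attached to `Φ`.
-/

set_option autoImplicit false
set_option linter.unusedSectionVars false
set_option linter.unusedSimpArgs false
set_option linter.style.haveILetI false

namespace Cfsg.Agent.Lie.R1C

open Cfsg MulAction Matrix Polynomial
open Cfsg.Agent.Lie.R1 (D tt t_inv tDt)
open scoped MatrixGroups

variable {G Ω : Type*} [Group G] [MulAction G Ω] [Finite G] {a : Ω} {t : G} {Q : Subgroup G}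
  {L : Type} [Field L] [Fintype L] [CharP L 2] {zp kp : L → G} {x0 : Ω}

/-- Rows as elements of a quadratic extension with `Φ` the inverse of the norm. -/
structure LMod (hC : CSet G a t Q L zp kp x0) (F : Type) [Field F] [Fintype F] (ι : L →+* F) (cj : F →+* F)
    (e : L × L → F) : Prop where
  charTwo : CharP F 2
  card : Fintype.card F = Fintype.card L ^ 2
  cj_pow : ∀ x, cj x = x ^ Fintype.card L
  cj_cj : ∀ x, cj (cj x) = x
  cj_ι : ∀ l, cj (ι l) = ι l
  fixed : ∀ x, cj x = x → ∃ l, ι l = x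
  e_add : ∀ u r, e (u + r) = e u + e r
  e_smul : ∀ (l : L) (r : L × L), e (l • r) = ι l * e r
  e_bij : Function.Bijective e
  tr : ∀ u r, ι (dt u r) = e u * cj (e r) + cj (e u) * e r
  nm : ∀ u, u ≠ 0 → e u * cj (e u) = ι (hC.Φ u)⁻¹

namespace CSet

variable [FaithfulSMul G Ω] (hC : CSet G a t Q L zp kp x0)

include hC

/-- The form in coordinates. -/
theorem form (hsum : hC.HSum) (hW : wg G a t ≠ ⊥) (x y : L) (h : (x, y) ≠ (0, 0)) :
    (hC.Φ (x, y))⁻¹ = (hC.Φ (1, 0))⁻¹ * x ^ 2 + x * y + (hC.Φ (0, 1))⁻¹ * y ^ 2 := by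
  by_cases hx : x = 0
  · subst hx
    have hy : y ≠ 0 := fun e => h (by rw [e])
    have hr : ((0 : L), (1 : L)) ≠ 0 := by simp
    have e := (hC.smul_row hy hr).2.2
    rw [show y • ((0 : L), (1 : L)) = (0, y) by simp] at e
    rw [e, inv_div]
    ring
  · have hd : dt ((1 : L), (0 : L)) (0, 1) = 1 := by simp [dt]
    have hq := hC.quad hsum hW hd (y / x)
    have hu0 : ((1 : L), (0 : L)) + (y / x) • ((0 : L), (1 : L)) ≠ 0 := by simp
    have e := (hC.smul_row hx hu0).2.2
    rw [show x • (((1 : L), (0 : L)) + (y / x) • ((0 : L), (1 : L))) = (x, y) by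
      ext <;> simp; field_simp] at e
    rw [e, inv_div, div_eq_mul_inv, hq]
    field_simp

theorem exists_lmod (hsum : hC.HSum) (hW : wg G a t ≠ ⊥) :
    ∃ (F : Type) (_ : Field F) (_ : Fintype F) (ι : L →+* F) (cj : F →+* F) (e : L × L → F),
      LMod hC F ι cj e := by
  classical
  set n1 := (hC.Φ (1, 0))⁻¹ with hn1
  set n2 := (hC.Φ (0, 1))⁻¹ with hn2
  have hn10 : n1 ≠ 0 := inv_ne_zero (hC.Φ_ne _)
  obtain ⟨μ, hμ⟩ := exists_sq n1
  have hμ0 : μ ≠ 0 := fun h => hn10 (by rw [← hμ, h]; ring)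
  set ν := n1 * n2 with hν
  have h2 : (2 : L) = 0 := CharTwo.two_eq_zero
  set P : L[X] := X ^ 2 + X + C ν with hP
  have hdeg : P.natDegree = 2 := by rw [hP]; compute_degree!
  have hirr : Irreducible P := by
    rw [Polynomial.irreducible_iff_roots_eq_zero_of_degree_le_three (by omega) (by omega)]
    refine Multiset.eq_zero_of_forall_notMem fun c hc => ?_
    have hc' : c ^ 2 + c + ν = 0 := by simpa [hP] using (Polynomial.mem_roots'.1 hc).2
    have hne : (c / μ, μ) ≠ ((0 : L), (0 : L)) := fun h => hμ0 (congrArg Prod.snd h)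
    have h := hC.form hsum hW (c / μ) μ hne
    rw [← hn1, ← hn2] at h
    refine inv_ne_zero (hC.Φ_ne (c / μ, μ)) ?_
    rw [h, ← hμ]
    field_simp
    linear_combination hc' + n2 * hμ
  haveI : Fact (Irreducible P) := ⟨hirr⟩
  let F := AdjoinRoot P
  let pb := AdjoinRoot.powerBasis hirr.ne_zero
  haveI : Module.Finite L F := pb.finite
  haveI : Finite F := Module.finite_of_finite L
  haveI : Fintype F := Fintype.ofFinite F
  let ι : L →+* F := algebraMap L F
  haveI : CharP F 2 := charP_of_injective_ringHom ι.injective 2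
  have h2F : (2 : F) = 0 := CharTwo.two_eq_zero
  have hcardF : Fintype.card F = Fintype.card L ^ 2 := by
    rw [Module.card_eq_pow_finrank (K := L) (V := F), pb.finrank, AdjoinRoot.powerBasis_dim, hdeg]
  set q := Fintype.card L with hq
  haveI : Fact (Nat.Prime 2) := ⟨Nat.prime_two⟩
  obtain ⟨k, hk⟩ : ∃ k : ℕ, q = 2 ^ k := by
    obtain ⟨n, -, hn⟩ := FiniteField.card L 2
    exact ⟨n, hn⟩
  let cj : F →+* F := iterateFrobenius F 2 k
  have hcj : ∀ x : F, cj x = x ^ q := fun x => by
    show iterateFrobenius F 2 k x = _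
    rw [iterateFrobenius_def, hk]
  have hι : ∀ l, cj (ι l) = ι l := fun l => by rw [hcj, ← map_pow, hq, FiniteField.pow_card]
  set z : F := AdjoinRoot.root P with hz
  have hroot : z ^ 2 + z + ι ν = 0 := by
    have := AdjoinRoot.eval₂_root P
    simp [hP] at this
    exact this
  have hfix : ∀ x : F, cj x = x → ∃ l, ι l = x := by
    intro x hx
    by_contra hne
    push Not at hne
    let T : Finset F := insert x ((Finset.univ : Finset L).image ι)
    have hT : T.card = q + 1 := by
      rw [Finset.card_insert_of_notMem (by simp [hne]), Finset.card_image_of_injective _ ι.injective,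
        Finset.card_univ]
    have hq1 : 1 < q := Fintype.one_lt_card
    have hne0 : (X ^ q - X : F[X]) ≠ 0 := FiniteField.X_pow_card_sub_X_ne_zero F hq1
    have hle : T ⊆ (X ^ q - X : F[X]).roots.toFinset := by
      intro y hy
      rw [Multiset.mem_toFinset, Polynomial.mem_roots hne0]
      simp only [Polynomial.IsRoot, eval_sub, eval_pow, eval_X, sub_eq_zero]
      rcases Finset.mem_insert.1 hy with rfl | hy
      · rw [← hcj, hx]
      · obtain ⟨l, -, rfl⟩ := Finset.mem_image.1 hy
        rw [← hcj, hι]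
    have := (Finset.card_le_card hle).trans ((Multiset.toFinset_card_le _).trans (Polynomial.card_roots' _))
    rw [hT, FiniteField.X_pow_card_sub_X_natDegree_eq F hq1] at this
    omega
  have hznot : ∀ l, ι l ≠ z := by
    intro l hl
    rw [← hl, ← map_pow, ← map_add, ← map_add, map_eq_zero] at hroot
    have hm : l ∈ P.roots := by
      rw [Polynomial.mem_roots hirr.ne_zero]
      simpa [hP] using hroot
    rw [(Polynomial.irreducible_iff_roots_eq_zero_of_degree_le_three (by omega) (by omega)).1 hirr] at hm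
    simp at hm
  have hcz : cj z = z + 1 := by
    have h := congrArg cj hroot
    rw [map_add, map_add, map_pow, hι, map_zero] at h
    have hfac : (cj z + z) * (cj z + z + 1) = 0 := by linear_combination h + hroot + (cj z * z - ι ν) * h2F
    rcases mul_eq_zero.1 hfac with h' | h'
    · obtain ⟨l, hl⟩ := hfix z (CharTwo.add_eq_zero.1 h')
      exact absurd hl (hznot l)
    · rw [add_assoc] at h'
      exact CharTwo.add_eq_zero.1 h'
  have hccz : cj (cj z) = z := by
    rw [hcz, map_add, map_one, hcz, add_assoc, CharTwo.add_self_eq_zero, add_zero]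
  let e : L × L → F := fun u => ι (μ * u.1) + ι (u.2 / μ) * z
  have hesmul : ∀ (l : L) (r : L × L), e (l • r) = ι l * e r := fun l r => by
    simp [e, mul_div_assoc, mul_comm, mul_left_comm]; ring
  have headd : ∀ u r, e (u + r) = e u + e r := fun u r => by simp [e, mul_add, add_div]; ring
  have hinj : Function.Injective e := by
    intro u r h
    have h' : ι (μ * (u.1 - r.1)) + ι ((u.2 - r.2) / μ) * z = 0 := by
      simp only [e, map_mul, map_div₀] at h
      simp only [map_mul, map_div₀, map_sub]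
      linear_combination h
    by_cases hs : u.2 - r.2 = 0
    · rw [hs, zero_div, map_zero, zero_mul, add_zero, map_eq_zero, mul_eq_zero] at h'
      exact Prod.ext (sub_eq_zero.1 (h'.resolve_left hμ0)) (sub_eq_zero.1 hs)
    · exfalso
      have hd : ι ((u.2 - r.2) / μ) ≠ 0 := (map_ne_zero ι).2 (div_ne_zero hs hμ0)
      refine hznot (-(μ * (u.1 - r.1)) / ((u.2 - r.2) / μ)) ?_
      rw [map_div₀, map_neg, div_eq_iff hd]
      linear_combination -h'
  have hbij : Function.Bijective e := (Fintype.bijective_iff_injective_and_card e).2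
    ⟨hinj, by rw [Fintype.card_prod, hcardF, pow_two]⟩
  refine ⟨F, inferInstance, inferInstance, ι, cj, e, inferInstance, hcardF, hcj, fun x => ?_, hι, hfix, headd,
    hesmul, hbij, fun u r => ?_, fun u hu => ?_⟩
  · obtain ⟨u, rfl⟩ := hbij.2 x
    simp only [e, map_add, map_mul, hι, hccz]
  · simp only [e, dt, map_add, map_mul, map_div₀, hι, hcz]
    have hμF : ι μ ≠ 0 := by simpa using hμ0
    rw [div_eq_mul_inv (ι u.2), div_eq_mul_inv (ι r.2)]
    linear_combination (-(ι u.1 * ι r.2 + ι u.2 * ι r.1)) * mul_inv_cancel₀ hμF -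
      (ι μ ^ 2 * ι u.1 * ι r.1 + ι μ * (ι μ)⁻¹ * z * (ι u.1 * ι r.2 + ι u.2 * ι r.1) +
        ι u.2 * ι r.2 * (ι μ)⁻¹ ^ 2 * (z ^ 2 + z)) * h2F
  · have h := hC.form hsum hW u.1 u.2 (fun h => hu h)
    rw [← hn1, ← hn2] at h
    rw [show hC.Φ u = hC.Φ (u.1, u.2) from rfl, h]
    simp only [e, map_add, map_mul, map_pow, map_div₀, hι, hcz]
    have hμF : ι μ ≠ 0 := by simpa using hμ0
    have hν' : ι ν = ι n1 * ι n2 := by rw [hν, map_mul]
    have hn1' : ι n1 = ι μ ^ 2 := by rw [← hμ, map_pow]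
    rw [hn1']
    rw [hn1'] at hν'
    rw [div_eq_mul_inv (ι u.2)]
    linear_combination (ι u.2 ^ 2 * (ι μ)⁻¹ ^ 2) * hroot - (ι u.2 ^ 2 * (ι μ)⁻¹ ^ 2) * hν' +
      (ι u.1 * ι u.2 - ι u.2 ^ 2 * (ι μ * (ι μ)⁻¹ + 1) * ι n2) * mul_inv_cancel₀ hμF +
      (ι μ * (ι μ)⁻¹ * z * ι u.1 * ι u.2 - ι u.2 ^ 2 * ι n2) * h2F

end CSet

end Cfsg.Agent.Lie.R1C
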