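import Cfsg.Agent.Lib.Lie.SplitRankOne.CubeCoords

/-!
The functions of the second row and the action of `V` in the case `|Q| = q ^ 3`.
-/

set_option autoImplicit false
set_option linter.unusedSectionVars false
set_option linter.unusedSimpArgs false
set_option linter.style.haveILetI false

namespace Cfsg.Agent.Lie.R1C

open Cfsg MulAction Matrix
open Cfsg.Agent.Lie.R1 (D tt t_inv tDt)
open scoped MatrixGroups

variable {G Ω : Type*} [Group G] [MulAction G Ω] [Finite G] {a : Ω} {t : G} {Q : Subgroup G} {L : Type} [Field L]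
  [Fintype L] [CharP L 2] {zp kp : L → G} {x0 : Ω}

namespace CSet

/-- Some matrix with the given second row. -/
noncomputable def comp (r : L × L) : SL(2, L) :=
  letI := Classical.dec (r ≠ 0)
  if h : r ≠ 0 then (exists_mat h).choose else 1

theorem bot_comp {r : L × L} (hr : r ≠ 0) : bot (comp r) = r := by
  unfold comp
  rw [dif_pos hr]
  exact (exists_mat hr).choose_spec

variable (hC : CSet G a t Q L zp kp x0)

include hC

theorem exists_split (A : SL(2, L)) :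
    ∃ p : L × G, p.1 ≠ 0 ∧ p.2 ∈ vg G a t ∧ hC.gam A = kp p.1 * p.2 := by
  obtain ⟨v, hv, k, hk, e⟩ := hC.m.ctx.decomp (hC.gam_mem A)
  obtain ⟨x, hx, hxe⟩ := (hC.m.coord.mem_kp _).1 (hC.m.ctx.conj_kg (hC.m.ctx.vg_le hv) hk)
  exact ⟨(x, v), hx, hv, by rw [hxe, e]; group⟩

theorem split_unique {x y : L} {u v : G} (hx : x ≠ 0) (hy : y ≠ 0) (hu : u ∈ vg G a t) (hv : v ∈ vg G a t)
    (h : kp x * u = kp y * v) : x = y ∧ u = v := by
  have hc := hC.m.ctx
  have hkx := hC.m.coord.kp_mem hc hx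
  have hky := hC.m.coord.kp_mem hc hy
  have hk1 : u⁻¹ * kp x * u ∈ kg G a t := by simpa using hc.conj_kg (inv_mem (hc.vg_le hu)) hkx
  have hk2 : v⁻¹ * kp y * v ∈ kg G a t := by simpa using hc.conj_kg (inv_mem (hc.vg_le hv)) hky
  obtain ⟨h1, -⟩ := hc.decomp_unique hu hv hk1 hk2 (by
    rw [show u * (u⁻¹ * kp x * u) = kp x * u by group, h]; group)
  subst h1
  exact ⟨hC.m.coord.kp_inj _ _ hx hy (mul_right_cancel h), rfl⟩

/-- The torus coordinate. -/
noncomputable def γ (r : L × L) : L := (hC.exists_split (comp r)).choose.1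

/-- The coordinate in `V`. -/
noncomputable def F (r : L × L) : G := (hC.exists_split (comp r)).choose.2

/-- The square of the element, as a function of the second row. -/
noncomputable def Φ (r : L × L) : L := hC.sqv (comp r)

theorem γ_ne (r : L × L) : hC.γ r ≠ 0 := (hC.exists_split (comp r)).choose_spec.1

theorem F_mem (r : L × L) : hC.F r ∈ vg G a t := (hC.exists_split (comp r)).choose_spec.2.1

theorem gam_bot (A : SL(2, L)) : hC.gam A = kp (hC.γ (bot A)) * hC.F (bot A) := by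
  obtain ⟨x, hx⟩ := exists_z (A := comp (bot A)) (B := A) (bot_comp (bot_ne A))
  conv_lhs => rw [hx, hC.gam_z]
  exact (hC.exists_split (comp (bot A))).choose_spec.2.2

theorem sqv_bot (A : SL(2, L)) : hC.sqv A = hC.Φ (bot A) := by
  obtain ⟨x, hx⟩ := exists_z (A := comp (bot A)) (B := A) (bot_comp (bot_ne A))
  conv_lhs => rw [hx, hC.sqv_z]
  rfl

theorem Φ_ne (r : L × L) : hC.Φ r ≠ 0 := hC.sqv_ne _

theorem F_γ_eq {A : SL(2, L)} {x : L} {v : G} (hx : x ≠ 0) (hv : v ∈ vg G a t) (h : hC.gam A = kp x * v) :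
    hC.γ (bot A) = x ∧ hC.F (bot A) = v :=
  hC.split_unique (hC.γ_ne _) hx (hC.F_mem _) hv ((hC.gam_bot A).symm.trans h)

theorem smul_row {l : L} (hl : l ≠ 0) {r : L × L} (hr : r ≠ 0) :
    hC.γ (l • r) = l * hC.γ r ∧ hC.F (l • r) = hC.F r ∧ hC.Φ (l • r) = hC.Φ r / l ^ 2 := by
  obtain ⟨A, hA⟩ := exists_mat hr
  have hl' := inv_ne_zero hl
  have hb : bot (kmat l⁻¹ * A) = l • r := by rw [bot_k hl', inv_inv, hA]
  refine ⟨?_, ?_, ?_⟩
  · rw [← hb]
    refine (hC.F_γ_eq (mul_ne_zero hl (hC.γ_ne r)) (hC.F_mem r) ?_).1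
    rw [hC.gam_k hl', hC.m.coord.kp_inv hC.m.ctx hl', inv_inv, hC.gam_bot, hA, ← mul_assoc, hC.m.kk hl (hC.γ_ne r)]
  · rw [← hb]
    refine (hC.F_γ_eq (mul_ne_zero hl (hC.γ_ne r)) (hC.F_mem r) ?_).2
    rw [hC.gam_k hl', hC.m.coord.kp_inv hC.m.ctx hl', inv_inv, hC.gam_bot, hA, ← mul_assoc, hC.m.kk hl (hC.γ_ne r)]
  · rw [← hb, ← hC.sqv_bot, hC.sqv_k hl', hC.sqv_bot, hA]
    field_simp

/-- The field automorphism of an element of `V`. -/
noncomputable def sg {v : G} (hv : v ∈ vg G a t) : L ≃+* L := (hC.m.coord.semilinear hC.m.ctx hv).choose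

theorem sg_z {v : G} (hv : v ∈ vg G a t) (x : L) : v * zp x * v⁻¹ = zp (hC.sg hv x) :=
  (hC.m.coord.semilinear hC.m.ctx hv).choose_spec.1 x

theorem sg_k {v : G} (hv : v ∈ vg G a t) {x : L} (hx : x ≠ 0) : v * kp x * v⁻¹ = kp (hC.sg hv x) :=
  (hC.m.coord.semilinear hC.m.ctx hv).choose_spec.2 x hx

theorem sg_eq {v : G} (hv : v ∈ vg G a t) {x y : L} (h : v * zp x * v⁻¹ = zp y) : hC.sg hv x = y :=
  hC.m.coord.zp_inj ((hC.sg_z hv x).symm.trans h)

theorem sg_mul {u v : G} (hu : u ∈ vg G a t) (hv : v ∈ vg G a t) (x : L) :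
    hC.sg (mul_mem hu hv) x = hC.sg hu (hC.sg hv x) :=
  hC.sg_eq _ (by rw [← hC.sg_z hu, ← hC.sg_z hv]; group)

theorem sg_one {v : G} (hv : v ∈ wg G a t) (x : L) : hC.sg (hC.m.ctx.wg_le_vg hv) x = x :=
  hC.sg_eq _ ((hC.m.coord.wg_fix hC.m.ctx hv).1 x)

theorem conj_mg {v : G} (hv : v ∈ vg G a t) (A : SL(2, L)) :
    v * hC.m.mg A * v⁻¹ = hC.m.mg (mapσ (hC.sg hv) A) := by
  have hvt : v * t * v⁻¹ = t := by
    have := (hC.m.ctx.mem_vg.1 hv).2
    conv_lhs => rw [← this]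
    rw [show t * v * t * t * (t * v * t)⁻¹ = t * v * (t * t) * t⁻¹ * v⁻¹ * t⁻¹ by group,
      hC.m.ctx.hS.mul_self, t_inv hC.m.ctx.hS]
    simp only [mul_one, mul_assoc, mul_inv_cancel_left, tt hC.m.ctx.hS]
    rw [← mul_assoc v, ← mul_assoc (v * t), mul_assoc v t v⁻¹]
    nth_rewrite 1 [← this]
    simp [mul_assoc, tt hC.m.ctx.hS, hC.m.ctx.hS.mul_self]
  refine mul_sm_bruhat (f := (MulAut.conj v).toMonoidHom.comp hC.m.mg) (f' := hC.m.mg.comp (mapσ (hC.sg hv)))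
    (fun x => ?_) (fun x hx => ?_) ?_ A
  · show v * hC.m.mg (zmat x) * v⁻¹ = hC.m.mg (mapσ (hC.sg hv) (zmat x))
    rw [hC.m.mg_z, hC.sg_z hv, ← hC.m.mg_z]
    congr 1
    exact ext_rows (by rw [top_map]; simp [top, sm, zmat_val]) (by rw [bot_map]; simp [bot, sm, zmat_val])
  · show v * hC.m.mg (kmat x) * v⁻¹ = hC.m.mg (mapσ (hC.sg hv) (kmat x))
    have hx' : hC.sg hv x ≠ 0 := by simpa using hx
    rw [hC.m.mg_k hx, hC.sg_k hv hx, ← hC.m.mg_k hx']
    congr 1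
    exact ext_rows (by rw [top_map]; simp [top, sm, kmat_val hx, kmat_val hx'])
      (by rw [bot_map]; simp [bot, sm, kmat_val hx, kmat_val hx'])
  · show v * hC.m.mg tmat * v⁻¹ = hC.m.mg (mapσ (hC.sg hv) tmat)
    rw [hC.m.mg_t, hvt]
    refine hC.m.mg_t.symm.trans (congrArg _ ?_)
    exact ext_rows (by rw [top_map]; simp [top, sm, tmat_val]) (by rw [bot_map]; simp [bot, sm, tmat_val])

theorem v_notin {v : G} (hv : v ∈ vg G a t) : ¬ hC.m.inB (v • x0) := by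
  have hc := hC.m.ctx
  obtain ⟨hva, hvta⟩ := Subgroup.mem_inf.1 (hc.vg_le hv)
  intro h
  refine hC.notin ?_
  rcases h with h | ⟨x, hx⟩
  · exact Or.inl (MulAction.injective v (h.trans hva.symm))
  · refine Or.inr ⟨(hC.sg hv).symm x, MulAction.injective v (hx.trans ?_)⟩
    have := hC.sg_z hv ((hC.sg hv).symm x)
    rw [RingEquiv.apply_symm_apply] at this
    rw [← this, mul_smul, mul_smul]
    congr 2
    exact inv_smul_eq_iff.2 hvta.symm

/-- The matrix by which an element of `V` moves the chosen point. -/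
noncomputable def rho {v : G} (hv : v ∈ vg G a t) : SL(2, L) := (hC.mg_surj (hC.v_notin hv)).choose

theorem rho_spec {v : G} (hv : v ∈ vg G a t) : hC.m.mg (hC.rho hv) • x0 = v • x0 :=
  (hC.mg_surj (hC.v_notin hv)).choose_spec

/-- The semilinear action of an element of `V` on rows. -/
noncomputable def Psi {v : G} (hv : v ∈ vg G a t) (r : L × L) : L × L := vm (sm (hC.sg hv) r) (hC.rho hv)

theorem top_act {v : G} (hv : v ∈ vg G a t) (A : SL(2, L)) :
    top (mapσ (hC.sg hv) A * hC.rho hv) = hC.Psi hv (top A) := by rw [top_mul, top_map]; rfl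

theorem bot_act {v : G} (hv : v ∈ vg G a t) (A : SL(2, L)) :
    bot (mapσ (hC.sg hv) A * hC.rho hv) = hC.Psi hv (bot A) := by rw [bot_mul, bot_map]; rfl

theorem elt_v {v : G} (hv : v ∈ vg G a t) (A : SL(2, L)) :
    hC.elt (mapσ (hC.sg hv) A * hC.rho hv) = v * hC.elt A * v⁻¹ := by
  have hvD := Subgroup.mem_inf.1 (hC.m.ctx.vg_le hv)
  refine hC.elt_eq (R1.conj_Q hC.m.ctx.hS hvD.1 (hC.elt_mem A)) ?_
  rw [map_mul, mul_smul, mul_smul, inv_smul_eq_iff.2 (show t • a = v • (t • a) from hvD.2.symm),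
    hC.elt_smul, mul_smul, hC.rho_spec hv, ← hC.conj_mg hv, mul_smul, mul_smul, inv_smul_smul]

/-- The `D`-part of `v` at the chosen point. -/
noncomputable def cv {v : G} (hv : v ∈ vg G a t) : G := (hC.gam (hC.rho hv))⁻¹ * v * hC.gam 1

theorem cv_mem {v : G} (hv : v ∈ vg G a t) : hC.cv hv ∈ D G a t :=
  mul_mem (mul_mem (inv_mem (hC.gam_mem _)) (hC.m.ctx.vg_le hv)) (hC.gam_mem 1)

theorem gam_v {v : G} (hv : v ∈ vg G a t) (A : SL(2, L)) :
    hC.gam (mapσ (hC.sg hv) A * hC.rho hv) * hC.cv hv = v * hC.gam A := by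
  have hS := hC.m.ctx.hS
  obtain ⟨hvD, hvt⟩ := hC.m.ctx.mem_vg.1 hv
  have hva := (Subgroup.mem_inf.1 hvD).1
  -- the base point moved by `v`
  have hb : ∃ q ∈ Q, v * hC.base = hC.m.mg (hC.rho hv) * hC.base * (hC.cv hv * q) := by
    obtain ⟨q1, hq1, e1⟩ := hC.gam_spec 1
    obtain ⟨q2, hq2, e2⟩ := hC.gam_spec (hC.rho hv)
    rw [map_one, one_mul] at e1
    have hx : hC.elt (hC.rho hv) = v * hC.elt 1 * v⁻¹ := by
      have := hC.elt_v hv 1
      rwa [map_one, one_mul] at this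
    have hvt' : v⁻¹ * t = t * v⁻¹ := by
      refine (show Commute t v from ?_).inv_right.eq.symm
      show t * v = v * t
      conv_rhs => rw [← hvt]
      rw [mul_assoc, hS.mul_self, mul_one]
    rw [hx, show v * hC.elt 1 * v⁻¹ * t = v * hC.elt 1 * (v⁻¹ * t) by group, hvt'] at e2
    refine ⟨(hC.cv hv)⁻¹ * q2⁻¹ * hC.cv hv * q1, mul_mem ?_ hq1, ?_⟩
    · have := R1.conj_Q hS (Subgroup.mem_inf.1 (inv_mem (hC.cv_mem hv))).1 (inv_mem hq2)
      simpa using this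
    · rw [e2, e1, cv]
      group
  obtain ⟨q, hq, eb⟩ := hb
  obtain ⟨qA, hqA, eA⟩ := hC.gam_spec A
  obtain ⟨qB, hqB, eB⟩ := hC.gam_spec (mapσ (hC.sg hv) A * hC.rho hv)
  have key : v * (hC.m.mg A * hC.base) = hC.m.mg (mapσ (hC.sg hv) A * hC.rho hv) * hC.base * (hC.cv hv * q) := by
    rw [map_mul, ← hC.conj_mg hv, mul_assoc (v * _ * v⁻¹), mul_assoc (v * _ * v⁻¹), ← eb]
    group
  rw [eA, eB, hC.elt_v hv] at key
  have hvt' : t * v = v * t := by
    conv_rhs => rw [← hvt]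
    rw [mul_assoc, hS.mul_self, mul_one]
  have e' : v * hC.elt A * v⁻¹ * t * (v * hC.gam A * qA) =
      v * hC.elt A * v⁻¹ * t * (hC.gam (mapσ (hC.sg hv) A * hC.rho hv) * qB * (hC.cv hv * q)) := by
    rw [show v * hC.elt A * v⁻¹ * t * (v * hC.gam A * qA) = v * hC.elt A * v⁻¹ * (t * v) * hC.gam A * qA by group,
      hvt', show v * hC.elt A * v⁻¹ * (v * t) * hC.gam A * qA = v * (hC.elt A * t * hC.gam A * qA) by group, key]
    group
  have e'' := mul_left_cancel e'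
  set g' := hC.gam (mapσ (hC.sg hv) A * hC.rho hv)
  have hd1 : v * hC.gam A ∈ D G a t := mul_mem hvD (hC.gam_mem A)
  have hd2 : g' * hC.cv hv ∈ D G a t := mul_mem (hC.gam_mem _) (hC.cv_mem hv)
  have hQ2 : (hC.cv hv)⁻¹ * qB * hC.cv hv * q ∈ Q := mul_mem (by
    simpa using R1.conj_Q hS (Subgroup.mem_inf.1 (inv_mem (hC.cv_mem hv))).1 hqB) hq
  have e3 : v * hC.gam A * qA * (v * hC.gam A)⁻¹ * (v * hC.gam A) =
      g' * hC.cv hv * ((hC.cv hv)⁻¹ * qB * hC.cv hv * q) * (g' * hC.cv hv)⁻¹ * (g' * hC.cv hv) := by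
    rw [show v * hC.gam A * qA * (v * hC.gam A)⁻¹ * (v * hC.gam A) = v * hC.gam A * qA by group, e'']
    group
  exact ((R1.D_unique hS (R1.conj_Q hS (Subgroup.mem_inf.1 hd1).1 hqA) hd1
    (R1.conj_Q hS (Subgroup.mem_inf.1 hd2).1 hQ2) hd2 e3).2).symm

end CSet

end Cfsg.Agent.Lie.R1C
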