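import Cfsg.Agent.Lib.Lie.SplitRankOne.CubePair

/-!
The `V`-labels of the rows and the cocycle of the action of `V`.
-/

set_option autoImplicit false
set_option linter.unusedSectionVars false
set_option linter.unusedSimpArgs false
set_option linter.style.haveILetI false

namespace Cfsg.Agent.Lie.R1C

open Cfsg MulAction Matrix
open Cfsg.Agent.Lie.R1 (D tt t_inv tDt)
open scoped MatrixGroups

section Vec

variable {L : Type} [Field L] [CharP L 2]

theorem vm_smul (l : L) (r : L × L) (P : SL(2, L)) : vm (l • r) P = l • vm r P := by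
  ext <;> simp [vm] <;> ring

theorem vm_add (u r : L × L) (P : SL(2, L)) : vm (u + r) P = vm u P + vm r P := by
  ext <;> simp [vm] <;> ring

theorem dt_vm (u r : L × L) (P : SL(2, L)) : dt (vm u P) (vm r P) = dt u r := by
  have hd := det_eq P
  have h2 : (2 : L) = 0 := CharTwo.two_eq_zero
  simp only [dt, vm]
  linear_combination (u.1 * r.2 + u.2 * r.1) * hd +
    (u.1 * r.1 * P.1 0 0 * P.1 0 1 + u.2 * r.2 * P.1 1 0 * P.1 1 1) * h2

theorem sm_smul (σ : L ≃+* L) (l : L) (r : L × L) : sm σ (l • r) = σ l • sm σ r := by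
  ext <;> simp [sm]

theorem sm_add (σ : L ≃+* L) (u r : L × L) : sm σ (u + r) = sm σ u + sm σ r := by
  ext <;> simp [sm]

theorem dt_sm (σ : L ≃+* L) (u r : L × L) : dt (sm σ u) (sm σ r) = σ (dt u r) := by
  simp [dt, sm]

theorem dt_comm (u r : L × L) : dt u r = dt r u := by simp only [dt]; ring

theorem dt_smul_left (l : L) (u r : L × L) : dt (l • u) r = l * dt u r := by
  simp only [dt, Prod.smul_fst, Prod.smul_snd, smul_eq_mul]; ring

theorem dt_smul_right (l : L) (u r : L × L) : dt u (l • r) = l * dt u r := by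
  simp only [dt, Prod.smul_fst, Prod.smul_snd, smul_eq_mul]; ring

theorem dt_add_left (u u' r : L × L) : dt (u + u') r = dt u r + dt u' r := by
  simp only [dt, Prod.fst_add, Prod.snd_add]; ring

theorem dt_self (r : L × L) : dt r r = 0 := by
  simp only [dt]; rw [mul_comm r.2, CharTwo.add_self_eq_zero]

theorem dt_add_smul {u r : L × L} (h : dt u r = 1) (l : L) : dt (u + l • r) r = 1 := by
  rw [dt_add_left, dt_smul_left, dt_self, mul_zero, add_zero, h]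

theorem ne_zero_of_dt {u r : L × L} (h : dt u r ≠ 0) : u ≠ 0 ∧ r ≠ 0 :=
  ⟨fun e => h (by simp [e, dt]), fun e => h (by simp [e, dt])⟩

theorem eq_smul_of_dt {u r : L × L} (hr : r ≠ 0) (h : dt u r = 0) : ∃ l : L, u = l • r := by
  obtain ⟨u1, u2⟩ := u
  obtain ⟨r1, r2⟩ := r
  have h' : u1 * r2 = u2 * r1 := CharTwo.add_eq_zero.1 h
  by_cases h1 : r1 = 0
  · subst h1
    have h2 : r2 ≠ 0 := fun e => hr (by simp [e])
    refine ⟨u2 / r2, ?_⟩
    rw [mul_zero] at h'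
    have := (mul_eq_zero.1 h').resolve_right h2
    ext <;> simp [this, h2]
  · refine ⟨u1 / r1, ?_⟩
    ext <;> simp [h1]
    field_simp
    linear_combination -h'

end Vec

theorem comm_sq_id {M : Type*} [CommGroup M] (u r c : M)
    (h : r * u⁻¹ * r * u⁻¹ * r * c⁻¹ = u * (r * u⁻¹ * r)⁻¹ * r * c) : (c * (u * r⁻¹) ^ 2) ^ 2 = 1 := by
  have key : ∀ {A : Type _} [AddCommGroup A] (u r c : A),
      r + -u + r + -u + r + -c = u + -(r + -u + r) + r + c → 2 • (c + 2 • (u + -r)) = 0 := by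
    intro A _ u r c h
    rw [← sub_eq_zero.2 h.symm]
    abel
  exact congrArg Additive.toMul
    (key (A := Additive M) (Additive.ofMul u) (Additive.ofMul r) (Additive.ofMul c) (congrArg Additive.ofMul h))

variable {G Ω : Type*} [Group G] [MulAction G Ω] [Finite G] {a : Ω} {t : G} {Q : Subgroup G} {L : Type} [Field L]
  [Fintype L] [CharP L 2] {zp kp : L → G} {x0 : Ω}

/-- An element of `D` with its `V`-part. -/
def IsKV (G : Type*) {Ω : Type*} [Group G] [MulAction G Ω] (a : Ω) (t : G) (x v : G) : Prop :=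
  v ∈ vg G a t ∧ ∃ k ∈ kg G a t, x = k * v

namespace Ctx

variable (hc : Ctx G Ω a t Q)

include hc

theorem kv_mul {x v y w : G} (hx : IsKV G a t x v) (hy : IsKV G a t y w) : IsKV G a t (x * y) (v * w) := by
  obtain ⟨hv, k, hk, rfl⟩ := hx
  obtain ⟨hw, l, hl, rfl⟩ := hy
  exact ⟨mul_mem hv hw, k * (v * l * v⁻¹), mul_mem hk (hc.conj_kg (hc.vg_le hv) hl), by group⟩

theorem kv_inv {x v : G} (hx : IsKV G a t x v) : IsKV G a t x⁻¹ v⁻¹ := by
  obtain ⟨hv, k, hk, rfl⟩ := hx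
  refine ⟨inv_mem hv, v⁻¹ * k⁻¹ * v, ?_, by group⟩
  simpa using hc.conj_kg (inv_mem (hc.vg_le hv)) (inv_mem hk)

theorem kv_t {x v : G} (hx : IsKV G a t x v) : IsKV G a t (t * x * t) v := by
  obtain ⟨hv, k, hk, rfl⟩ := hx
  refine ⟨hv, k⁻¹, inv_mem hk, ?_⟩
  rw [show t * (k * v) * t = (t * k * t) * (t * v * t) by simp only [mul_assoc, tt hc.hS], hc.kg_inv hk,
    (hc.mem_vg.1 hv).2]

theorem kv_k {k : G} (hk : k ∈ kg G a t) : IsKV G a t k 1 := ⟨one_mem _, k, hk, (mul_one k).symm⟩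

theorem kv_v {v : G} (hv : v ∈ vg G a t) : IsKV G a t v v := ⟨hv, 1, one_mem _, (one_mul v).symm⟩

theorem kv_unique {x v w : G} (hx : IsKV G a t x v) (hy : IsKV G a t x w) : v = w := by
  obtain ⟨hv, k, hk, rfl⟩ := hx
  obtain ⟨hw, l, hl, e⟩ := hy
  have hk' : v⁻¹ * k * v ∈ kg G a t := by simpa using hc.conj_kg (inv_mem (hc.vg_le hv)) hk
  have hl' : w⁻¹ * l * w ∈ kg G a t := by simpa using hc.conj_kg (inv_mem (hc.vg_le hw)) hl
  exact (hc.decomp_unique hv hw hk' hl' (by rw [show v * (v⁻¹ * k * v) = k * v by group, e]; group)).1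

end Ctx

namespace CSet

variable (hC : CSet G a t Q L zp kp x0)

include hC

theorem gam_kv (A : SL(2, L)) : IsKV G a t (hC.gam A) (hC.F (bot A)) :=
  ⟨hC.F_mem _, kp (hC.γ (bot A)), hC.m.coord.kp_mem hC.m.ctx (hC.γ_ne _), hC.gam_bot A⟩

theorem hc_kv (A : SL(2, L)) : IsKV G a t (hc hC.m.ctx.hS (hC.elt A)) (hC.eps (top A) (bot A)) :=
  ⟨hC.eps_mem _ _, _, hC.m.coord.kp_mem hC.m.ctx (div_ne_zero (hC.cc_ne _ _) (hC.γ_ne _)), hC.hc_eps A⟩

theorem F_Aq {u r : L × L} (h : dt u r = 1) :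
    hC.F (hC.Aq u r) = hC.F r * (hC.F u)⁻¹ * hC.F r ∧
      hC.γ (hC.Aq u r) = hC.sg (inv_mem (hC.eps_mem u r)) (hC.γ u) *
        hC.sg (inv_mem (hC.eps_mem u r)) (hC.γ r) / hC.γ r := by
  set A := mk2 u r h
  have hS := hC.m.ctx.hS
  have hv := inv_mem (hC.eps_mem u r)
  have hγu := hC.γ_ne u
  have hW : bot (tmat * (zmat (hC.sqv A) * A)) = hC.Aq u r := by rw [bot_t, top_z, hC.sqv_bot]; rfl
  have hg : hC.gam (tmat * (zmat (hC.sqv A) * A)) =
      kp (hC.sg hv (hC.γ u) * hC.sg hv (hC.γ r) / hC.γ r) * ((hC.eps u r)⁻¹ * hC.F r) := by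
    rw [hC.gam_t, ← hC.elt_inv, (coords_inv hS (hC.elt_mem A) (hC.elt_ne A)).2.1, hC.gam_z, hC.hc_eps, hC.gam_bot,
      show top A = u from rfl, show bot A = r from rfl]
    simp only [mul_assoc, tt hS, hS.mul_self, mul_one, _root_.mul_inv_rev]
    set ε := hC.eps u r
    have hγr := hC.γ_ne r
    have hcc := hC.cc_ne u r
    rw [hC.m.coord.kp_inv hC.m.ctx (div_ne_zero hcc hγu), inv_div]
    rw [show ε⁻¹ * (kp (hC.γ u / hC.cc u r) * (kp (hC.γ r) * hC.F r)) =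
      (ε⁻¹ * kp (hC.γ u / hC.cc u r) * ε⁻¹⁻¹) * (ε⁻¹ * kp (hC.γ r) * ε⁻¹⁻¹) * (ε⁻¹ * hC.F r) by group,
      hC.sg_k hv (div_ne_zero hγu hcc), hC.sg_k hv hγr, hC.m.kk (by simpa using div_ne_zero hγu hcc) (by simpa using hγr)]
    congr 2
    have hcancel : hC.sg hv (hC.cc u r) = hC.γ r := by
      rw [cc, ← hC.sg_mul hv (hC.eps_mem u r)]
      refine hC.sg_eq _ ?_
      simp [ε]
    rw [map_div₀, hcancel, div_mul_eq_mul_div]
  obtain ⟨h1, h2⟩ := hC.F_γ_eq (A := tmat * (zmat (hC.sqv A) * A)) (by simpa using ⟨hγu, hC.γ_ne r⟩)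
    (mul_mem hv (hC.F_mem r)) hg
  rw [hW] at h1 h2
  exact ⟨by rw [h2, eps]; group, h1⟩

theorem eps_Aq {u r : L × L} (h : dt u r = 1) : hC.eps (hC.Aq u r) r = (hC.eps u r)⁻¹ := by
  rw [eps, (hC.F_Aq h).1, eps]; group

/-- The `V`-part of the cocycle. -/
noncomputable def Fc {v : G} (hv : v ∈ vg G a t) : G :=
  (hC.F (bot (hC.rho hv)))⁻¹ * v * hC.F (bot (1 : SL(2, L)))

theorem Fc_mem {v : G} (hv : v ∈ vg G a t) : hC.Fc hv ∈ vg G a t :=
  mul_mem (mul_mem (inv_mem (hC.F_mem _)) hv) (hC.F_mem _)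

theorem cv_kv {v : G} (hv : v ∈ vg G a t) : IsKV G a t (hC.cv hv) (hC.Fc hv) :=
  hC.m.ctx.kv_mul (hC.m.ctx.kv_mul (hC.m.ctx.kv_inv (hC.gam_kv _)) (hC.m.ctx.kv_v hv)) (hC.gam_kv 1)

/-- The torus coordinate of the cocycle. -/
theorem exists_kap {v : G} (hv : v ∈ vg G a t) : ∃ κ : L, κ ≠ 0 ∧ hC.cv hv = kp κ * hC.Fc hv := by
  obtain ⟨-, k, hk, e⟩ := hC.cv_kv hv
  obtain ⟨x, hx, rfl⟩ := (hC.m.coord.mem_kp _).1 hk
  exact ⟨x, hx, e⟩

/-- The torus coordinate of the cocycle. -/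
noncomputable def kap {v : G} (hv : v ∈ vg G a t) : L := (hC.exists_kap hv).choose

theorem kap_ne {v : G} (hv : v ∈ vg G a t) : hC.kap hv ≠ 0 := (hC.exists_kap hv).choose_spec.1

theorem cv_eq {v : G} (hv : v ∈ vg G a t) : hC.cv hv = kp (hC.kap hv) * hC.Fc hv :=
  (hC.exists_kap hv).choose_spec.2

theorem Psi_row {v : G} (hv : v ∈ vg G a t) {r : L × L} (hr : r ≠ 0) :
    hC.F (hC.Psi hv r) * hC.Fc hv = v * hC.F r ∧
      hC.γ (hC.Psi hv r) * hC.sg (hC.F_mem (hC.Psi hv r)) (hC.kap hv) = hC.sg hv (hC.γ r) ∧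
      hC.Φ (hC.Psi hv r) = hC.sg hv (hC.Φ r) := by
  obtain ⟨A, rfl⟩ := exists_mat hr
  set B := mapσ (hC.sg hv) A * hC.rho hv with hB
  have hb : bot B = hC.Psi hv (bot A) := hC.bot_act hv A
  have e := hC.gam_v hv A
  rw [← hB, hC.gam_bot, hC.gam_bot A, hC.cv_eq hv, hb] at e
  set F' := hC.F (hC.Psi hv (bot A))
  have hF' : F' ∈ vg G a t := hC.F_mem _
  have e' : kp (hC.γ (hC.Psi hv (bot A)) * hC.sg hF' (hC.kap hv)) * (F' * hC.Fc hv) =
      kp (hC.sg hv (hC.γ (bot A))) * (v * hC.F (bot A)) := by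
    rw [← hC.m.kk (hC.γ_ne _) (by simpa using hC.kap_ne hv), ← hC.sg_k hF' (hC.kap_ne hv),
      ← hC.sg_k hv (hC.γ_ne _)]
    rw [show kp (hC.γ (hC.Psi hv (bot A))) * (F' * kp (hC.kap hv) * F'⁻¹) * (F' * hC.Fc hv) =
      kp (hC.γ (hC.Psi hv (bot A))) * F' * (kp (hC.kap hv) * hC.Fc hv) by group, e]
    group
  obtain ⟨h1, h2⟩ := hC.split_unique (mul_ne_zero (hC.γ_ne _) (by simpa using hC.kap_ne hv))
    (by simpa using hC.γ_ne (bot A)) (mul_mem hF' (hC.Fc_mem hv)) (mul_mem hv (hC.F_mem _)) e'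
  refine ⟨h2, h1, hC.m.coord.zp_inj ?_⟩
  rw [← hb, ← hC.sqv_bot, hC.sqv_spec, hB, hC.elt_v, ← hC.sg_z hv, ← hC.sqv_bot A, hC.sqv_spec]
  group

theorem act_mul {u v : G} (hu : u ∈ vg G a t) (hv : v ∈ vg G a t) (A : SL(2, L)) :
    mapσ (hC.sg (mul_mem hu hv)) A * hC.rho (mul_mem hu hv) =
      mapσ (hC.sg hu) (mapσ (hC.sg hv) A * hC.rho hv) * hC.rho hu := by
  refine hC.elt_inj ?_
  rw [hC.elt_v, hC.elt_v, hC.elt_v]
  group

theorem cv_mul {u v : G} (hu : u ∈ vg G a t) (hv : v ∈ vg G a t) :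
    hC.cv (mul_mem hu hv) = hC.cv hu * hC.cv hv := by
  set A := (1 : SL(2, L))
  have e1 := hC.gam_v (mul_mem hu hv) A
  have e2 := hC.gam_v hu (mapσ (hC.sg hv) A * hC.rho hv)
  have e3 := hC.gam_v hv A
  rw [hC.act_mul hu hv A] at e1
  refine mul_left_cancel (a := hC.gam (mapσ (hC.sg hu) (mapσ (hC.sg hv) A * hC.rho hv) * hC.rho hu)) ?_
  rw [e1, ← mul_assoc, e2, mul_assoc u (hC.gam _) (hC.cv hv), e3, mul_assoc]

theorem Fc_mul {u v : G} (hu : u ∈ vg G a t) (hv : v ∈ vg G a t) :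
    hC.Fc (mul_mem hu hv) = hC.Fc hu * hC.Fc hv :=
  hC.m.ctx.kv_unique (by have := hC.cv_kv (mul_mem hu hv); rwa [hC.cv_mul hu hv] at this)
    (hC.m.ctx.kv_mul (hC.cv_kv hu) (hC.cv_kv hv))

theorem Psi_mul {u v : G} (hu : u ∈ vg G a t) (hv : v ∈ vg G a t) {r : L × L} (hr : r ≠ 0) :
    hC.Psi (mul_mem hu hv) r = hC.Psi hu (hC.Psi hv r) := by
  obtain ⟨A, rfl⟩ := exists_mat hr
  rw [← hC.bot_act, ← hC.bot_act hv A, ← hC.bot_act hu, hC.act_mul hu hv]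

theorem Psi_smul {v : G} (hv : v ∈ vg G a t) (l : L) (r : L × L) :
    hC.Psi hv (l • r) = hC.sg hv l • hC.Psi hv r := by
  rw [Psi, sm_smul, vm_smul]; rfl

theorem Psi_add {v : G} (hv : v ∈ vg G a t) (u r : L × L) :
    hC.Psi hv (u + r) = hC.Psi hv u + hC.Psi hv r := by
  rw [Psi, sm_add, vm_add]; rfl

theorem dt_Psi {v : G} (hv : v ∈ vg G a t) (u r : L × L) :
    dt (hC.Psi hv u) (hC.Psi hv r) = hC.sg hv (dt u r) := by
  rw [Psi, Psi, dt_vm, dt_sm]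

theorem R0_ne {u r : L × L} (h : dt u r = 1) (α : L) : hC.R0 u r α ≠ 0 := by
  intro e
  have h1 := congrArg (fun w => dt u w) e
  have h2 := congrArg (fun w => dt r w) e
  simp only [R0, Aq, dt, Prod.fst_add, Prod.snd_add, Prod.smul_fst, Prod.smul_snd, smul_eq_mul] at h1 h2
  have hd : dt (hC.Aq u r) r = 1 := dt_add_smul h _
  have hs : hC.ss u r α = 0 := by
    have h3 := congrArg (fun w => dt w r) e
    simp only [R0] at h3
    rw [dt_add_left, dt_self, dt_smul_left, hd, zero_add, mul_one] at h3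
    simpa [dt] using h3
  exact (ne_zero_of_dt (by rw [h]; exact one_ne_zero)).2 (by simpa [R0, hs] using e)

theorem F_R0 {u r : L × L} (h : dt u r = 1) {α : L} (hα : α ≠ 0) :
    hC.F (hC.R0 u r α) = hC.F r * (hC.F u)⁻¹ * hC.F (u + α • r) * (hC.F u)⁻¹ * hC.F r := by
  set A := mk2 u r h
  have hct := hC.m.ctx
  obtain ⟨-, E₁, ht, hb, e⟩ := hC.pair_side A hα
  rw [show top A = u from rfl, show bot A = r from rfl] at ht hb
  have k1 : IsKV G a t (t * (hC.gam E₁ * (hC.gam (tmat * E₁))⁻¹) * t)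
      (hC.F (bot E₁) * (hC.F (top E₁))⁻¹) := by
    have := hct.kv_t (hct.kv_mul (hC.gam_kv E₁) (hct.kv_inv (hC.gam_kv (tmat * E₁))))
    rwa [bot_t] at this
  have k2 := hct.kv_mul (hct.kv_mul k1 (hct.kv_inv (hC.hc_kv A))) (hC.hc_kv (zmat α * A))
  rw [e] at k2
  have k3 := hct.kv_unique k2 (hct.kv_k (hC.m.coord.kp_mem hct (inv_ne_zero hα)))
  rw [hb, ht, (hC.F_Aq h).1, show top A = u from rfl, show bot A = r from rfl, bot_z, top_z,
    show top A = u from rfl, show bot A = r from rfl] at k3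
  simp only [eps, _root_.mul_inv_rev, inv_inv] at k3
  set R := hC.F (hC.R0 u r α)
  set fu := hC.F u
  set fr := hC.F r
  set fb := hC.F (u + α • r)
  calc R = (fr * fu⁻¹ * (fb * fr⁻¹)) *
        (fr * fu⁻¹ * fr * R⁻¹ * (fr * fu⁻¹) * (fb * fr⁻¹))⁻¹ * (fr * fu⁻¹ * fr) := by group
    _ = _ := by rw [k3]; group

/-- The exact identity on the cocycle. -/
theorem Fc_rel {u r : L × L} (h : dt u r = 1) {α : L} (hα : α ≠ 0) :
    hC.F (u + α • r) * (hC.F u)⁻¹ * hC.F r * (hC.Fc (hC.eps_mem u r))⁻¹ =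
      hC.F u * (hC.F (u + α • r))⁻¹ * hC.F r * (hC.Fc (hC.eps_mem (u + α • r) r))⁻¹ := by
  have hside : ∀ {u : L × L}, dt u r = 1 → hC.F (hC.RR u r α) =
      hC.F (u + α • r) * (hC.F u)⁻¹ * hC.F r * (hC.Fc (hC.eps_mem u r))⁻¹ := by
    intro u h
    have hR := hC.R0_ne h α
    have hP : hC.Psi (hC.eps_mem u r) (hC.R0 u r α) ≠ 0 := by
      intro e
      obtain ⟨B, hB⟩ := exists_mat hR
      have := hC.bot_act (hC.eps_mem u r) B
      rw [hB, e] at this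
      exact bot_ne _ this
    rw [RR, (hC.smul_row (div_ne_zero (hC.γ_ne u) (hC.cc_ne u r)) hP).2.1,
      eq_mul_inv_iff_mul_eq, (hC.Psi_row _ hR).1, hC.F_R0 h hα, eps]
    group
  have h' := dt_add_smul h α
  have e2 := hside h'
  rw [add_assoc, ← add_smul, CharTwo.add_self_eq_zero, zero_smul, add_zero, (hC.pair h hα).1] at e2
  exact (hside h).symm.trans e2

variable {M : Type*} [CommGroup M]

/-- The cocycle is the inverse square modulo the commutator subgroup. -/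
theorem Fc_sq (ψ : vg G a t →* M) {u r : L × L} (h : dt u r = 1) :
    ψ ⟨_, hC.Fc_mem (hC.eps_mem u r)⟩ * ψ ⟨_, hC.eps_mem u r⟩ ^ 2 = 1 := by
  have hΦ := hC.Φ_ne r
  have e := hC.Fc_rel h hΦ
  have he : hC.eps (u + hC.Φ r • r) r = (hC.eps u r)⁻¹ := hC.eps_Aq h
  have hFA : hC.F (u + hC.Φ r • r) = hC.F r * (hC.F u)⁻¹ * hC.F r := (hC.F_Aq h).1
  set ε : vg G a t := ⟨_, hC.eps_mem u r⟩
  set c : vg G a t := ⟨_, hC.Fc_mem (hC.eps_mem u r)⟩ with hc
  have hci : hC.Fc (hC.eps_mem (u + hC.Φ r • r) r) = (c : G)⁻¹ := by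
    have h1 := hC.Fc_mul (hC.eps_mem (u + hC.Φ r • r) r) (hC.eps_mem u r)
    have h0 : ∀ {w : G} (hw : w ∈ vg G a t), w = 1 → hC.Fc hw = 1 := by
      intro w hw hw1
      subst hw1
      have h2 := hC.Fc_mul hw hw
      simp only [mul_one] at h2
      exact left_eq_mul.1 h2
    rw [h0 _ (by rw [he, inv_mul_cancel])] at h1
    exact eq_inv_of_mul_eq_one_left h1.symm
  let fu : vg G a t := ⟨_, hC.F_mem u⟩
  let fr : vg G a t := ⟨_, hC.F_mem r⟩
  have eV : (fr * fu⁻¹ * fr) * fu⁻¹ * fr * c⁻¹ = fu * (fr * fu⁻¹ * fr)⁻¹ * fr * c⁻¹⁻¹ := Subtype.ext (by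
    simp only [Subgroup.coe_mul, Subgroup.coe_inv]
    rw [hci, hFA] at e
    exact e)
  have hεdef : ψ ε = ψ fu * (ψ fr)⁻¹ := by
    rw [show ε = fu * fr⁻¹ from Subtype.ext rfl, map_mul, map_inv]
  have e' := congrArg ψ eV
  simp only [map_mul, map_inv, inv_inv] at e'
  have hsq : (ψ c * ψ ε ^ 2) ^ 2 = 1 := by
    rw [hεdef]
    exact comm_sq_id _ _ _ e' 
  have hodd := hC.m.ctx.odd_vg
  have hone : (ψ c * ψ ε ^ 2) ^ Nat.card (vg G a t) = 1 := by
    rw [← map_pow, ← map_mul, ← map_pow, pow_card_eq_one', map_one]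
  obtain ⟨j, hj⟩ := hodd
  rwa [hj, pow_succ, pow_mul, hsq, one_pow, one_mul] at hone

end CSet

end Cfsg.Agent.Lie.R1C
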