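import Cfsg.Agent.Lib.Lie.SplitRankOne.CubeRot

/-!
The group law of `Q` in coordinates, and the action of `t`.
-/

set_option autoImplicit false
set_option linter.unusedSectionVars false
set_option linter.unusedSimpArgs false
set_option linter.style.haveILetI false

namespace Cfsg.Agent.Lie.R1C

open Cfsg MulAction Matrix
open Cfsg.Agent.Lie.R1 (D tt t_inv tDt)
open scoped MatrixGroups

/-- The product of the Hermitian coordinates. -/
def hmul {F : Type} [Field F] (cj : F →+* F) (p q : F × F) : F × F := (p.1 + q.1, p.2 + q.2 + cj p.1 * q.1)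

theorem hmul_assoc {F : Type} [Field F] (cj : F →+* F) (p q r : F × F) :
    hmul cj (hmul cj p q) r = hmul cj p (hmul cj q r) := by
  simp only [hmul, map_add, Prod.mk.injEq]
  exact ⟨add_assoc _ _ _, by ring⟩

variable {G Ω : Type*} [Group G] [MulAction G Ω] [Finite G] [FaithfulSMul G Ω] {a : Ω} {t : G} {Q : Subgroup G}
  {L : Type} [Field L] [Fintype L] [CharP L 2] {zp kp : L → G} {x0 : Ω} {hC : CSet G a t Q L zp kp x0}
  {F : Type} [Field F] [Fintype F] {ι : L →+* F} {cj : F →+* F} {e : L × L → F}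

namespace LMod

/-- The coordinates of an element of `Q`. -/
def IsCo (_ : LMod hC F ι cj e) (x : G) (p : F × F) : Prop :=
  (∃ α, x = zp α ∧ p = (0, ι α)) ∨ ∃ A : SL(2, L), x = hC.elt A ∧ p = ((e (bot A))⁻¹, e (top A) / e (bot A))

variable (hM : LMod hC F ι cj e)

include hM

theorem co_total {x : G} (hx : x ∈ Q) : ∃ p, hM.IsCo x p := by
  by_cases h : x ∈ zg G a
  · obtain ⟨α, hα⟩ := (hC.m.coord.mem_zp x).1 h
    exact ⟨_, Or.inl ⟨α, hα.symm, rfl⟩⟩
  · obtain ⟨A, hA⟩ := hC.elt_surj hx h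
    exact ⟨_, Or.inr ⟨A, hA.symm, rfl⟩⟩

theorem co_mem {x : G} {p : F × F} (h : hM.IsCo x p) : x ∈ Q := by
  rcases h with ⟨α, rfl, -⟩ | ⟨A, rfl, -⟩
  exacts [hC.m.ctx.zg_le_Q (hC.m.coord.zp_mem hC.m.ctx α), hC.elt_mem A]

theorem co_zero {x : G} {p : F × F} (h : hM.IsCo x p) : p.1 = 0 ↔ x ∈ zg G a := by
  rcases h with ⟨α, rfl, rfl⟩ | ⟨A, rfl, rfl⟩
  · exact iff_of_true rfl (hC.m.coord.zp_mem hC.m.ctx α)
  · exact iff_of_false (inv_ne_zero (hM.e_ne (bot_ne A))) (hC.elt_not_zg A)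

theorem co_fun {x : G} {p p' : F × F} (h : hM.IsCo x p) (h' : hM.IsCo x p') : p = p' := by
  rcases h with ⟨α, rfl, rfl⟩ | ⟨A, rfl, rfl⟩
  · rcases h' with ⟨β, hβ, rfl⟩ | ⟨B, hB, rfl⟩
    · rw [hC.m.coord.zp_inj hβ]
    · exact absurd (hB ▸ hC.m.coord.zp_mem hC.m.ctx α) (hC.elt_not_zg B)
  · rcases h' with ⟨β, hβ, rfl⟩ | ⟨B, hB, rfl⟩
    · exact absurd (hβ.symm ▸ hC.m.coord.zp_mem hC.m.ctx β) (hC.elt_not_zg A)
    · rw [hC.elt_inj hB]

theorem co_inj {x x' : G} {p : F × F} (h : hM.IsCo x p) (h' : hM.IsCo x' p) : x = x' := by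
  rcases h with ⟨α, rfl, rfl⟩ | ⟨A, rfl, rfl⟩
  · rcases h' with ⟨β, rfl, hβ⟩ | ⟨B, rfl, hB⟩
    · rw [ι.injective (congrArg Prod.snd hβ)]
    · exact absurd (congrArg Prod.fst hB).symm (inv_ne_zero (hM.e_ne (bot_ne B)))
  · rcases h' with ⟨β, rfl, hβ⟩ | ⟨B, rfl, hB⟩
    · exact absurd (congrArg Prod.fst hβ) (inv_ne_zero (hM.e_ne (bot_ne A)))
    · have h1 : bot A = bot B := hM.e_bij.1 (inv_injective (congrArg Prod.fst hB))
      have h2 := congrArg Prod.snd hB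
      simp only [h1] at h2
      rw [ext_rows (hM.e_bij.1 ((div_left_inj' (hM.e_ne (bot_ne B))).1 h2)) h1]

theorem co_herm {x : G} {p : F × F} (h : hM.IsCo x p) : p.2 + cj p.2 = p.1 * cj p.1 := by
  rcases h with ⟨α, rfl, rfl⟩ | ⟨A, rfl, rfl⟩
  · simp only [hM.cj_ι, hM.char_add_self, zero_mul]
  · have h1 := hM.tr1 (dt_top_bot A)
    have := hM.e_ne (bot_ne A)
    have := hM.cje_ne (bot_ne A)
    simp only [map_div₀, map_inv₀]
    field_simp
    linear_combination h1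

theorem co_shift {x : G} {p : F × F} (h : hM.IsCo x p) (α : L) : hM.IsCo (zp α * x) (p.1, p.2 + ι α) := by
  rcases h with ⟨β, rfl, rfl⟩ | ⟨A, rfl, rfl⟩
  · exact Or.inl ⟨α + β, (hC.m.coord.zp_add α β).symm, by rw [map_add, add_comm]⟩
  · refine Or.inr ⟨zmat α * A, (hC.elt_z α A).symm, ?_⟩
    rw [bot_z, top_z, hM.e_add, hM.e_smul, add_div, mul_div_cancel_right₀ _ (hM.e_ne (bot_ne A))]

theorem co_inv {x : G} {p : F × F} (h : hM.IsCo x p) : hM.IsCo x⁻¹ (p.1, cj p.2) := by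
  rcases h with ⟨α, rfl, rfl⟩ | ⟨A, rfl, rfl⟩
  · exact Or.inl ⟨α, inv_eq_of_mul_eq_one_left (hC.m.ctx.zg_sq (hC.m.coord.zp_mem hC.m.ctx α)), by rw [hM.cj_ι]⟩
  · refine Or.inr ⟨zmat (hC.sqv A) * A, hC.elt_inv A, ?_⟩
    have h1 := hM.tr1 (dt_top_bot A)
    have := hM.e_ne (bot_ne A)
    have := hM.cje_ne (bot_ne A)
    rw [bot_z, top_z, hC.sqv_bot, hM.e_add, hM.e_smul, hM.iPhi _ (bot_ne A), map_div₀, Prod.mk.injEq]
    refine ⟨rfl, ?_⟩
    field_simp
    linear_combination h1 + (1 - cj (e (top A)) * e (bot A)) * 0 - hM.two_zero * (e (top A) * cj (e (bot A))) * 1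

theorem co_gc {x : G} {p : F × F} (h : hM.IsCo x p) (hx1 : x ≠ 1) :
    p.2 ≠ 0 ∧ hM.IsCo (gc hC.m.ctx.hS x) (p.1 / p.2, p.2⁻¹) := by
  rcases h with ⟨α, rfl, rfl⟩ | ⟨A, rfl, rfl⟩
  · have hα : α ≠ 0 := fun h => hx1 (by rw [h, hC.m.coord.zp_zero hC.m.ctx])
    refine ⟨(map_ne_zero ι).2 hα, Or.inl ⟨α⁻¹, ?_, by simp⟩⟩
    have hz := hC.m.ctx.zg_le_Q (hC.m.coord.zp_mem hC.m.ctx α)
    exact (coords_unique hC.m.ctx.hS hz hx1 (hC.m.ctx.zg_le_Q (hC.m.coord.zp_mem hC.m.ctx α⁻¹))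
      (hC.m.ctx.kg_le (hC.m.coord.kp_mem hC.m.ctx (inv_ne_zero hα)))
      (hC.m.ctx.zg_le_Q (hC.m.coord.zp_mem hC.m.ctx α⁻¹)) (hC.m.tzt hα)).1
  · have hb := hM.e_ne (bot_ne A)
    have ht : e (top A) ≠ 0 := hM.e_ne (ne_zero_of_dt (by rw [dt_top_bot]; exact one_ne_zero : dt (top A) (bot A) ≠ 0)).1
    refine ⟨div_ne_zero ht hb, Or.inr ⟨tmat * A, (hC.elt_t A).symm, ?_⟩⟩
    rw [bot_t, top_t, Prod.mk.injEq]
    constructor <;> field_simp

variable (hV : vg G a t = wg G a t) (hsum : hC.HSum) (hW : wg G a t ≠ ⊥)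

include hV hsum hW

/-- The law on two elements with independent second rows. -/
theorem co_indep {x y : G} {p q : F × F} (hp : hM.IsCo x p) (hq : hM.IsCo y q) (hp0 : p.1 ≠ 0) (hq0 : q.1 ≠ 0)
    (hne : ∀ l : L, q.1 ≠ ι l * p.1) : hM.IsCo (x * y) (hmul cj p q) := by
  rcases hp with ⟨α, rfl, rfl⟩ | ⟨A, rfl, rfl⟩
  · exact absurd rfl hp0
  rcases hq with ⟨α, rfl, rfl⟩ | ⟨B, rfl, rfl⟩
  · exact absurd rfl hq0
  set u := bot A with hu
  set v := bot B with hv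
  have hd : dt u v ≠ 0 := by
    intro h
    obtain ⟨l, hl⟩ := eq_smul_of_dt (bot_ne B) h
    refine hne l ?_
    show (e v)⁻¹ = ι l * (e u)⁻¹
    rw [hl, hM.e_smul, mul_inv, ← mul_assoc, mul_inv_cancel₀, one_mul]
    intro h0
    rw [map_eq_zero] at h0
    exact bot_ne A (by rw [← hu, hl, h0, zero_smul])
  set α := dt u v with hα
  set r := α⁻¹ • (u + v) with hr
  have h1 : dt u r = 1 := by
    rw [hr, dt_smul_right, dt_comm u (u + v), dt_add_left, dt_self, zero_add, dt_comm v u, inv_mul_cancel₀ hd]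
  have hvu : v = u + α • r := by
    rw [hr, smul_smul, mul_inv_cancel₀ hd, one_smul, ← add_assoc,
      show u + u = 0 by ext <;> simp [CharTwo.add_self_eq_zero], zero_add]
  set A0 := mk2 u r h1 with hA0
  obtain ⟨A1, hA1⟩ : ∃ A1, A1 = zmat (hC.sqv (tmat * A0)) * (tmat * A0) := ⟨_, rfl⟩
  obtain ⟨B1, hB1⟩ : ∃ B1, B1 = tmat * (zmat α * A0) := ⟨_, rfl⟩
  have hbA : bot A = bot A1 := by rw [hA1, bot_z, bot_t]; rfl
  have hbB : bot B = bot B1 := by rw [hB1, bot_t, top_z, ← hv, hvu]; rfl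
  obtain ⟨i, hi⟩ := exists_z hbA.symm
  obtain ⟨j, hj⟩ := exists_z hbB.symm
  obtain ⟨⟨E, hEt, hEb, hE⟩, -⟩ := hC.pair_side A0 hd
  rw [hC.elt_gc, hC.elt_gc, hC.elt_inv, ← hA1, ← hB1] at hE
  rw [show top A0 = u from rfl, show bot A0 = r from rfl] at hEt hEb
  have hz := hC.m.coord.zp_mem hC.m.ctx
  have hprod : hC.elt A * hC.elt B = zp (i + j) * hC.elt E := by
    rw [hi, hj, hC.elt_z, hC.elt_z, hE, hC.m.coord.zp_add, mul_assoc (zp i), ← mul_assoc (hC.elt A1),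
      ← hC.m.ctx.zg_central (hz j) (hC.elt_mem A1)]
    simp only [mul_assoc]
  have hco := hM.co_shift (Or.inr ⟨E, rfl, rfl⟩ : hM.IsCo (hC.elt E) _) (i + j)
  rw [← hprod] at hco
  convert hco using 1
  obtain ⟨hT, hR⟩ := hM.rows hV hsum hW h1 hd
  have hu0 := ne_zero_of_dt (by rw [h1]; exact one_ne_zero : dt u r ≠ 0)
  have htop1 : top A = r + hC.Φ u • u + i • u := by
    rw [hi, top_z, hA1, top_z, bot_z, top_t, bot_t, hC.sqv_bot, bot_t]
    rfl
  have htop2 : top B = r + j • v := by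
    rw [hj, top_z, ← hbB, ← hv, hB1, top_t, bot_z]
    rfl
  have hve : e v = e u + ι α * e r := by rw [hvu, hM.e_add, hM.e_smul]
  have heu := hM.e_ne hu0.1
  have her := hM.e_ne hu0.2
  have hcu := hM.cje_ne hu0.1
  have hev : e v ≠ 0 := hM.e_ne (bot_ne B)
  have hαF : ι α ≠ 0 := (map_ne_zero ι).2 hd
  rw [← hve] at hR
  have hER : e (bot E) = e u * e v / (ι α * e r) := by
    rw [hEb, eq_div_iff (mul_ne_zero hαF her), hR]
  have hET : e (top E) = e u * cj (e r) / cj (e u) := by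
    rw [hEt, eq_div_iff hcu, hT]
  have h1' := hM.tr1 h1
  have h2 := hM.two_zero
  simp only [hmul, htop1, htop2, hM.e_add, hM.e_smul, hER, hET, hM.iPhi u hu0.1, map_add, map_inv₀, map_mul,
    Prod.mk.injEq, ← hu, ← hv]
  constructor
  · field_simp
    linear_combination hve + e u * h2
  · field_simp
    linear_combination (e u + cj (e u) * e r * 0) * 0 + (e r * cj (e u) + 1) * hve + (ι α * e r) * h1' * 0 +
      (ι α * e r) * h1' + (e u + cj (e u) * e r * e u + e r * ι α - e r * e u * ι α * cj (e r)) * h2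

/-- The group law of `Q`. -/
theorem co_mul {x y : G} {p q : F × F} (hp : hM.IsCo x p) (hq : hM.IsCo y q) :
    hM.IsCo (x * y) (hmul cj p q) := by
  classical
  by_cases hp0 : p.1 = 0
  · obtain ⟨α, rfl⟩ := (hC.m.coord.mem_zp x).1 ((hM.co_zero hp).1 hp0)
    rw [hM.co_fun hp (Or.inl ⟨α, rfl, rfl⟩)]
    simpa [hmul, add_comm] using hM.co_shift hq α
  by_cases hq0 : q.1 = 0
  · obtain ⟨α, rfl⟩ := (hC.m.coord.mem_zp y).1 ((hM.co_zero hq).1 hq0)
    rw [hM.co_fun hq (Or.inl ⟨α, rfl, rfl⟩),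
      ← hC.m.ctx.zg_central (hC.m.coord.zp_mem hC.m.ctx α) (hM.co_mem hp)]
    simpa [hmul] using hM.co_shift hp α
  by_cases hpar : ∃ l : L, q.1 = ι l * p.1
  swap
  · push Not at hpar
    exact hM.co_indep hV hsum hW hp hq hp0 hq0 hpar
  obtain ⟨l, hl⟩ := hpar
  have h2 := hM.two_zero
  by_cases hl1 : l = 1
  · rw [hl1, map_one, one_mul] at hl
    rcases id hp with ⟨α, rfl, rfl⟩ | ⟨A, rfl, rfl⟩
    · exact absurd rfl hp0
    rcases id hq with ⟨α, rfl, rfl⟩ | ⟨B, rfl, rfl⟩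
    · exact absurd rfl hq0
    obtain ⟨i, hi⟩ := exists_z (A := A) (B := B) (hM.e_bij.1 (inv_injective hl)).symm
    have hh : hC.elt A * hC.elt B = zp (i + hC.sqv A) := by
      rw [hi, hC.elt_z, ← mul_assoc, ← hC.m.ctx.zg_central (hC.m.coord.zp_mem hC.m.ctx i) (hC.elt_mem A), mul_assoc,
        ← hC.sqv_spec, hC.m.coord.zp_add]
    refine Or.inl ⟨_, hh, ?_⟩
    have hb := hM.e_ne (bot_ne A)
    have hcb := hM.cje_ne (bot_ne A)
    rw [hi, bot_z, top_z, hM.e_add, hM.e_smul, hC.sqv_bot, map_add, hM.iPhi _ (bot_ne A)]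
    simp only [hmul, map_inv₀, Prod.mk.injEq]
    refine ⟨hM.char_add_self _, ?_⟩
    field_simp
    linear_combination (e (top A) * cj (e (bot A))) * h2
  -- a third element off the common line
  obtain ⟨X, hX⟩ : ∃ X : F, ∀ m : L, X ≠ ι m * p.1 := by
    by_contra hcon
    push Not at hcon
    have hle : Fintype.card F ≤ Fintype.card L := Fintype.card_le_of_surjective (fun m : L => ι m * p.1)
      fun x => by obtain ⟨m, hm⟩ := hcon x; exact ⟨m, hm.symm⟩
    rw [hM.card] at hle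
    have := Fintype.one_lt_card (α := L)
    nlinarith
  have hX0 : X ≠ 0 := fun h => hX 0 (by rw [h, map_zero, zero_mul])
  obtain ⟨w, hw⟩ := hM.e_bij.2 X⁻¹
  have hw0 : w ≠ 0 := fun h => inv_ne_zero hX0 (by rw [← hw, h, hM.e_zero])
  obtain ⟨C, hC'⟩ := exists_mat hw0
  have hy1 : hM.IsCo (hC.elt C) (X, e (top C) / e (bot C)) :=
    Or.inr ⟨C, rfl, by rw [hC', hw, inv_inv]⟩
  set y1 := hC.elt C
  obtain ⟨q2, hq2⟩ := hM.co_total (mul_mem (inv_mem (hC.elt_mem C)) (hM.co_mem hq))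
  have hl0 : ι l ≠ 0 := fun h => hq0 (by rw [hl, h, zero_mul])
  have hindep : ∀ m : L, q.1 ≠ ι m * X := by
    intro m hm
    rw [hl] at hm
    have hm0 : ι m ≠ 0 := fun h => by rw [h, zero_mul] at hm; exact mul_ne_zero hl0 hp0 hm
    exact hX (l / m) (by rw [map_div₀]; field_simp; linear_combination -hm)
  have hinv := hM.co_inv hy1
  have hq2' := hM.co_fun hq2 (hM.co_indep hV hsum hW hinv hq hX0 hq0 hindep)
  set cy : F × F := (X, e (top C) / e (bot C))
  have hq21 : q2.1 = X + q.1 := by rw [hq2']; rfl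
  have hq20 : q2.1 ≠ 0 := by
    rw [hq21]
    intro h
    exact hindep 1 (by rw [map_one, one_mul]; linear_combination h - X * h2)
  have hxy1 := hM.co_indep hV hsum hW hp hy1 hp0 hX0 hX
  have hfst : (hmul cj p cy).1 = p.1 + X := rfl
  have hsum0 : p.1 + X ≠ 0 := fun h => hX 1 (by rw [map_one, one_mul]; linear_combination h - p.1 * h2)
  have hfin := hM.co_indep hV hsum hW hxy1 hq2 (by rw [hfst]; exact hsum0) hq20 (fun m hm => by
    rw [hq21, hfst, hl] at hm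
    by_cases hm1 : m = 1
    · subst hm1
      rw [map_one, one_mul] at hm
      have hpl : (ι l + 1) * p.1 = 0 := by linear_combination hm + p.1 * h2
      rcases mul_eq_zero.1 hpl with h | h
      · rw [← map_one ι, ← map_add, map_eq_zero] at h
        exact hl1 (CharTwo.add_eq_zero.1 h)
      · exact hp0 h
    · have hm' : 1 + ι m ≠ 0 := fun h => by
        rw [← map_one ι, ← map_add, map_eq_zero] at h
        exact hm1 (CharTwo.add_eq_zero.1 h).symm
      refine hX ((l + m) / (1 + m)) ?_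
      rw [map_div₀, map_add, map_add, map_one]
      field_simp
      linear_combination hm + (ι m * X) * h2 - (ι l * p.1) * h2)
  rw [mul_assoc, show hC.elt C * ((hC.elt C)⁻¹ * y) = y by group] at hfin
  have hq2e : hmul cj cy q2 = q := by
    have hherm := hM.co_herm hy1
    rw [hq2']
    refine Prod.ext ?_ ?_
    · simp only [hmul, cy]
      linear_combination X * h2
    · simp only [hmul, cy] at hherm ⊢
      linear_combination hherm + (X * cj X + cj X * q.1) * h2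
  rwa [hmul_assoc, hq2e] at hfin

end LMod

end Cfsg.Agent.Lie.R1C
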