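import Cfsg.Agent.Lib.Lie.SplitRankOne.CubeFun

/-!
The product of two elements with the same second row, read in the coordinates.
-/

set_option autoImplicit false
set_option linter.unusedSectionVars false
set_option linter.unusedSimpArgs false
set_option linter.style.haveILetI false

namespace Cfsg.Agent.Lie.R1C

open Cfsg MulAction Matrix
open Cfsg.Agent.Lie.R1 (D tt t_inv tDt)
open scoped MatrixGroups

variable {G Ω : Type*} [Group G] [MulAction G Ω] [Finite G] {a : Ω} {t : G} {Q : Subgroup G} {L : Type} [Field L]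
  [Fintype L] [CharP L 2] {zp kp : L → G} {x0 : Ω}

namespace CSet

variable (hC : CSet G a t Q L zp kp x0)

/-- The first row of the inverse. -/
noncomputable def Aq (u r : L × L) : L × L := u + hC.Φ r • r

/-- The scalar of the second row of the product. -/
noncomputable def ss (u r : L × L) (α : L) : L := hC.Φ (hC.Aq u r) + α⁻¹

/-- The second row of the product before the torus. -/
noncomputable def R0 (u r : L × L) (α : L) : L × L := r + hC.ss u r α • hC.Aq u r

/-- The element of `V` of a pair of rows. -/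
noncomputable def eps (u r : L × L) : G := hC.F u * (hC.F r)⁻¹

include hC

theorem eps_mem (u r : L × L) : hC.eps u r ∈ vg G a t := mul_mem (hC.F_mem u) (inv_mem (hC.F_mem r))

/-- The torus scalar of a pair of rows. -/
noncomputable def cc (u r : L × L) : L := hC.sg (hC.eps_mem u r) (hC.γ r)

/-- The first row of the product. -/
noncomputable def TT (u r : L × L) : L × L := (hC.cc u r / hC.γ u) • hC.Psi (hC.eps_mem u r) (hC.Aq u r)

/-- The second row of the product. -/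
noncomputable def RR (u r : L × L) (α : L) : L × L :=
  (hC.γ u / hC.cc u r) • hC.Psi (hC.eps_mem u r) (hC.R0 u r α)

theorem cc_ne (u r : L × L) : hC.cc u r ≠ 0 := by
  simpa [cc] using hC.γ_ne r

theorem hc_elt (A : SL(2, L)) :
    hc hC.m.ctx.hS (hC.elt A) = t * hC.gam (tmat * A) * (hC.gam A)⁻¹ * t := by
  rw [hC.gam_t]
  simp only [mul_assoc, tt hC.m.ctx.hS, mul_inv_cancel_left, hC.m.ctx.hS.mul_self, mul_one]

theorem hc_eps (A : SL(2, L)) :
    hc hC.m.ctx.hS (hC.elt A) =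
      kp (hC.cc (top A) (bot A) / hC.γ (top A)) * hC.eps (top A) (bot A) := by
  set u := top A
  set r := bot A
  have hc' := hC.m.ctx
  have hv := hC.eps_mem u r
  have htv : t * hC.eps u r = hC.eps u r * t := by
    conv_rhs => rw [← (hc'.mem_vg.1 hv).2]
    rw [mul_assoc, hc'.hS.mul_self, mul_one]
  have hγu := hC.γ_ne u
  have hγr := hC.γ_ne r
  rw [hC.hc_elt, hC.gam_bot, hC.gam_bot A, bot_t]
  calc t * (kp (hC.γ u) * hC.F u) * (kp (hC.γ r) * hC.F r)⁻¹ * t
      = (t * kp (hC.γ u)) * hC.eps u r * ((kp (hC.γ r))⁻¹ * t) := by rw [eps]; group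
    _ = kp (hC.γ u)⁻¹ * (t * hC.eps u r) * ((kp (hC.γ r))⁻¹ * t) := by rw [hC.m.tk hγu]; group
    _ = kp (hC.γ u)⁻¹ * hC.eps u r * (t * ((kp (hC.γ r))⁻¹ * t)) := by rw [htv]; group
    _ = kp (hC.γ u)⁻¹ * hC.eps u r * kp (hC.γ r) := by
        rw [hC.m.coord.kp_inv hc' hγr, ← mul_assoc t, hC.m.coord.kp_t hc' (inv_ne_zero hγr), inv_inv]
    _ = kp (hC.γ u)⁻¹ * (hC.eps u r * kp (hC.γ r) * (hC.eps u r)⁻¹) * hC.eps u r := by group
    _ = _ := by
        rw [hC.sg_k hv hγr, hC.m.kk (inv_ne_zero hγu) (by simpa using hγr)]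
        congr 2
        rw [cc, div_eq_mul_inv, mul_comm]

theorem tmat_tmat (A : SL(2, L)) : tmat * (tmat * A) = A :=
  ext_rows (by rw [top_t, bot_t]) (by rw [bot_t, top_t])

theorem zp_ne {x : L} (hx : x ≠ 0) : zp x ≠ 1 := fun h =>
  hx (hC.m.coord.zp_inj (h.trans (hC.m.coord.zp_zero hC.m.ctx).symm))

/-- The product of two elements with the same second row. -/
theorem pair_side (A : SL(2, L)) {α : L} (hα : α ≠ 0) :
    (∃ E : SL(2, L), top E = hC.TT (top A) (bot A) ∧ bot E = hC.RR (top A) (bot A) α ∧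
      hC.elt E = (gc hC.m.ctx.hS (hC.elt A))⁻¹ * gc hC.m.ctx.hS (hC.elt (zmat α * A))) ∧
    ∃ E₁ : SL(2, L), top E₁ = hC.R0 (top A) (bot A) α ∧ bot E₁ = hC.Aq (top A) (bot A) ∧
      t * (hC.gam E₁ * (hC.gam (tmat * E₁))⁻¹) * t * (hc hC.m.ctx.hS (hC.elt A))⁻¹ *
        hc hC.m.ctx.hS (hC.elt (zmat α * A)) = kp α⁻¹ := by
  have hS := hC.m.ctx.hS
  have hct := hC.m.ctx
  set u := top A with hu
  set r := bot A with hr
  set x := hC.elt A with hx
  set y := hC.elt (zmat α * A) with hy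
  have hxQ := hC.elt_mem A
  have hx1 := hC.elt_ne A
  have hyQ := hC.elt_mem (zmat α * A)
  have hy1 := hC.elt_ne (zmat α * A)
  have hyx : y = zp α * x := hC.elt_z α A
  set hX := hc hS x with hhX
  set hY := hc hS y with hhY
  set gX := gc hS x with hgX
  set gY := gc hS y with hgY
  set fX := fc hS x with hfX
  set fY := fc hS y with hfY
  have hXD := hc_mem hS hxQ hx1
  have hYD := hc_mem hS hyQ hy1
  have hzQ : ∀ l, zp l ∈ Q := fun l => hct.zg_le_Q (hC.m.coord.zp_mem hct l)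
  -- the two expressions of `t z t`
  have e1 : t * zp α * t = (t * x * t)⁻¹ * (t * y * t) := by
    rw [hyx, show zp α * x = x * zp α from hct.zg_central (hC.m.coord.zp_mem hct α) hxQ]
    simp only [_root_.mul_inv_rev, t_inv hS, mul_assoc, tt hS, inv_mul_cancel_left]
  rw [hC.m.tzt hα, coords_eq hS hxQ hx1, coords_eq hS hyQ hy1] at e1
  set P := gX⁻¹ * gY with hP
  set P' := hX⁻¹ * P * hX with hP'
  have hPQ : P' ∈ Q := by
    simpa using R1.conj_Q hS (Subgroup.mem_inf.1 (inv_mem hXD)).1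
      (mul_mem (inv_mem (gc_mem hS hxQ hx1)) (gc_mem hS hyQ hy1))
  have hP1 : P' ≠ 1 := by
    intro h
    have hgeq : gX = gY := by
      have h' : P = 1 := by
        have := congrArg (fun w => hX * w * hX⁻¹) h
        simpa [hP', mul_assoc] using this
      exact inv_mul_eq_one.1 h'
    rw [hgX, hgY, hx, hy, hC.elt_gc, hC.elt_gc] at hgeq
    have := congrArg (fun B => tmat * B) (hC.elt_inj hgeq)
    rw [tmat_tmat hC, tmat_tmat hC] at this
    have h0 := congrArg hC.elt this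
    rw [← hx, ← hy, hyx] at h0
    exact hC.zp_ne hα (by simpa using h0.symm)
  set d := hX⁻¹ * hY with hd
  have hdD : d ∈ D G a t := mul_mem (inv_mem hXD) hYD
  have e2 : t * (P' * d) * t = fX * zp α⁻¹ * kp α⁻¹ * t * (zp α⁻¹ * fY⁻¹) := by
    have : fX * (zp α⁻¹ * kp α⁻¹ * t * zp α⁻¹) * fY⁻¹ = t * (P' * d) * t := by
      rw [e1, hP', hd, hP]
      simp only [hhX, hhY, hgX, hgY, hfX, hfY, hx, hy, _root_.mul_inv_rev, t_inv hS, mul_assoc, mul_inv_cancel_left,
        mul_inv_cancel, inv_mul_cancel_left, mul_one]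
    rw [← this]; group
  have e3 : t * (P' * d) * t = gc hS P' * (hc hS P' * d) * t * ((t * d * t)⁻¹ * fc hS P' * (t * d * t)) := by
    rw [show t * (P' * d) * t = (t * P' * t) * (t * d * t) by simp only [mul_assoc, tt hS], coords_eq hS hPQ hP1]
    simp only [_root_.mul_inv_rev, t_inv hS, mul_assoc, tt hS, mul_inv_cancel_left]
  obtain ⟨h1, h2, -⟩ := R1.form_unique hS (gc_mem hS hPQ hP1) (mul_mem (hc_mem hS hPQ hP1) hdD)
    (by simpa using R1.conj_Q hS (Subgroup.mem_inf.1 (inv_mem (tDt hS hdD))).1 (fc_mem hS hPQ hP1))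
    (mul_mem (fc_mem hS hxQ hx1) (hzQ _)) (hct.kg_le (hC.m.coord.kp_mem hct (inv_ne_zero hα)))
    (mul_mem (hzQ _) (inv_mem (fc_mem hS hyQ hy1))) (e3.symm.trans e2)
  -- the matrix of `P'`
  set W := tmat * (zmat (hC.sqv A) * A) with hW
  set E₁ := zmat α⁻¹ * (zmat (hC.sqv W) * W) with hE₁
  have hWb : bot W = hC.Aq u r := by rw [hW, bot_t, top_z, hC.sqv_bot]; rfl
  have hWt : top W = r := by rw [hW, top_t, bot_z]
  have hE₁b : bot E₁ = hC.Aq u r := by rw [hE₁, bot_z, bot_z, hWb]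
  have hE₁t : top E₁ = hC.R0 u r α := by
    rw [hE₁, top_z, top_z, bot_z, hC.sqv_bot W, hWb, hWt, R0, ss, add_smul]
    abel
  have hg : gc hS P' = hC.elt E₁ := by
    rw [h1, hE₁, hC.elt_z, hW, hC.fc_elt,
      hct.zg_central (hC.m.coord.zp_mem hct α⁻¹) (hC.elt_mem _)]
  have hP'e : P' = hC.elt (tmat * E₁) := by
    rw [hC.elt_t, ← hg, (coords_gc hS hPQ hP1).1]
  refine ⟨⟨kmat (hC.cc u r / hC.γ u) * (mapσ (hC.sg (hC.eps_mem u r)) (tmat * E₁) * hC.rho (hC.eps_mem u r)),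
    ?_, ?_, ?_⟩, E₁, hE₁t, hE₁b, ?_⟩
  · rw [top_k (div_ne_zero (hC.cc_ne u r) (hC.γ_ne u)), hC.top_act, top_t, hE₁b]; rfl
  · rw [bot_k (div_ne_zero (hC.cc_ne u r) (hC.γ_ne u)), hC.bot_act, bot_t, hE₁t, inv_div]; rfl
  · rw [hC.elt_k (div_ne_zero (hC.cc_ne u r) (hC.γ_ne u)), hC.elt_v, ← hP'e, hP', hhX, hx, hC.hc_eps]
    simp only [hP, hgX, hgY, hx, hy, hu, hr]
    group
  · have hh : hc hS P' = t * (hC.gam E₁ * (hC.gam (tmat * E₁))⁻¹) * t := by
      rw [hP'e, hC.hc_elt, tmat_tmat hC]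
      simp only [mul_assoc]
    rw [← hh, mul_assoc, ← hd]
    exact h2

/-- Two elements with the same second row give the same product. -/
theorem pair {u r : L × L} (h : dt u r = 1) {α : L} (hα : α ≠ 0) :
    hC.RR (u + α • r) r α = hC.RR u r α ∧
      hC.TT (u + α • r) r = hC.TT u r + hC.Φ (hC.RR u r α) • hC.RR u r α := by
  set A := mk2 u r h with hA
  set B := zmat α * A with hB
  have hBA : zmat α * B = A := by
    refine ext_rows ?_ (by rw [bot_z, hB, bot_z])
    rw [top_z, hB, bot_z, top_z, add_assoc, ← add_smul, CharTwo.add_self_eq_zero, zero_smul, add_zero]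
  obtain ⟨⟨E, h1, h2, h3⟩, -⟩ := hC.pair_side A hα
  obtain ⟨⟨E', h1', h2', h3'⟩, -⟩ := hC.pair_side B hα
  rw [hBA] at h3'
  have he : hC.elt E' = (hC.elt E)⁻¹ := by rw [h3, h3', ← hB]; group
  rw [hC.elt_inv] at he
  have hE := hC.elt_inj he
  have hb : top B = u + α • r := by rw [hB, top_z]; rfl
  have hbb : bot B = r := by rw [hB, bot_z]; rfl
  rw [hb, hbb] at h1' h2'
  have ht : top A = u := rfl
  have hr' : bot A = r := rfl
  rw [ht, hr'] at h1 h2
  refine ⟨?_, ?_⟩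
  · rw [← h2', hE, bot_z, h2]
  · rw [← h1', hE, top_z, hC.sqv_bot, h1, h2]

end CSet

end Cfsg.Agent.Lie.R1C
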