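import Cfsg.Agent.Lib.Lie.SplitRankOne.CubeField

/-!
`V` acts on rows by norm-one multiplications; the rows of a product.
-/

set_option autoImplicit false
set_option linter.unusedSectionVars false
set_option linter.unusedSimpArgs false
set_option linter.style.haveILetI false

namespace Cfsg.Agent.Lie.R1C

open Cfsg MulAction Matrix
open Cfsg.Agent.Lie.R1 (D tt t_inv tDt)
open scoped MatrixGroups

variable {G Ω : Type*} [Group G] [MulAction G Ω] [Finite G] [FaithfulSMul G Ω] {a : Ω} {t : G} {Q : Subgroup G}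
  {L : Type} [Field L] [Fintype L] [CharP L 2] {zp kp : L → G} {x0 : Ω} {hC : CSet G a t Q L zp kp x0}
  {F : Type} [Field F] [Fintype F] {ι : L →+* F} {cj : F →+* F} {e : L × L → F}

namespace LMod

variable (hM : LMod hC F ι cj e)

include hM

theorem e_zero : e 0 = 0 := by
  have h := hM.e_add 0 0
  rwa [add_zero, left_eq_add] at h

theorem e_ne {u : L × L} (hu : u ≠ 0) : e u ≠ 0 := fun h => hu (hM.e_bij.1 (h.trans hM.e_zero.symm))

theorem cje_ne {u : L × L} (hu : u ≠ 0) : cj (e u) ≠ 0 := fun h => hM.e_ne hu (by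
  rw [← hM.cj_cj (e u), h, map_zero])

theorem iPhi (u : L × L) (hu : u ≠ 0) : ι (hC.Φ u) = (e u * cj (e u))⁻¹ := by
  rw [hM.nm u hu, map_inv₀, inv_inv]

theorem tr1 {u r : L × L} (h : dt u r = 1) : e u * cj (e r) + cj (e u) * e r = 1 := by
  rw [← hM.tr, h, map_one]

theorem e_neg {u r : L × L} : e u = e r ↔ u = r := ⟨fun h => hM.e_bij.1 h, fun h => h ▸ rfl⟩

theorem char_add_self (x : F) : x + x = 0 := by
  haveI := hM.charTwo
  exact CharTwo.add_self_eq_zero x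

theorem two_zero : (2 : F) = 0 := by
  haveI := hM.charTwo
  exact CharTwo.two_eq_zero

/-- An element of `W` acts as a multiplication. -/
theorem exists_rot {w : G} (hw : w ∈ wg G a t) :
    ∃ c : F, c * cj c = 1 ∧ ∀ r, e (hC.Psi (hC.m.ctx.wg_le_vg hw) r) = c * e r := by
  classical
  haveI := hM.charTwo
  set hv := hC.m.ctx.wg_le_vg hw
  set Ψ := hC.Psi hv with hΨ
  have hΨ0 : ∀ r : L × L, r ≠ 0 → Ψ r ≠ 0 := fun r hr => by rw [hΨ, hC.Psi_wg hw]; exact vm_ne hr _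
  have hdt : ∀ u r, dt (Ψ u) (Ψ r) = dt u r := fun u r => by rw [hΨ, hC.dt_Psi, hC.sg_one hw]
  have hsmul : ∀ (l : L) r, Ψ (l • r) = l • Ψ r := fun l r => by rw [hΨ, hC.Psi_smul, hC.sg_one hw]
  have hN : ∀ r : L × L, r ≠ 0 → e (Ψ r) * cj (e (Ψ r)) = e r * cj (e r) := fun r hr => by
    rw [hM.nm _ (hΨ0 r hr), hM.nm r hr, hΨ, (hC.Psi_row hv hr).2.2, hC.sg_one hw]
  obtain ⟨r1, hr1⟩ := hM.e_bij.2 1
  have hr10 : r1 ≠ 0 := fun h => one_ne_zero (α := F) (by rw [← hr1, h, hM.e_zero])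
  obtain ⟨u0, r0, h0⟩ : ∃ u r : L × L, dt u r = 1 := ⟨(1, 0), (0, 1), by simp [dt]⟩
  obtain ⟨z0, hz0, hz00⟩ : ∃ z : F, z + cj z = 1 ∧ z ≠ 0 := by
    refine ⟨e u0 * cj (e r0), ?_, mul_ne_zero
      (hM.e_ne (ne_zero_of_dt (by rw [h0]; exact one_ne_zero : dt u0 r0 ≠ 0)).1)
      (hM.cje_ne (ne_zero_of_dt (by rw [h0]; exact one_ne_zero : dt u0 r0 ≠ 0)).2)⟩
    rw [map_mul, hM.cj_cj]
    exact hM.tr1 h0
  obtain ⟨rz, hrz⟩ := hM.e_bij.2 z0
  have hrz0 : rz ≠ 0 := fun h => hz00 (by rw [← hrz, h, hM.e_zero])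
  set c := e (Ψ r1) with hcdef
  have hc : c * cj c = 1 := by rw [hcdef, hN r1 hr10, hr1, map_one, one_mul]
  have hc0 : c ≠ 0 := left_ne_zero_of_mul_eq_one hc
  set d := e (Ψ rz) / c with hddef
  have hd : e (Ψ rz) = c * d := by rw [hddef, mul_div_cancel₀ _ hc0]
  have hdd : d + cj d = 1 := by
    have h1 := hM.tr (Ψ r1) (Ψ rz)
    rw [hdt, hM.tr, hr1, hrz, map_one, one_mul, one_mul, ← hcdef, hd, map_mul] at h1
    linear_combination -h1 + (hz0 : z0 + cj z0 = 1) - (d + cj d) * hc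
  have hdn : d * cj d = z0 * cj z0 := by
    have h1 := hN rz hrz0
    rw [hd, hrz, map_mul] at h1
    linear_combination h1 - (d * cj d) * hc
  have hspan : ∀ r : L × L, ∃ x y : L, r = x • r1 + y • rz := by
    intro r
    refine ⟨dt r rz, dt r1 r, hM.e_bij.1 ?_⟩
    rw [hM.e_add, hM.e_smul, hM.e_smul, hM.tr, hM.tr, hr1, hrz, map_one, mul_one]
    linear_combination (-e r) * hz0 - (cj (e r) * z0) * hM.two_zero
  have hlin : ∀ x y : L, e (Ψ (x • r1 + y • rz)) = c * (ι x + ι y * d) := fun x y => by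
    rw [hΨ, hC.Psi_add, ← hΨ, hsmul, hsmul, hM.e_add, hM.e_smul, hM.e_smul, ← hcdef, hd]
    ring
  refine ⟨c, hc, fun r => ?_⟩
  have hor : d = z0 ∨ d = cj z0 := by
    have : (d - z0) * (d - cj z0) = 0 := by linear_combination -d * hz0 + d * hdd - hdn
    rcases mul_eq_zero.1 this with h | h
    exacts [Or.inl (sub_eq_zero.1 h), Or.inr (sub_eq_zero.1 h)]
  rcases hor with h | h
  · obtain ⟨x, y, rfl⟩ := hspan r
    rw [hlin, h, hM.e_add, hM.e_smul, hM.e_smul, hr1, hrz]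
    ring
  · exfalso
    have hfl : ∀ v : L × L, e (Ψ v) = c * cj (e v) := by
      intro v
      obtain ⟨x, y, rfl⟩ := hspan v
      rw [hlin, h, hM.e_add, hM.e_smul, hM.e_smul, hr1, hrz, map_add, map_mul, map_mul, hM.cj_ι, hM.cj_ι, map_one]
      ring
    have hw2 : w * w = 1 := by
      refine hC.eq_one_of_line (mul_mem hw hw) hr10 (l := 1) ?_
      rw [one_smul]
      refine hM.e_bij.1 ?_
      have := hC.Psi_mul hv hv hr10
      rw [this, ← hΨ, hfl, hfl, map_mul, hM.cj_cj]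
      linear_combination e r1 * hc
    have hw1 : w = 1 := by
      obtain ⟨j, hj⟩ := hC.m.ctx.hS.odd_card.of_dvd_nat (Subgroup.orderOf_dvd_natCard _ (hC.m.ctx.vg_le hv))
      have := pow_orderOf_eq_one w
      rwa [hj, pow_succ, pow_mul, pow_two, hw2, one_pow, one_mul] at this
    have hid : ∀ v, Ψ v = v := fun v => by
      subst hw1
      rw [hΨ, hC.Psi_wg (one_mem (wg G a t)), hC.rho_one, vm_one]
    have hc1 : c = 1 := by rw [hcdef, hid, hr1]
    have hdz : d = z0 := by rw [hddef, hid, hrz, hc1, div_one]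
    rw [h] at hdz
    rw [hdz, hM.char_add_self] at hz0
    exact zero_ne_one hz0

variable (hV : vg G a t = wg G a t)

include hV

/-- The multiplier of an element of `V`. -/
noncomputable def rot {v : G} (hv : v ∈ vg G a t) : F := (hM.exists_rot (w := v) (hV ▸ hv)).choose

theorem rot_norm {v : G} (hv : v ∈ vg G a t) : hM.rot hV hv * cj (hM.rot hV hv) = 1 :=
  (hM.exists_rot (w := v) (hV ▸ hv)).choose_spec.1

theorem rot_spec {v : G} (hv : v ∈ vg G a t) (r : L × L) : e (hC.Psi hv r) = hM.rot hV hv * e r :=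
  (hM.exists_rot (w := v) (hV ▸ hv)).choose_spec.2 r

theorem rot_ne {v : G} (hv : v ∈ vg G a t) : hM.rot hV hv ≠ 0 := left_ne_zero_of_mul_eq_one (hM.rot_norm hV hv)

theorem rot_mul {u v : G} (hu : u ∈ vg G a t) (hv : v ∈ vg G a t) :
    hM.rot hV (mul_mem hu hv) = hM.rot hV hu * hM.rot hV hv := by
  obtain ⟨r, hr⟩ := hM.e_bij.2 1
  have hr0 : r ≠ 0 := fun h => one_ne_zero (α := F) (by rw [← hr, h, hM.e_zero])
  have h := hM.rot_spec hV (mul_mem hu hv) r
  rw [hC.Psi_mul hu hv hr0, hM.rot_spec hV hu, hM.rot_spec hV hv, hr, mul_one, mul_one] at h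
  exact h.symm

theorem rot_congr {u v : G} (hu : u ∈ vg G a t) (hv : v ∈ vg G a t) (h : u = v) :
    hM.rot hV hu = hM.rot hV hv := by subst h; rfl

theorem sg_triv {v : G} (hv : v ∈ vg G a t) (x : L) : hC.sg hv x = x := hC.sg_one (hV ▸ hv) x

variable (hsum : hC.HSum) (hW : wg G a t ≠ ⊥)

/-- The row invariant. -/
noncomputable def Hf (r : L × L) : F := hM.rot hV (hC.F_mem r) * (ι (hC.γ r) / e r) ^ 3

theorem Hf_smul {l : L} (hl : l ≠ 0) {r : L × L} (hr : r ≠ 0) : hM.Hf hV (l • r) = hM.Hf hV r := by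
  obtain ⟨h1, h2, -⟩ := hC.smul_row hl hr
  rw [Hf, Hf, hM.rot_congr hV (hC.F_mem (l • r)) (hC.F_mem r) h2, h1, hM.e_smul, map_mul,
    mul_div_mul_left _ _ ((map_ne_zero ι).2 hl)]

include hsum hW

theorem gam_sq {u r : L × L} (hu : u ≠ 0) (hr : r ≠ 0) :
    ι (hC.γ u) ^ 2 * (e r * cj (e r)) = ι (hC.γ r) ^ 2 * (e u * cj (e u)) := by
  have hlab : hC.lab u = hC.lab r := RingEquiv.ext fun x => by
    rw [CSet.lab, CSet.lab, hM.sg_triv hV, hM.sg_triv hV]
  have h := congrArg ι (hC.Gf_const hsum hW hu hr hlab)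
  rw [CSet.Gf, CSet.Gf, map_mul, map_mul, map_pow, map_pow, hM.iPhi u hu, hM.iPhi r hr] at h
  have := hM.e_ne hu
  have := hM.cje_ne hu
  have := hM.e_ne hr
  have := hM.cje_ne hr
  field_simp at h
  linear_combination h

theorem RR_eq_side {u r : L × L} (h : dt u r = 1) {α : L} (hα : α ≠ 0) :
    e (hC.RR u r α) * (ι (hC.γ r) * cj (e r) * (ι α * e u)) * hM.rot hV (hC.F_mem r) =
      ι (hC.γ u) * hM.rot hV (hC.F_mem u) * (e r * cj (e u) * (e u + ι α * e r)) := by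
  obtain ⟨hu, hr⟩ := ne_zero_of_dt (by rw [h]; exact one_ne_zero : dt u r ≠ 0)
  have hAd : dt (hC.Aq u r) r = 1 := dt_add_smul h _
  have hA := (ne_zero_of_dt (by rw [hAd]; exact one_ne_zero : dt (hC.Aq u r) r ≠ 0)).1
  have h1 := hM.tr1 h
  have hec := hM.e_ne hu
  have hecr := hM.e_ne hr
  have hcu := hM.cje_ne hu
  have hcr := hM.cje_ne hr
  have hαF : ι α ≠ 0 := (map_ne_zero ι).2 hα
  have h2 := hM.two_zero
  have hAe : e (hC.Aq u r) = cj (e u) * e r / cj (e r) := by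
    rw [CSet.Aq, hM.e_add, hM.e_smul, hM.iPhi r hr]
    field_simp
    linear_combination h1 + (1 - cj (e u) * e r) * h2
  have hAn : ι (hC.Φ (hC.Aq u r)) = (e u * cj (e u))⁻¹ := by
    rw [hM.iPhi _ hA, hAe, map_div₀, map_mul, hM.cj_cj, hM.cj_cj]
    field_simp
  have hε : hM.rot hV (hC.eps_mem u r) * hM.rot hV (hC.F_mem r) = hM.rot hV (hC.F_mem u) := by
    rw [← hM.rot_mul hV]
    exact hM.rot_congr hV _ _ (by rw [CSet.eps, inv_mul_cancel_right])
  rw [CSet.RR, CSet.cc, hM.sg_triv hV, hM.e_smul, hM.rot_spec hV, CSet.R0, CSet.ss, hM.e_add, hM.e_smul,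
    map_add, map_inv₀, hAn, hAe, map_div₀, ← hε]
  have hγr : ι (hC.γ r) ≠ 0 := (map_ne_zero ι).2 (hC.γ_ne r)
  field_simp
  linear_combination (ι (hC.γ u) * hM.rot hV (hC.eps_mem u r) * hM.rot hV (hC.F_mem r) * ι α) *
    (h1 + (1 - cj (e u) * e r) * h2)

theorem Hf_step {u r : L × L} (h : dt u r = 1) {α : L} (hα : α ≠ 0) :
    hM.Hf hV (u + α • r) = hM.Hf hV u := by
  obtain ⟨hu, hr⟩ := ne_zero_of_dt (by rw [h]; exact one_ne_zero : dt u r ≠ 0)
  have h' := dt_add_smul h α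
  have hv := (ne_zero_of_dt (by rw [h']; exact one_ne_zero : dt (u + α • r) r ≠ 0)).1
  have e1 := hM.RR_eq_side hV hsum hW h hα
  have e2 := hM.RR_eq_side hV hsum hW h' hα
  rw [(hC.pair h hα).1] at e2
  have hve : e (u + α • r) = e u + ι α * e r := by rw [hM.e_add, hM.e_smul]
  have hue : e u = e (u + α • r) + ι α * e r := by rw [hve, add_assoc, hM.char_add_self, add_zero]
  rw [← hue] at e2
  rw [← hve] at e1
  set v := u + α • r
  have g := hM.gam_sq hV hsum hW hu hv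
  have hec := hM.e_ne hu
  have hev := hM.e_ne hv
  have hcv := hM.cje_ne hv
  have hcu := hM.cje_ne hu
  have hecr := hM.e_ne hr
  have hγu : ι (hC.γ u) ≠ 0 := (map_ne_zero ι).2 (hC.γ_ne u)
  have key : e r * (ι (hC.γ v) * hM.rot hV (hC.F_mem v) * cj (e v) * e u ^ 2) =
      e r * (ι (hC.γ u) * hM.rot hV (hC.F_mem u) * cj (e u) * e v ^ 2) := by
    linear_combination e v * e1 - e u * e2
  have key' := mul_left_cancel₀ hecr key
  rw [Hf, Hf]
  field_simp
  refine mul_left_cancel₀ hcu ?_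
  linear_combination (-(e u ^ 2 * hM.rot hV (hC.F_mem v) * ι (hC.γ v))) * g + e v * ι (hC.γ u) ^ 2 * key'

theorem Hf_const {u r : L × L} (hu : u ≠ 0) (hr : r ≠ 0) : hM.Hf hV u = hM.Hf hV r := by
  by_cases hd : dt u r = 0
  · obtain ⟨l, rfl⟩ := eq_smul_of_dt hr hd
    exact hM.Hf_smul hV (fun h => hu (by rw [h, zero_smul])) hr
  set s := (dt u r)⁻¹ • (u + r) with hs
  have h1 : dt u s = 1 := by
    rw [hs, dt_smul_right, dt_comm u (u + r), dt_add_left, dt_self, zero_add, dt_comm r u, inv_mul_cancel₀ hd]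
  have h2 : r = u + dt u r • s := by
    rw [hs, smul_smul, mul_inv_cancel₀ hd, one_smul, ← add_assoc,
      show u + u = 0 by ext <;> simp [CharTwo.add_self_eq_zero], zero_add]
  conv_rhs => rw [h2]
  exact (hM.Hf_step hV hsum hW h1 hd).symm

/-- The rows of a product. -/
theorem rows {u r : L × L} (h : dt u r = 1) {α : L} (hα : α ≠ 0) :
    e (hC.TT u r) * cj (e u) = e u * cj (e r) ∧
      e (hC.RR u r α) * (ι α * e r) = e u * (e u + ι α * e r) := by
  obtain ⟨hu, hr⟩ := ne_zero_of_dt (by rw [h]; exact one_ne_zero : dt u r ≠ 0)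
  have h1 := hM.tr1 h
  have hH := hM.Hf_const hV hsum hW hu hr
  have g := hM.gam_sq hV hsum hW hu hr
  have hec := hM.e_ne hu
  have hecr := hM.e_ne hr
  have hcu := hM.cje_ne hu
  have hcr := hM.cje_ne hr
  have hγu : ι (hC.γ u) ≠ 0 := (map_ne_zero ι).2 (hC.γ_ne u)
  have hγr : ι (hC.γ r) ≠ 0 := (map_ne_zero ι).2 (hC.γ_ne r)
  have hcFr := hM.rot_ne hV (hC.F_mem r)
  simp only [Hf] at hH
  field_simp at hH
  have hkey : hM.rot hV (hC.F_mem u) * ι (hC.γ u) * e r ^ 2 * cj (e u) =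
      hM.rot hV (hC.F_mem r) * ι (hC.γ r) * e u ^ 2 * cj (e r) := by
    refine mul_left_cancel₀ (mul_ne_zero (mul_ne_zero (pow_ne_zero 2 hγr) hecr) hec) ?_
    linear_combination (e r * cj (e r)) * hH - (e r ^ 3 * hM.rot hV (hC.F_mem u) * ι (hC.γ u)) * g
  refine ⟨?_, ?_⟩
  · have hAe : e (hC.Aq u r) = cj (e u) * e r / cj (e r) := by
      rw [CSet.Aq, hM.e_add, hM.e_smul, hM.iPhi r hr]
      field_simp
      linear_combination h1 + (1 - cj (e u) * e r) * hM.two_zero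
    have hε : hM.rot hV (hC.eps_mem u r) * hM.rot hV (hC.F_mem r) = hM.rot hV (hC.F_mem u) := by
      rw [← hM.rot_mul hV]
      exact hM.rot_congr hV _ _ (by rw [CSet.eps, inv_mul_cancel_right])
    rw [CSet.TT, CSet.cc, hM.sg_triv hV, hM.e_smul, hM.rot_spec hV, map_div₀, hAe]
    field_simp
    refine mul_left_cancel₀ (mul_ne_zero (mul_ne_zero hcFr hγu) hecr) ?_
    linear_combination (ι (hC.γ r) * ι (hC.γ u) * cj (e u) ^ 2 * e r ^ 2) * hε + (ι (hC.γ r) * cj (e u)) * hkey -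
      (hM.rot hV (hC.F_mem r) * e u * cj (e r)) * g
  · have e1 := hM.RR_eq_side hV hsum hW h hα
    refine mul_left_cancel₀ (mul_ne_zero (mul_ne_zero (mul_ne_zero hcFr hγr) hcr) hec) ?_
    linear_combination (e r) * e1 + (e u + ι α * e r) * hkey

end LMod

end Cfsg.Agent.Lie.R1C
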