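import Cfsg.Agent.Lib.Lie.SplitRankOne.CubeLabel
import Mathlib.GroupTheory.Solvable
import Mathlib.GroupTheory.IndexNormal

/-!
The centraliser `W` acts on rows without fixed lines, and its cocycle lies in `W`.
-/

set_option autoImplicit false
set_option linter.unusedSectionVars false
set_option linter.unusedSimpArgs false
set_option linter.style.haveILetI false

namespace Cfsg.Agent.Lie.R1C

open Cfsg MulAction Matrix
open Cfsg.Agent.Lie.R1 (D tt t_inv tDt)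
open scoped MatrixGroups

section Mat

variable {L : Type} [Field L] [CharP L 2]

theorem eigen_row (P : SL(2, L)) {x : L} (hx : (P.1 0 0 + x) * (P.1 1 1 + x) + P.1 0 1 * P.1 1 0 = 0) :
    ∃ r : L × L, r ≠ 0 ∧ vm r P = x • r := by
  have h2 : (2 : L) = 0 := CharTwo.two_eq_zero
  by_cases hc : P.1 1 0 = 0
  · by_cases hd : P.1 1 1 + x = 0
    · exact ⟨(0, 1), by simp, Prod.ext (by simp [vm, hc]) (by simp [vm]; linear_combination hd - x * h2)⟩
    · refine ⟨(P.1 1 1 + x, P.1 0 1), fun e => hd (congrArg Prod.fst e), Prod.ext ?_ ?_⟩ <;> simp [vm]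
      · linear_combination hx - (P.1 1 1 * x + x ^ 2) * h2
      · linear_combination (P.1 1 1 * P.1 0 1) * h2
  · refine ⟨(P.1 1 0, P.1 0 0 + x), fun e => hc (congrArg Prod.fst e), Prod.ext ?_ ?_⟩ <;> simp [vm]
    · linear_combination (P.1 0 0 * P.1 1 0) * h2
    · linear_combination hx - (x * P.1 0 0 + x ^ 2) * h2

theorem vm_mul (r : L × L) (P P' : SL(2, L)) : vm r (P * P') = vm (vm r P) P' := by
  simp [vm, Matrix.SpecialLinearGroup.coe_mul, Matrix.mul_apply, Fin.sum_univ_two]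
  constructor <;> ring

theorem vm_one (r : L × L) : vm r (1 : SL(2, L)) = r := by simp [vm]

theorem ext_vm {P P' : SL(2, L)} (h : ∀ r : L × L, r ≠ 0 → vm r P = vm r P') : P = P' := by
  have h1 := h (1, 0) (by simp)
  have h2 := h (0, 1) (by simp)
  simp [vm] at h1 h2
  exact sl_ext h1.1 h1.2 h2.1 h2.2

theorem vm_ne {r : L × L} (hr : r ≠ 0) (P : SL(2, L)) : vm r P ≠ 0 := by
  intro h
  have := congrArg (fun x => vm x P⁻¹) h
  simp only [← vm_mul, mul_inv_cancel, vm_one] at this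
  exact hr (this.trans (by simp [vm]))

theorem vm_sq (r : L × L) (P : SL(2, L)) :
    vm (vm r P) P = (P.1 0 0 + P.1 1 1) • vm r P + r := by
  have hd := det_eq P
  have h2 : (2 : L) = 0 := CharTwo.two_eq_zero
  ext <;> simp [vm]
  · linear_combination r.1 * hd - (r.1 * P.1 0 0 * P.1 1 1) * h2
  · linear_combination r.2 * hd - (r.2 * P.1 0 0 * P.1 1 1) * h2

theorem dt_polar (u r : L × L) (P : SL(2, L)) :
    dt u (vm r P) + dt r (vm u P) = (P.1 0 0 + P.1 1 1) * dt u r := by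
  have h2 : (2 : L) = 0 := CharTwo.two_eq_zero
  simp only [dt, vm]
  linear_combination (u.1 * r.1 * P.1 0 1 + u.2 * r.2 * P.1 1 0) * h2

/-- The elements commuting with a matrix without eigenvalue. -/
theorem comm_form {P X : SL(2, L)} (hb : P.1 0 1 ≠ 0) (h : P * X = X * P) :
    ∃ a0 a1 : L, ∀ r : L × L, vm r X = a0 • r + a1 • vm r P := by
  have e := congrArg (fun A : SL(2, L) => A.1) h
  simp only [Matrix.SpecialLinearGroup.coe_mul] at e
  have e00 := congrFun (congrFun e 0) 0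
  have e01 := congrFun (congrFun e 0) 1
  simp [Matrix.mul_apply, Fin.sum_univ_two] at e00 e01
  set a1 := X.1 0 1 / P.1 0 1 with ha1
  have h1 : a1 * P.1 0 1 = X.1 0 1 := div_mul_cancel₀ _ hb
  have h10 : a1 * P.1 1 0 = X.1 1 0 := by
    refine mul_left_cancel₀ hb ?_
    linear_combination P.1 1 0 * h1 - e00
  refine ⟨X.1 0 0 + a1 * P.1 0 0, a1, fun r => ?_⟩
  have h2 : (2 : L) = 0 := CharTwo.two_eq_zero
  have h11 : X.1 1 1 + a1 * P.1 1 1 = X.1 0 0 + a1 * P.1 0 0 := by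
    refine mul_left_cancel₀ hb ?_
    linear_combination e01 + (P.1 1 1 - P.1 0 0) * h1 + (X.1 0 1 * P.1 1 1 - X.1 0 1 * P.1 0 0) * h2
  ext <;> simp [vm]
  · linear_combination (-r.2) * h10 - (a1 * P.1 0 0 * r.1) * h2
  · linear_combination (-r.1) * h1 + r.2 * h11 - (r.2 * a1 * P.1 1 1) * h2

theorem comm_comm {P X Y : SL(2, L)} (hb : P.1 0 1 ≠ 0) (hX : P * X = X * P) (hY : P * Y = Y * P) :
    X * Y = Y * X := by
  obtain ⟨a0, a1, hx⟩ := comm_form hb hX
  obtain ⟨b0, b1, hy⟩ := comm_form hb hY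
  refine ext_vm fun r _ => ?_
  rw [vm_mul, vm_mul, hx, hy, hx, hy, vm_add, vm_add, vm_smul, vm_smul, vm_smul, vm_smul]
  module

theorem no_eigen_b {P : SL(2, L)}
    (h : ∀ x : L, (P.1 0 0 + x) * (P.1 1 1 + x) + P.1 0 1 * P.1 1 0 ≠ 0) :
    P.1 0 1 ≠ 0 ∧ P.1 0 0 + P.1 1 1 ≠ 0 :=
  ⟨fun e => h (P.1 0 0) (by rw [e, CharTwo.add_self_eq_zero]; ring),
    fun e => h 1 (by linear_combination det_eq P + e + (CharTwo.two_eq_zero : (2 : L) = 0))⟩

/-- An odd-order matrix normalising an abelian group containing an element without eigenvalue centralises it. -/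
theorem norm_cent {P X : SL(2, L)} (hb : P.1 0 1 ≠ 0) (hτ : P.1 0 0 + P.1 1 1 ≠ 0)
    (hc : P * (X * P * X⁻¹) = (X * P * X⁻¹) * P) {n : ℕ} (hn : Odd n) (hX : X ^ n = 1) : P * X = X * P := by
  obtain ⟨a0, a1, hy⟩ := comm_form hb hc
  set Y := X * P * X⁻¹ with hY
  have htr : Y.1 0 0 + Y.1 1 1 = P.1 0 0 + P.1 1 1 := by
    have : Matrix.trace Y.1 = Matrix.trace P.1 := by
      rw [hY, Matrix.SpecialLinearGroup.coe_mul, Matrix.SpecialLinearGroup.coe_mul, Matrix.trace_mul_cycle,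
        ← Matrix.SpecialLinearGroup.coe_mul, inv_mul_cancel, Matrix.SpecialLinearGroup.coe_one, one_mul]
    simpa [Matrix.trace_fin_two] using this
  have y1 := hy (1, 0)
  have y2 := hy (0, 1)
  simp [vm] at y1 y2
  have h2 : (2 : L) = 0 := CharTwo.two_eq_zero
  have ha1 : a1 = 1 := by
    refine mul_right_cancel₀ hτ ?_
    rw [one_mul]
    conv_rhs => rw [← htr, y1.1, y2.2]
    linear_combination (-a0) * h2
  subst ha1
  have hd := det_eq Y
  have hdP := det_eq P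
  rw [y1.1, y1.2, y2.1, y2.2] at hd
  have h0 : a0 * (a0 + (P.1 0 0 + P.1 1 1)) = 0 := by linear_combination hd - hdP
  have hsq : X * X * P = P * (X * X) := by
    rcases mul_eq_zero.1 h0 with h | h
    · have hYP : Y = P := sl_ext (by rw [y1.1, h]; simp) (by rw [y1.2]; simp) (by rw [y2.1]; simp)
        (by rw [y2.2, h]; simp)
      have hXP : X * P = P * X := mul_inv_eq_iff_eq_mul.1 (hY ▸ hYP)
      rw [mul_assoc, hXP, ← mul_assoc, hXP, mul_assoc]
    · have ha : a0 = P.1 0 0 + P.1 1 1 := CharTwo.add_eq_zero.1 h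
      have hPY : P * Y = 1 := by
        refine ext_vm fun r _ => ?_
        rw [vm_mul, hy, vm_sq, one_smul, vm_one, ha, ← add_assoc, ← add_smul, CharTwo.add_self_eq_zero,
          zero_smul, zero_add]
      have hYi : X * P * X⁻¹ = P⁻¹ := eq_inv_of_mul_eq_one_right hPY
      have hXX : X * X * P * (X * X)⁻¹ = P := by
        rw [show X * X * P * (X * X)⁻¹ = X * (X * P * X⁻¹) * X⁻¹ by group, hYi,
          show X * P⁻¹ * X⁻¹ = (X * P * X⁻¹)⁻¹ by group, hYi, inv_inv]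
      exact mul_inv_eq_iff_eq_mul.1 hXX
  obtain ⟨j, hj⟩ := hn
  have hXj : X = (X * X) ^ (j + 1) := by
    rw [← pow_two, ← pow_mul, show 2 * (j + 1) = n + 1 by omega, pow_succ, hX, one_mul]
  rw [hXj]
  exact (show Commute P (X * X) from hsq.symm).pow_right (j + 1)

end Mat

theorem exists_abelian_normal {H : Type*} [Group H] [Group.IsSolvable H] [Nontrivial H] :
    ∃ N : Subgroup H, N.Normal ∧ N ≠ ⊥ ∧ ∀ x ∈ N, ∀ y ∈ N, x * y = y * x := by
  obtain ⟨n, hn⟩ := Group.IsSolvable.solvable (G := H)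
  classical
  set m := Nat.find (⟨n, hn⟩ : ∃ k, derivedSeries H k = ⊥) with hm
  have hm0 : derivedSeries H m = ⊥ := Nat.find_spec (⟨n, hn⟩ : ∃ k, derivedSeries H k = ⊥)
  obtain ⟨j, hj⟩ : ∃ j, m = j + 1 := by
    refine ⟨m - 1, ?_⟩
    rcases Nat.eq_zero_or_pos m with h | h
    · rw [h, derivedSeries_zero] at hm0
      exact absurd hm0 top_ne_bot
    · omega
  refine ⟨derivedSeries H j, derivedSeries_normal H j, Nat.find_min (⟨n, hn⟩ : ∃ k, derivedSeries H k = ⊥) (by omega),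
    fun x hx y hy => ?_⟩
  have h := Subgroup.commutator_mem_commutator hx hy
  rw [← derivedSeries_succ, ← hj, hm0, Subgroup.mem_bot, commutatorElement_def] at h
  exact commutatorElement_eq_one_iff_mul_comm.1 h

variable {G Ω : Type*} [Group G] [MulAction G Ω] [Finite G] {a : Ω} {t : G} {Q : Subgroup G} {L : Type} [Field L]
  [Fintype L] [CharP L 2] {zp kp : L → G} {x0 : Ω}

namespace CSet

variable (hC : CSet G a t Q L zp kp x0)

include hC

theorem sg_wg {w : G} (hw : w ∈ wg G a t) : hC.sg (hC.m.ctx.wg_le_vg hw) = RingEquiv.refl L :=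
  RingEquiv.ext (hC.sg_one hw)

theorem map_refl (A : SL(2, L)) : mapσ (RingEquiv.refl L) A = A := ext_rows rfl rfl

theorem Psi_wg {w : G} (hw : w ∈ wg G a t) (r : L × L) :
    hC.Psi (hC.m.ctx.wg_le_vg hw) r = vm r (hC.rho (hC.m.ctx.wg_le_vg hw)) := by
  rw [Psi, hC.sg_wg hw]; rfl

theorem rho_mul {u w : G} (hu : u ∈ wg G a t) (hw : w ∈ wg G a t) :
    hC.rho (hC.m.ctx.wg_le_vg (mul_mem hu hw)) =
      hC.rho (hC.m.ctx.wg_le_vg hw) * hC.rho (hC.m.ctx.wg_le_vg hu) := by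
  refine ext_vm fun r hr => ?_
  rw [vm_mul, ← hC.Psi_wg hw, ← hC.Psi_wg hu, ← hC.Psi_wg (mul_mem hu hw),
    ← hC.Psi_mul (hC.m.ctx.wg_le_vg hu) (hC.m.ctx.wg_le_vg hw) hr]

variable [FaithfulSMul G Ω]

theorem eq_one_of_line {w : G} (hw : w ∈ wg G a t) {r : L × L} (hr : r ≠ 0) {l : L}
    (h : hC.Psi (hC.m.ctx.wg_le_vg hw) r = l • r) : w = 1 := by
  have hct := hC.m.ctx
  have hv := hct.wg_le_vg hw
  have hl : l ≠ 0 := by
    intro e
    rw [hC.Psi_wg hw, e, zero_smul] at h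
    exact vm_ne hr _ h
  have hl1 : l = 1 := by
    have h1 := (hC.Psi_row hv hr).2.2
    rw [h, (hC.smul_row hl hr).2.2, hC.sg_wg hw, RingEquiv.refl_apply, div_eq_iff (pow_ne_zero 2 hl)] at h1
    exact sq_inj (by rw [one_pow]; exact (mul_right_eq_self₀.1 h1.symm).resolve_right (hC.Φ_ne r))
  rw [hl1, one_smul] at h
  obtain ⟨A, rfl⟩ := exists_mat hr
  obtain ⟨α, hα⟩ := exists_z (A := A) (B := mapσ (hC.sg hv) A * hC.rho hv) (by rw [hC.bot_act, h])
  have e := hC.elt_v hv A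
  rw [hα, hC.elt_z] at e
  set x := hC.elt A
  have hz := hC.m.coord.zp_mem hct α
  have hn : ∀ n : ℕ, w ^ n * x * (w ^ n)⁻¹ = zp α ^ n * x := by
    intro n
    induction n with
    | zero => simp
    | succ n ih =>
      have hcz : w * zp α ^ n * w⁻¹ = zp α ^ n := by
        rw [hct.wg_comm_zg hw (pow_mem hz n), mul_inv_cancel_right]
      rw [pow_succ', show w * w ^ n * x * (w * w ^ n)⁻¹ = w * (w ^ n * x * (w ^ n)⁻¹) * w⁻¹ by group, ih,
        show w * (zp α ^ n * x) * w⁻¹ = w * zp α ^ n * w⁻¹ * (w * x * w⁻¹) by group, hcz, ← e, pow_succ, mul_assoc]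
  obtain ⟨j, hj⟩ := hct.hS.odd_card.of_dvd_nat (Subgroup.orderOf_dvd_natCard _ (hct.vg_le hv))
  have h1 := hn (orderOf w)
  rw [pow_orderOf_eq_one, one_mul, inv_one, mul_one, right_eq_mul] at h1
  rw [hj, pow_succ, pow_mul, pow_two, hct.zg_sq hz, one_pow, one_mul] at h1
  rw [h1, one_mul] at e
  have hwt : w • (t • a) = t • a := (Subgroup.mem_inf.1 (hct.vg_le hv)).2
  have hcm : ∀ B : SL(2, L), w * hC.m.mg B = hC.m.mg B * w := fun B => by
    have := hC.conj_mg hv B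
    rw [hC.sg_wg hw, hC.map_refl, mul_inv_eq_iff_eq_mul] at this
    exact this
  have hx : w • hC.m.mg A • x0 = hC.m.mg A • x0 := by
    rw [← hC.elt_smul, smul_smul, mul_inv_eq_iff_eq_mul.1 e.symm, mul_smul, hwt]
  have hx0 : w • x0 = x0 := by
    rw [smul_smul, hcm, mul_smul] at hx
    exact MulAction.injective _ hx
  refine eq_of_smul_eq_smul (α := Ω) fun b => ?_
  rw [one_smul]
  by_cases hb : hC.m.inB b
  · rcases hb with rfl | ⟨y, rfl⟩
    · exact hct.vg_fix hv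
    · rw [smul_smul, hct.wg_comm_zg hw (hC.m.coord.zp_mem hct y), mul_smul, hwt]
  · obtain ⟨B, rfl⟩ := hC.mg_surj hb
    rw [smul_smul, hcm, mul_smul, hx0]

theorem rho_one : hC.rho (hC.m.ctx.wg_le_vg (one_mem (wg G a t))) = 1 := by
  refine hC.mg_inj ?_
  rw [map_one, hC.rho_spec]

theorem rho_pow {w : G} (hw : w ∈ wg G a t) (n : ℕ) :
    hC.rho (hC.m.ctx.wg_le_vg (pow_mem hw n)) = hC.rho (hC.m.ctx.wg_le_vg hw) ^ n := by
  induction n with
  | zero => simpa using hC.rho_one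
  | succ n ih =>
    have := hC.rho_mul hw (pow_mem hw n)
    simp only [← pow_succ'] at this
    rw [this, ih, pow_succ]

theorem rho_inv {w : G} (hw : w ∈ wg G a t) :
    hC.rho (hC.m.ctx.wg_le_vg (inv_mem hw)) = (hC.rho (hC.m.ctx.wg_le_vg hw))⁻¹ := by
  refine eq_inv_of_mul_eq_one_left ?_
  have := hC.rho_mul hw (inv_mem hw)
  simp only [mul_inv_cancel] at this
  rw [← this, hC.rho_one]

theorem no_eigen {w : G} (hw : w ∈ wg G a t) (h1 : w ≠ 1) (x : L) :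
    ((hC.rho (hC.m.ctx.wg_le_vg hw)).1 0 0 + x) * ((hC.rho (hC.m.ctx.wg_le_vg hw)).1 1 1 + x) +
      (hC.rho (hC.m.ctx.wg_le_vg hw)).1 0 1 * (hC.rho (hC.m.ctx.wg_le_vg hw)).1 1 0 ≠ 0 := fun hx => by
  obtain ⟨r, hr, e⟩ := eigen_row _ hx
  exact h1 (hC.eq_one_of_line hw hr ((hC.Psi_wg hw r).trans e))

theorem rho_inj {u w : G} (hu : u ∈ wg G a t) (hw : w ∈ wg G a t)
    (h : hC.rho (hC.m.ctx.wg_le_vg hu) = hC.rho (hC.m.ctx.wg_le_vg hw)) : u = w := by
  have hm := mul_mem (inv_mem hw) hu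
  refine (inv_mul_eq_one.1 (hC.eq_one_of_line hm (r := ((1 : L), (0 : L))) (by simp) (l := 1) ?_)).symm
  rw [hC.Psi_wg hm, hC.rho_mul (inv_mem hw) hu, h, hC.rho_inv hw, mul_inv_cancel, vm_one, one_smul]

theorem wg_abelian {u w : G} (hu : u ∈ wg G a t) (hw : w ∈ wg G a t) : u * w = w * u := by
  by_cases hbot : wg G a t = ⊥
  · rw [hbot, Subgroup.mem_bot] at hu hw
    rw [hu, hw]
  haveI : Nontrivial (wg G a t) := (Subgroup.nontrivial_iff_ne_bot _).2 hbot
  have hodd : Odd (Nat.card (wg G a t)) :=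
    hC.m.ctx.odd_vg.of_dvd_nat (Subgroup.card_dvd_of_le hC.m.ctx.wg_le_vg)
  haveI := Cfsg.Agent.S0205.result hodd
  obtain ⟨N, hN, hN1, hNc⟩ := exists_abelian_normal (H := wg G a t)
  obtain ⟨⟨⟨n, hn⟩, hnN⟩, hne⟩ := (Subgroup.nontrivial_iff_exists_ne_one N).1 ((Subgroup.nontrivial_iff_ne_bot N).2 hN1) |>
    fun ⟨x, hx, hx1⟩ => (⟨⟨x, hx⟩, hx1⟩ : ∃ y : N, (y : wg G a t) ≠ 1)
  have hn1 : n ≠ 1 := fun e => hne (Subtype.ext e)
  set P := hC.rho (hC.m.ctx.wg_le_vg hn) with hP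
  obtain ⟨hb, hτ⟩ := no_eigen_b (hC.no_eigen hn hn1)
  have key : ∀ {x : G} (hx : x ∈ wg G a t),
      P * hC.rho (hC.m.ctx.wg_le_vg hx) = hC.rho (hC.m.ctx.wg_le_vg hx) * P := by
    intro x hx
    refine norm_cent hb hτ ?_ hodd ?_
    · have hm : x⁻¹ * n * x ∈ wg G a t := mul_mem (mul_mem (inv_mem hx) hn) hx
      have hmN : (⟨x⁻¹ * n * x, hm⟩ : wg G a t) ∈ N := by
        have := hN.conj_mem ⟨n, hn⟩ hnN ⟨x⁻¹, inv_mem hx⟩
        convert this using 1
        exact Subtype.ext (by simp)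
      have hcomm : n * (x⁻¹ * n * x) = (x⁻¹ * n * x) * n := congrArg Subtype.val (hNc _ hnN _ hmN)
      have e : hC.rho (hC.m.ctx.wg_le_vg hm) =
          hC.rho (hC.m.ctx.wg_le_vg hx) * P * (hC.rho (hC.m.ctx.wg_le_vg hx))⁻¹ := by
        rw [hC.rho_mul (mul_mem (inv_mem hx) hn) hx, hC.rho_mul (inv_mem hx) hn, hC.rho_inv hx, mul_assoc]
      rw [← e]
      have h1 := hC.rho_mul hm hn
      have h2 := hC.rho_mul hn hm
      simp only [hcomm] at h2
      rw [h1] at h2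
      exact h2
    · rw [← hC.rho_pow hx]
      have : x ^ Nat.card (wg G a t) = 1 := congrArg Subtype.val (pow_card_eq_one' (x := (⟨x, hx⟩ : wg G a t)))
      simp only [this]
      exact hC.rho_one
  refine hC.rho_inj (mul_mem hu hw) (mul_mem hw hu) ?_
  rw [hC.rho_mul hu hw, hC.rho_mul hw hu]
  exact comm_comm hb (key hw) (key hu)

omit [FaithfulSMul G Ω] in
theorem lam_V {χ : stabilizer G a →* ℂˣ} (hχ : IsTorusChar G a t Q χ) {x : G} {v : G} (hx : IsKV G a t x v) :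
    lam χ x = (χ ⟨v, hC.m.ctx.vg_fix hx.1⟩ : ℂ) := by
  obtain ⟨hv, k, hk, rfl⟩ := hx
  rw [lam_mul_left χ (hC.m.ctx.kg_fix hk), lam_K χ hC.m.ctx.hS hχ (by rw [← hC.m.ctx.kg_eq]; exact hk),
    one_mul, lam_of_mem χ (hC.m.ctx.vg_fix hv)]

/-- The torus characters do not vanish on whole cosets of `Z`. -/
def HSum : Prop :=
  ∀ χ : stabilizer G a →* ℂˣ, IsTorusChar G a t Q χ → χ ≠ 1 → ∀ A : SL(2, L), ∃ α : L,
    lam χ (R1C.hc hC.m.ctx.hS (hC.elt (zmat α * A))) ≠ 1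

omit [FaithfulSMul G Ω] in
/-- The elements attached to pairs of rows generate `V` modulo its commutator subgroup. -/
theorem gen (hsum : hC.HSum) (ψ : vg G a t →* ℂˣ)
    (h : ∀ u r : L × L, dt u r = 1 → ψ ⟨_, hC.eps_mem u r⟩ = 1) : ψ = 1 := by
  by_contra hne
  obtain ⟨χ, hχ, hval⟩ := hC.m.ctx.exists_torus_char ψ
  have hχ1 : χ ≠ 1 := fun e => hne (MonoidHom.ext fun v => by
    rw [← hval ⟨v, hC.m.ctx.vg_fix v.2⟩ v.2, e]; rfl)
  obtain ⟨α, hα⟩ := hsum χ hχ hχ1 1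
  refine hα ?_
  rw [hC.lam_V hχ (hC.hc_kv _), hval _ (hC.eps_mem _ _), h _ _ (dt_top_bot _), Units.val_one]

omit [FaithfulSMul G Ω] in
theorem sep_wg {x : G} (hx : x ∈ vg G a t)
    (h : ∀ ψ : vg G a t →* ℂˣ, (∀ w : vg G a t, (w : G) ∈ wg G a t → ψ w = 1) → ψ ⟨x, hx⟩ = 1) :
    x ∈ wg G a t := by
  classical
  by_contra hne
  have hct := hC.m.ctx
  set N := (wg G a t).subgroupOf (vg G a t) with hN
  obtain ⟨v0, hv0, hgen⟩ := hct.vg_mod_wg
  haveI hNn : N.Normal := ⟨fun w hw g => by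
    have hwW : (w : G) ∈ wg G a t := hw
    show ((g * w * g⁻¹ : vg G a t) : G) ∈ wg G a t
    refine Subgroup.mem_inf.2 ⟨hct.vg_le (g * w * g⁻¹).2, Subgroup.mem_centralizer_iff.2 fun s hs => ?_⟩
    have hz : s ∈ zg G a := hct.mem_zg.2 (Or.inr hs)
    have hz' : (g : G)⁻¹ * s * g ∈ zg G a := by simpa using hct.conj_zg (hct.vg_fix (inv_mem g.2)) hz
    have hcw := hct.wg_comm_zg hwW hz'
    simp only [Subgroup.coe_mul, Subgroup.coe_inv]
    calc s * ((g : G) * w * (g : G)⁻¹) = g * (((g : G)⁻¹ * s * g) * w) * (g : G)⁻¹ := by group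
      _ = g * ((w : G) * ((g : G)⁻¹ * s * g)) * (g : G)⁻¹ := by rw [hcw]
      _ = _ := by group⟩
  have hcyc : ∀ y : vg G a t ⧸ N, ∃ i : ℤ, y = (QuotientGroup.mk ⟨v0, hv0⟩ : vg G a t ⧸ N) ^ i := by
    intro y
    induction y using QuotientGroup.induction_on with
    | H y =>
      obtain ⟨i, hi⟩ := hgen y y.2
      refine ⟨i, ?_⟩
      rw [← QuotientGroup.mk_zpow, eq_comm, QuotientGroup.eq]
      show (((⟨v0, hv0⟩ : vg G a t) ^ i)⁻¹ * y : vg G a t).1 ∈ wg G a t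
      simpa [_root_.zpow_neg] using hi
  letI : CommGroup (vg G a t ⧸ N) :=
    { (inferInstance : Group (vg G a t ⧸ N)) with
      mul_comm := fun x y => by
        obtain ⟨i, rfl⟩ := hcyc x
        obtain ⟨j, rfl⟩ := hcyc y
        rw [← _root_.zpow_add, ← _root_.zpow_add, add_comm] }
  haveI : NeZero (Monoid.exponent (vg G a t ⧸ N) : ℂ) := ⟨by
    exact_mod_cast Monoid.exponent_ne_zero_of_finite⟩
  obtain ⟨φ, hφ⟩ := CommGroup.exists_apply_ne_one_of_hasEnoughRootsOfUnity (vg G a t ⧸ N) ℂ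
    (a := QuotientGroup.mk ⟨x, hx⟩) (fun e => hne (Subgroup.mem_subgroupOf.1 ((QuotientGroup.eq_one_iff (N := N) ⟨x, hx⟩).1 e)))
  refine hφ (h (φ.comp (QuotientGroup.mk' N)) fun w hw => ?_)
  show φ (QuotientGroup.mk w) = 1
  rw [(QuotientGroup.eq_one_iff w).2 hw, map_one]

/-- The cocycle as an endomorphism of `V`. -/
noncomputable def Fhom : vg G a t →* vg G a t :=
  MonoidHom.mk' (fun v => ⟨hC.Fc v.2, hC.Fc_mem v.2⟩) fun v v' => Subtype.ext (hC.Fc_mul v.2 v'.2)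

omit [FaithfulSMul G Ω] in
theorem Fhom_apply {v : G} (hv : v ∈ vg G a t) : hC.Fhom ⟨v, hv⟩ = ⟨hC.Fc hv, hC.Fc_mem hv⟩ := rfl

omit [FaithfulSMul G Ω] in
/-- The cocycle maps `W` into `W`. -/
theorem Fc_wg (hsum : hC.HSum) {w : G} (hw : w ∈ wg G a t) : hC.Fc (hC.m.ctx.wg_le_vg hw) ∈ wg G a t := by
  refine hC.sep_wg (hC.Fc_mem _) fun ψ hψ => ?_
  let Δ : vg G a t →* ℂˣ := ψ.comp hC.Fhom * (ψ * ψ)
  have hΔ : Δ = 1 := hC.gen hsum Δ fun u r h => by
    rw [MonoidHom.mul_apply, MonoidHom.mul_apply, MonoidHom.comp_apply, hC.Fhom_apply, ← pow_two]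
    exact hC.Fc_sq ψ h
  have h1 := DFunLike.congr_fun hΔ ⟨w, hC.m.ctx.wg_le_vg hw⟩
  rw [MonoidHom.mul_apply, MonoidHom.mul_apply, MonoidHom.comp_apply, hC.Fhom_apply, hψ ⟨w, _⟩ hw, one_mul,
    mul_one, MonoidHom.one_apply] at h1
  exact h1

omit [FaithfulSMul G Ω] in
theorem sg_comp {u v : G} (hu : u ∈ vg G a t) (hv : v ∈ wg G a t) (x : L) :
    hC.sg (mul_mem hu (hC.m.ctx.wg_le_vg hv)) x = hC.sg hu x := by
  rw [hC.sg_mul hu (hC.m.ctx.wg_le_vg hv), hC.sg_one hv]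

omit [FaithfulSMul G Ω] in
theorem sg_congr {u v : G} (hu : u ∈ vg G a t) (hv : v ∈ vg G a t) (h : u = v) : hC.sg hu = hC.sg hv := by
  subst h; rfl

omit [FaithfulSMul G Ω] in
/-- The label of a row is invariant under `W`. -/
theorem lab_wg (hsum : hC.HSum) {w : G} (hw : w ∈ wg G a t) {r : L × L} (hr : r ≠ 0) (x : L) :
    hC.sg (hC.F_mem (hC.Psi (hC.m.ctx.wg_le_vg hw) r)) x = hC.sg (hC.F_mem r) x := by
  have hv := hC.m.ctx.wg_le_vg hw
  have h := (hC.Psi_row hv hr).1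
  have h1 := hC.sg_comp (hC.F_mem (hC.Psi hv r)) (hC.Fc_wg hsum hw) x
  rw [← h1, hC.sg_congr _ (mul_mem hv (hC.F_mem r)) h, hC.sg_mul hv (hC.F_mem r), hC.sg_one hw]

set_option maxHeartbeats 2000000 in
/-- The key identity: `Φ` is the inverse of an anisotropic quadratic form. -/
theorem Phi_form (hsum : hC.HSum) {w : G} (hw : w ∈ wg G a t) {p : ℕ} (hp : p.Prime) (hwp : orderOf w = p)
    {u : L × L} (hu : u ≠ 0) :
    hC.Φ u * dt u (vm u (hC.rho (hC.m.ctx.wg_le_vg hw))) =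
      (hC.rho (hC.m.ctx.wg_le_vg hw)).1 0 0 + (hC.rho (hC.m.ctx.wg_le_vg hw)).1 1 1 := by
  classical
  have hct := hC.m.ctx
  have hwv := hct.wg_le_vg hw
  have hw1 : w ≠ 1 := fun e => hp.ne_one (by rw [← hwp, e, orderOf_one])
  set P := hC.rho hwv with hP
  set τ := P.1 0 0 + P.1 1 1 with hτdef
  have hno := hC.no_eigen hw hw1
  obtain ⟨hb, hτ⟩ := no_eigen_b hno
  set u1 := vm u P with hu1
  have hu10 : u1 ≠ 0 := vm_ne hu P
  have hN : dt u u1 ≠ 0 := by
    intro e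
    obtain ⟨l, hl⟩ := eq_smul_of_dt hu (by rwa [dt_comm] : dt u1 u = 0)
    exact hw1 (hC.eq_one_of_line hw hu ((hC.Psi_wg hw u).trans hl))
  set m := (dt u u1)⁻¹ with hm
  have hm0 : m ≠ 0 := inv_ne_zero hN
  set r := m • u1 with hr
  have hdt : dt u r = 1 := by rw [hr, dt_smul_right, hm, inv_mul_cancel₀ hN]
  set α := τ / m with hα
  have hα0 : α ≠ 0 := div_ne_zero hτ hm0
  have hαm : α * m = τ := div_mul_cancel₀ _ hm0
  set u2 := u + α • r with hu2
  have hu2' : u2 = vm u1 P := by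
    rw [hu2, hr, smul_smul, hαm, hu1, vm_sq, add_comm]
  have hPu : hC.Psi hwv u = u1 := hC.Psi_wg hw u
  have hPu1 : hC.Psi hwv u1 = u2 := by rw [hC.Psi_wg hw, hu2']
  obtain ⟨f1, g1, p1⟩ := hC.Psi_row hwv hu
  obtain ⟨f2, g2, p2⟩ := hC.Psi_row hwv hu10
  rw [hPu] at f1 g1 p1
  rw [hPu1] at f2 g2 p2
  rw [hC.sg_one hw] at g1 g2 p1 p2
  set c := hC.Fc hwv with hc
  have hcW : c ∈ wg G a t := hC.Fc_wg hsum hw
  have hF1 : hC.F u1 = w * hC.F u * c⁻¹ := eq_mul_inv_of_mul_eq f1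
  have hF2 : hC.F u2 = w * hC.F u1 * c⁻¹ := eq_mul_inv_of_mul_eq f2
  obtain ⟨sr, fr, φr⟩ := hC.smul_row hm0 hu10
  rw [← hr] at sr fr φr
  -- the elements of `V` of the two pairs
  set d := hC.F u * c * (hC.F u)⁻¹ with hd
  have hd' : d ∈ wg G a t := by
    refine Subgroup.mem_inf.2 ⟨hct.vg_le (mul_mem (mul_mem (hC.F_mem u) (hC.Fc_mem hwv)) (inv_mem (hC.F_mem u))),
      Subgroup.mem_centralizer_iff.2 fun s hs => ?_⟩
    have hz := hct.mem_zg.2 (Or.inr hs)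
    have hz' : (hC.F u)⁻¹ * s * hC.F u ∈ zg G a := by
      simpa using hct.conj_zg (hct.vg_fix (inv_mem (hC.F_mem u))) hz
    calc s * d = hC.F u * (((hC.F u)⁻¹ * s * hC.F u) * c) * (hC.F u)⁻¹ := by rw [hd]; group
      _ = hC.F u * (c * ((hC.F u)⁻¹ * s * hC.F u)) * (hC.F u)⁻¹ := by rw [hct.wg_comm_zg hcW hz']
      _ = d * s := by rw [hd]; group
  have he1 : hC.eps u r = d * w⁻¹ := by rw [eps, fr, hF1, hd]; group
  have he2 : hC.eps u2 r = (hC.eps u r)⁻¹ := by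
    rw [he1, eps, fr, hF2, hF1,
      show w * (w * hC.F u * c⁻¹) * c⁻¹ * (w * hC.F u * c⁻¹)⁻¹ = w * w * d⁻¹ * w⁻¹ by rw [hd]; group,
      mul_assoc w w, hC.wg_abelian hw (inv_mem hd')]
    group
  have heW : hC.eps u r ∈ wg G a t := he1 ▸ mul_mem hd' (inv_mem hw)
  have heW2 : hC.eps u2 r ∈ wg G a t := he2 ▸ inv_mem heW
  -- periodicity of the torus coordinate
  have hκ : hC.γ u1 = hC.γ u := by
    set κ := hC.sg (hC.F_mem u1) (hC.kap hwv) with hκdef
    have hκ0 : κ ≠ 0 := by simpa [hκdef] using hC.kap_ne hwv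
    have hiter : ∀ n : ℕ, hC.γ (hC.Psi (hct.wg_le_vg (pow_mem hw n)) u) * κ ^ n = hC.γ u := by
      intro n
      induction n with
      | zero =>
        have h0 : hC.Psi (hct.wg_le_vg (pow_mem hw 0)) u = u := by
          rw [hC.Psi_wg (pow_mem hw 0), hC.rho_pow hw 0, pow_zero, vm_one]
        rw [h0, pow_zero, mul_one]
      | succ n ih =>
        set v := hC.Psi (hct.wg_le_vg (pow_mem hw n)) u with hv
        have hv0 : v ≠ 0 := by rw [hv, hC.Psi_wg (pow_mem hw n)]; exact vm_ne hu _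
        have hnext : hC.Psi (hct.wg_le_vg (pow_mem hw (n + 1))) u = hC.Psi hwv v := by
          rw [hv, hC.Psi_wg (pow_mem hw (n + 1)), hC.Psi_wg hw, hC.Psi_wg (pow_mem hw n), ← vm_mul, hC.rho_pow hw,
            hC.rho_pow hw, pow_succ]
        have hlab : hC.sg (hC.F_mem (hC.Psi hwv v)) (hC.kap hwv) = κ := by
          rw [hκdef, hC.lab_wg hsum hw hv0, hv, hC.lab_wg hsum (pow_mem hw n) hu]
          have h := hC.lab_wg hsum hw hu (hC.kap hwv)
          rw [← h]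
          congr 1
          exact hC.sg_congr _ _ (by rw [hPu])
        obtain ⟨-, g, -⟩ := hC.Psi_row hwv hv0
        rw [hlab, hC.sg_one hw] at g
        rw [hnext, pow_succ', ← mul_assoc, g, ih]
    have hκp : κ ^ p = 1 := by
      have h := hiter p
      have hone : w ^ p = 1 := by rw [← hwp, pow_orderOf_eq_one]
      have hP0 : hC.Psi (hct.wg_le_vg (pow_mem hw p)) u = u := by
        rw [hC.Psi_wg (pow_mem hw p)]
        simp only [hone]
        rw [hC.rho_one, vm_one]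
      rw [hP0] at h
      exact mul_left_cancel₀ (hC.γ_ne u) (h.trans (mul_one _).symm)
    have hκq : κ ^ (Fintype.card L - 1) = 1 := FiniteField.pow_card_sub_one_eq_one κ hκ0
    have hpq : ¬ p ∣ Fintype.card L - 1 := by
      rintro ⟨j, hj⟩
      have hone : P ^ p = 1 := by
        rw [hP, ← hC.rho_pow hw]
        have : w ^ p = 1 := by rw [← hwp, pow_orderOf_eq_one]
        simp only [this]
        exact hC.rho_one
      obtain ⟨x, hx⟩ := exists_eigen P (by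
        rw [show Fintype.card L = p * j + 1 by have := Fintype.card_pos (α := L); omega, pow_succ, pow_mul, hone,
          one_pow, one_mul])
      exact hno x hx
    have hκ1 : κ = 1 := by
      refine orderOf_eq_one_iff.1 (Nat.eq_one_of_dvd_coprimes ((Nat.Prime.coprime_iff_not_dvd hp).2 hpq)
        (orderOf_dvd_of_pow_eq_one hκp) (orderOf_dvd_of_pow_eq_one hκq))
    rw [hκ1, mul_one] at g1
    exact g1
  have hγ2 : hC.γ u2 = hC.γ u := by
    have h : hC.sg (hC.F_mem u2) (hC.kap hwv) = hC.sg (hC.F_mem u1) (hC.kap hwv) := by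
      rw [← hC.lab_wg hsum hw hu10 (hC.kap hwv)]
      congr 1
      exact hC.sg_congr _ _ (by rw [hPu1])
    rw [h] at g2
    have hk0 : hC.sg (hC.F_mem u1) (hC.kap hwv) = 1 := by
      refine mul_left_cancel₀ (hC.γ_ne u1) ?_
      rw [g1, hκ, mul_one]
    rw [hk0, mul_one] at g2
    rw [g2, hκ]
  -- the two sides of the product
  have hcc : ∀ {v : L × L}, hC.eps v r ∈ wg G a t → hC.cc v r = m * hC.γ u := fun {v} hv => by
    rw [cc, hC.sg_congr _ (hct.wg_le_vg hv) rfl, hC.sg_one hv, sr, hκ]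
  set ω := hC.rho (hC.eps_mem u r) with hω
  have hω2 : hC.rho (hC.eps_mem u2 r) = ω⁻¹ := by
    rw [hω, ← hC.rho_inv heW]
    simp only [he2]
  have hcomm : P * ω = ω * P := by
    have h1 := hC.rho_mul heW hw
    have h2 := hC.rho_mul hw heW
    simp only [hC.wg_abelian hw heW] at h2
    rw [h1] at h2
    exact h2
  obtain ⟨a0, a1, hωf'⟩ := comm_form hb hcomm
  have hωf : ∀ v, vm v ω = a0 • v + a1 • vm v P := hωf'
  have hωdet : a0 ^ 2 + τ * a0 * a1 + a1 ^ 2 = 1 := by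
    have h := dt_vm u u1 ω
    rw [hωf, hωf, hu1, vm_sq] at h
    simp only [dt, Prod.fst_add, Prod.snd_add, Prod.smul_fst, Prod.smul_snd, smul_eq_mul] at h hN ⊢
    have h2 : (2 : L) = 0 := CharTwo.two_eq_zero
    refine mul_right_cancel₀ hN ?_
    rw [one_mul, ← hu1] at *
    linear_combination h - (a0 * a1 * u.1 * u.2 + a1 * (a0 + a1 * τ) * u1.1 * u1.2) * h2
  have hωinv : ∀ v, vm v ω⁻¹ = (a0 + a1 * τ) • v + a1 • vm v P := by
    intro v
    have h : vm ((a0 + a1 * τ) • v + a1 • vm v P) ω = v := by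
      rw [hωf, vm_add, vm_smul, vm_smul, vm_sq]
      obtain ⟨v1, v2⟩ := v
      have h2 : (2 : L) = 0 := CharTwo.two_eq_zero
      ext <;> simp
      · linear_combination v1 * hωdet + (a1 ^ 2 * τ * (vm (v1, v2) P).1 + a0 * a1 * (vm (v1, v2) P).1) * h2
      · linear_combination v2 * hωdet + (a1 ^ 2 * τ * (vm (v1, v2) P).2 + a0 * a1 * (vm (v1, v2) P).2) * h2
    conv_lhs => rw [← h, ← vm_mul, mul_inv_cancel, vm_one]
  set φ := hC.Φ r with hφ
  set n := φ * m with hn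
  obtain ⟨hR, hT⟩ := hC.pair hdt hα0
  rw [← hu2] at hR hT
  have hA : hC.Aq u r = u + n • u1 := by rw [Aq, ← hφ, hr, smul_smul]
  have hB : hC.Aq u2 r = vm u1 P + n • u1 := by rw [Aq, ← hφ, hr, smul_smul, ← hu2']
  have hT1 : hC.TT u r = m • vm (u + n • u1) ω := by
    rw [TT, hcc heW, mul_div_assoc, div_self (hC.γ_ne u), mul_one, hA, Psi,
      hC.sg_congr _ (hct.wg_le_vg heW) rfl, hC.sg_wg heW]
    rfl
  have hT2 : hC.TT u2 r = m • vm (vm u1 P + n • u1) ω⁻¹ := by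
    rw [TT, hcc heW2, hγ2, mul_div_assoc, div_self (hC.γ_ne u), mul_one, hB, Psi,
      hC.sg_congr _ (hct.wg_le_vg heW2) rfl, hC.sg_wg heW2, hω2]
    rfl
  set s := hC.ss u r α with hs
  have hR1 : hC.RR u r α = m⁻¹ • vm (r + s • (u + n • u1)) ω := by
    rw [RR, hcc heW, div_mul_cancel_right₀ (hC.γ_ne u), R0, ← hs, hA, Psi,
      hC.sg_congr _ (hct.wg_le_vg heW) rfl, hC.sg_wg heW]
    rfl
  set X := a0 + n * a1
  have hsum2 : hC.TT u r + hC.TT u2 r = (m * τ * X) • u1 := by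
    rw [hT1, hT2, hωf, hωinv]
    simp only [vm_add, vm_smul]
    simp only [← hu1, vm_sq u1 P]
    rw [show vm u1 P = τ • u1 + u from vm_sq u P]
    have h2 : (2 : L) = 0 := CharTwo.two_eq_zero
    ext <;> simp [X]
    · linear_combination (m * (a0 * u.1 + a1 * τ * u.1 + n * a1 * u.1 + a1 * u1.1 + a1 * τ * n * u1.1 +
        n * a0 * u1.1 + a1 * τ ^ 2 * u1.1)) * h2
    · linear_combination (m * (a0 * u.2 + a1 * τ * u.2 + n * a1 * u.2 + a1 * u1.2 + a1 * τ * n * u1.2 +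
        n * a0 * u1.2 + a1 * τ ^ 2 * u1.2)) * h2
  rw [hT, ← add_assoc, show hC.TT u r + hC.TT u r = 0 from by ext <;> simp [CharTwo.add_self_eq_zero],
    zero_add] at hsum2
  set Φ' := hC.Φ (hC.RR u r α) with hΦ'
  set c0 := s * X + m * a1
  set c1 := s * (a1 + n * a0 + n * a1 * τ) + m * (a0 + a1 * τ)
  have hRc : hC.RR u r α = (c0 / m) • u + (c1 / m) • u1 := by
    rw [hR1, hωf, hr]
    simp only [vm_add, vm_smul]
    rw [← hu1, show vm u1 P = τ • u1 + u from vm_sq u P]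
    ext <;> simp [c0, c1, X] <;> field_simp <;> ring
  rw [hRc] at hsum2
  have hind : ∀ {x y : L}, x • u + y • u1 = 0 → x = 0 ∧ y = 0 := by
    intro x y h
    have h1 := congrArg (fun v => dt v u1) h
    have h2' := congrArg (fun v => dt v u) h
    simp only [dt_add_left, dt_smul_left, dt_self] at h1 h2'
    rw [dt_comm u1 u] at h2'
    simp [dt] at h1 h2'
    exact ⟨h1.resolve_right (by simpa [dt] using hN), h2'.resolve_right (by simpa [dt] using hN)⟩
  obtain ⟨h0, h1⟩ := hind (x := Φ' * (c0 / m)) (y := Φ' * (c1 / m) + m * τ * X) (by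
    rw [add_smul, ← hsum2, smul_add, smul_smul, smul_smul]
    ext <;> simp <;> ring_nf <;> simp [CharTwo.two_eq_zero])
  have hc0 : c0 = 0 := by
    simpa [hC.Φ_ne, hm0, hΦ'] using h0
  have hΦR : Φ' = hC.Φ u / (c1 / m) ^ 2 := by
    have hc1 : c1 ≠ 0 := by
      intro e
      have := hC.R0_ne hdt α
      refine this ?_
      have hR0 : hC.RR u r α = 0 := by rw [hRc, hc0, e]; simp
      rw [hR1, smul_eq_zero, or_iff_right (inv_ne_zero hm0)] at hR0
      rw [R0, ← hs, hA]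
      by_contra hne
      exact vm_ne hne ω hR0
    rw [hΦ', hRc, hc0, zero_div, zero_smul, zero_add, (hC.smul_row (div_ne_zero hc1 hm0) hu10).2.2, p1]
  have hXc : X * c1 = m := by
    have h2 : (2 : L) = 0 := CharTwo.two_eq_zero
    linear_combination (a1 + n * a0 + n * a1 * τ) * hc0 + m * hωdet - (m * a1 ^ 2) * h2
  have hX0 : X ≠ 0 := fun e => hm0 (by rw [← hXc, e, zero_mul])
  have hc1' : c1 = m / X := by rw [eq_div_iff hX0, mul_comm, hXc]
  have hkey : Φ' * (c1 / m) = m * τ * X := CharTwo.add_eq_zero.1 h1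
  rw [hΦR, hc1', show m / X / m = X⁻¹ by field_simp] at hkey
  field_simp at hkey
  have hfin : hC.Φ u = m * τ := by linear_combination hkey
  rw [hfin, hm]
  field_simp

end CSet

end Cfsg.Agent.Lie.R1C
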