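import Mathlib

/-!
Cyclic modules for a group of order `2 ^ l - 1` whose generator satisfies the trace conditions of a fixed vector of
an automorphism acting as squaring.
-/

set_option autoImplicit false
set_option linter.unusedSectionVars false
set_option linter.unusedSimpArgs false
set_option linter.style.haveILetI false

namespace Cfsg.Agent.Lie.R1C.CycMod

open Polynomial

/-- Distinct roots of unity give independent exponentials. -/
theorem indep {K : Type*} [Field K] {n : ℕ} (hn : n ≠ 0) (T : Finset K) (hT : ∀ τ ∈ T, τ ^ n = 1) (a : K → K)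
    (h : ∀ j < n, ∑ τ ∈ T, a τ * τ ^ j = 0) : ∀ τ ∈ T, a τ = 0 := by
  classical
  intro τ₀ hτ₀
  have hall : ∀ f : K[X], ∑ τ ∈ T, a τ * f.eval τ = 0 := by
    intro f
    induction f using Polynomial.induction_on' with
    | add f g hf hg => simp only [eval_add, mul_add, Finset.sum_add_distrib, hf, hg, add_zero]
    | monomial i c =>
      simp only [eval_monomial]
      calc ∑ τ ∈ T, a τ * (c * τ ^ i) = c * ∑ τ ∈ T, a τ * τ ^ (i % n) := by
            rw [Finset.mul_sum]
            refine Finset.sum_congr rfl fun τ hτ => ?_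
            conv_lhs => rw [← Nat.div_add_mod i n, pow_add, pow_mul, hT τ hτ, one_pow, one_mul]
            ring
        _ = 0 := by rw [h _ (Nat.mod_lt _ (Nat.pos_of_ne_zero hn)), mul_zero]
  have h1 := hall (∏ σ ∈ T.erase τ₀, (X - C σ))
  rw [Finset.sum_eq_single τ₀ (fun σ hσ hne => by
    rw [eval_prod, Finset.prod_eq_zero (Finset.mem_erase.2 ⟨hne, hσ⟩) (by simp), mul_zero])
    (fun h => absurd hτ₀ h), mul_eq_zero] at h1
  refine h1.resolve_right ?_
  rw [eval_prod]
  refine Finset.prod_ne_zero_iff.2 fun σ hσ => ?_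
  simpa [sub_eq_zero] using (Finset.ne_of_mem_erase hσ).symm

variable {p : ℕ} [hp : Fact p.Prime] {X' : Type*} [AddCommGroup X'] [Module (ZMod p) X'] [Finite X']

/-- A cyclic module with the trace conditions. -/
structure Data (κ : Module.End (ZMod p) X') (y : X') (l : ℕ) : Prop where
  two_le : 2 ≤ l
  ne_zero : y ≠ 0
  pow_eq : κ ^ (2 ^ l - 1) = 1
  fpf : ∀ d, 0 < d → d < 2 ^ l - 1 → ∀ x : X', (κ ^ d) x = x → x = 0
  gen : ∀ x : X', ∃ g : (ZMod p)[X], aeval κ g y = x
  trace : ∀ j : ℕ, ∃ c : ZMod p, ∑ i ∈ Finset.range l, (κ ^ (j * 2 ^ i)) y = c • y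

variable {κ : Module.End (ZMod p) X'} {y : X'} {l : ℕ} (hD : Data κ y l)

/-- The roots of the minimal polynomial. -/
noncomputable def roots (κ : Module.End (ZMod p) X') : Set (AlgebraicClosure (ZMod p)) :=
  {ζ | aeval ζ (minpoly (ZMod p) κ) = 0}

include hD

theorem ann_iff (g : (ZMod p)[X]) : aeval κ g y = 0 ↔ minpoly (ZMod p) κ ∣ g := by
  refine ⟨fun h => minpoly.dvd _ _ (LinearMap.ext fun x => ?_), fun h => ?_⟩
  · obtain ⟨f, rfl⟩ := hD.gen x
    rw [← Module.End.mul_apply, ← map_mul, mul_comm, map_mul, Module.End.mul_apply, h, map_zero,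
      LinearMap.zero_apply]
  · obtain ⟨f, rfl⟩ := h
    rw [map_mul, minpoly.aeval, zero_mul, LinearMap.zero_apply]

theorem minpoly_ne : minpoly (ZMod p) κ ≠ 0 := by
  haveI : Module.Finite (ZMod p) X' := Module.Finite.of_finite
  exact minpoly.ne_zero (Algebra.IsIntegral.isIntegral κ)

theorem n_pos : 2 < 2 ^ l - 1 := by
  have : 2 ^ 2 ≤ 2 ^ l := Nat.pow_le_pow_right (by norm_num) hD.two_le
  omega

theorem dvd_pow : minpoly (ZMod p) κ ∣ X ^ (2 ^ l - 1) - 1 :=
  minpoly.dvd _ _ (by rw [map_sub, map_pow, aeval_X, map_one, hD.pow_eq, sub_self])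

theorem root_primitive {ζ : AlgebraicClosure (ZMod p)} (hζ : ζ ∈ roots κ) : IsPrimitiveRoot ζ (2 ^ l - 1) := by
  have hn := n_pos hD
  rw [IsPrimitiveRoot.iff (by omega)]
  constructor
  · obtain ⟨f, hf⟩ := dvd_pow hD
    have := congrArg (aeval ζ) hf
    rw [map_sub, map_pow, aeval_X, map_one, map_mul, show aeval ζ (minpoly (ZMod p) κ) = 0 from hζ, zero_mul,
      sub_eq_zero] at this
    exact this
  intro d hd0 hdn hd
  set g := EuclideanDomain.gcd (minpoly (ZMod p) κ) (X ^ d - 1) with hg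
  obtain ⟨h, hh⟩ : g ∣ minpoly (ZMod p) κ := EuclideanDomain.gcd_dvd_left _ _
  obtain ⟨f, hf⟩ : g ∣ X ^ d - 1 := EuclideanDomain.gcd_dvd_right _ _
  have hgζ : aeval ζ g = 0 := by
    rw [hg, EuclideanDomain.gcd_eq_gcd_ab, map_add, map_mul, map_mul, show aeval ζ (minpoly (ZMod p) κ) = 0 from hζ,
      map_sub, map_pow, aeval_X, map_one, hd, sub_self, zero_mul, zero_mul, add_zero]
  have hne := minpoly_ne hD
  rw [hh] at hne
  obtain ⟨hg0, hh0⟩ := mul_ne_zero_iff.1 hne
  have hdeg : 0 < g.natDegree := by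
    by_contra hcon
    obtain ⟨c, hc⟩ : ∃ c, g = C c := ⟨_, Polynomial.eq_C_of_natDegree_eq_zero (by omega)⟩
    rw [hc, aeval_C, map_eq_zero] at hgζ
    exact hg0 (by rw [hc, hgζ, map_zero])
  have hw : (κ ^ d) (aeval κ h y) = aeval κ h y := by
    have h1 : aeval κ ((X ^ d - 1) * h) y = 0 := by
      rw [hf, mul_right_comm, ← hh, map_mul, minpoly.aeval, zero_mul, LinearMap.zero_apply]
    rw [map_mul, map_sub, map_pow, aeval_X, map_one, sub_mul, one_mul, LinearMap.sub_apply, sub_eq_zero,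
      Module.End.mul_apply] at h1
    exact h1
  have h0 := (ann_iff hD h).1 (hD.fpf d hd0 hdn _ hw)
  rw [hh] at h0
  have := Polynomial.natDegree_le_of_dvd h0 hh0
  rw [Polynomial.natDegree_mul hg0 hh0] at this
  omega

theorem exists_root : ∃ ζ, ζ ∈ roots κ := by
  refine IsAlgClosed.exists_aeval_eq_zero _ _ fun h => hD.ne_zero ?_
  have hne := minpoly_ne hD
  obtain ⟨c, hc⟩ : ∃ c, minpoly (ZMod p) κ = C c := ⟨_, Polynomial.eq_C_of_degree_eq_zero h⟩
  have h1 := minpoly.aeval (ZMod p) κ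
  rw [hc, aeval_C] at h1
  have hc0 : c ≠ 0 := fun e => hne (by rw [hc, e, map_zero])
  have h2 := LinearMap.congr_fun h1 y
  rw [Module.algebraMap_end_apply, LinearMap.zero_apply, smul_eq_zero] at h2
  exact h2.resolve_left hc0

/-- Any two roots differ by a power of two. -/
theorem roots_orbit {ζ ζ' : AlgebraicClosure (ZMod p)} (hζ : ζ ∈ roots κ) (hζ' : ζ' ∈ roots κ) :
    ∃ i < l, ζ' = ζ ^ 2 ^ i := by
  classical
  by_contra hcon
  push Not at hcon
  have hn := n_pos hD
  have h1 := root_primitive hD hζ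
  have h2 := root_primitive hD hζ'
  have htr : ∀ j, ∑ i ∈ Finset.range l, (ζ ^ 2 ^ i) ^ j = ∑ i ∈ Finset.range l, (ζ' ^ 2 ^ i) ^ j := by
    intro j
    obtain ⟨c, hc⟩ := hD.trace j
    obtain ⟨f, hf⟩ : minpoly (ZMod p) κ ∣ (∑ i ∈ Finset.range l, X ^ (j * 2 ^ i)) - C c := (ann_iff hD _).1 (by
      rw [map_sub, map_sum, aeval_C, LinearMap.sub_apply, LinearMap.sum_apply, Module.algebraMap_end_apply]
      simp only [map_pow, aeval_X, hc, sub_self])
    have hev : ∀ z ∈ roots κ, ∑ i ∈ Finset.range l, (z ^ 2 ^ i) ^ j = algebraMap (ZMod p) _ c := fun z hz => by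
      have := congrArg (aeval z) hf
      rw [map_mul, show aeval z (minpoly (ZMod p) κ) = 0 from hz, zero_mul, map_sub, map_sum, aeval_C,
        sub_eq_zero] at this
      simpa only [map_pow, aeval_X, ← pow_mul, mul_comm j] using this
    rw [hev ζ hζ, hev ζ' hζ']
  let A := (Finset.range l).image fun i => ζ ^ 2 ^ i
  let B := (Finset.range l).image fun i => ζ' ^ 2 ^ i
  have hinj : ∀ {z : AlgebraicClosure (ZMod p)}, IsPrimitiveRoot z (2 ^ l - 1) →
      Set.InjOn (fun i => z ^ 2 ^ i) (Finset.range l : Set ℕ) := fun {z} hz i hi j hj e => by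
    have hb : ∀ i ∈ (Finset.range l : Set ℕ), 2 ^ i < 2 ^ l - 1 := fun i hi => by
      have hi' : i < l := Finset.mem_range.1 hi
      have : 2 ^ (i + 1) ≤ 2 ^ l := Nat.pow_le_pow_right (by norm_num) hi'
      rw [pow_succ] at this
      rcases Nat.eq_zero_or_pos i with rfl | hi0
      · simp; omega
      · have : 2 ^ 1 ≤ 2 ^ i := Nat.pow_le_pow_right (by norm_num) hi0
        omega
    exact Nat.pow_right_injective le_rfl (hz.pow_inj (hb i hi) (hb j hj) e)
  let a : AlgebraicClosure (ZMod p) → AlgebraicClosure (ZMod p) := fun τ =>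
    (if τ ∈ B then 1 else 0) - (if τ ∈ A then 1 else 0)
  have hroot : ∀ τ ∈ A ∪ B, τ ^ (2 ^ l - 1) = 1 := by
    intro τ hτ
    simp only [A, B, Finset.mem_union, Finset.mem_image] at hτ
    rcases hτ with ⟨i, -, rfl⟩ | ⟨i, -, rfl⟩
    · rw [← pow_mul, mul_comm, pow_mul, h1.pow_eq_one, one_pow]
    · rw [← pow_mul, mul_comm, pow_mul, h2.pow_eq_one, one_pow]
  have ha := indep (by omega) (A ∪ B) hroot a (fun j _ => by
    simp only [a, sub_mul, ite_mul, one_mul, zero_mul, Finset.sum_sub_distrib, ← Finset.sum_filter]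
    rw [Finset.filter_mem_eq_inter, Finset.filter_mem_eq_inter,
      Finset.inter_eq_right.2 Finset.subset_union_right, Finset.inter_eq_right.2 Finset.subset_union_left,
      Finset.sum_image (hinj h2), Finset.sum_image (hinj h1), htr, sub_self])
  have hB : ζ' ∈ B := Finset.mem_image.2 ⟨0, Finset.mem_range.2 (by have := hD.two_le; omega), by simp⟩
  have hA : ζ' ∉ A := fun h => by
    obtain ⟨i, hi, e⟩ := Finset.mem_image.1 h
    exact hcon i (Finset.mem_range.1 hi) e.symm
  have := ha ζ' (Finset.mem_union_right _ hB)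
  simp [a, hA, hB] at this

/-- The characteristic is a power of two modulo the order. -/
theorem congr : ∃ i < l, p ≡ 2 ^ i [MOD 2 ^ l - 1] := by
  obtain ⟨ζ, hζ⟩ := exists_root hD
  have hζp : ζ ^ p ∈ roots κ := by
    show aeval (ζ ^ p) (minpoly (ZMod p) κ) = 0
    rw [← expand_aeval, ZMod.expand_card, map_pow, show aeval ζ (minpoly (ZMod p) κ) = 0 from hζ,
      zero_pow hp.out.ne_zero]
  obtain ⟨i, hi, e⟩ := roots_orbit hD hζ hζp
  refine ⟨i, hi, ?_⟩
  have h1 := root_primitive hD hζ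
  have hn := n_pos hD
  rw [← pow_mod_orderOf, ← pow_mod_orderOf ζ (2 ^ i), ← h1.eq_orderOf] at e
  exact h1.pow_inj (Nat.mod_lt _ (by omega)) (Nat.mod_lt _ (by omega)) e

variable {N : Type*} [AddCommGroup N] [Module (ZMod p) N] {κN : Module.End (ZMod p) N} (π : X' →ₗ[ZMod p] N)
  (hπ : Function.Surjective π) (hπκ : ∀ x, π (κ x) = κN (π x)) (ψ : X' →ₗ[ZMod p] N)

include hπ hπκ

set_option maxHeartbeats 800000 in
/-- An alternating equivariant function into a quotient vanishes. -/
theorem alt_zero (hodd : p ≠ 2)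
    (hanti : ∀ j < 2 ^ l - 1, ψ ((κ ^ (2 ^ l - 1 - j)) y) = -((κN ^ (2 ^ l - 1 - j)) (ψ ((κ ^ j) y)))) :
    ∀ j < 2 ^ l - 1, ψ ((κ ^ j) y) = 0 := by
  classical
  have hπg : ∀ (g : (ZMod p)[X]) (x : X'), π (aeval κ g x) = aeval κN g (π x) := by
    intro g x
    induction g using Polynomial.induction_on' with
    | add f g hf hg => simp [hf, hg]
    | monomial i c =>
      simp only [aeval_monomial, Module.End.mul_apply, Module.algebraMap_end_apply, map_smul]
      congr 1
      induction i generalizing x with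
      | zero => rfl
      | succ i ih => rw [pow_succ, pow_succ, Module.End.mul_apply, Module.End.mul_apply, ih, hπκ]
  have hgenN : ∀ c : N, ∃ g : (ZMod p)[X], aeval κN g (π y) = c := fun c => by
    obtain ⟨x, rfl⟩ := hπ c
    obtain ⟨g, rfl⟩ := hD.gen x
    exact ⟨g, (hπg g y).symm⟩
  have hkill : ∀ g : (ZMod p)[X], aeval κN g (π y) = 0 → aeval κN g = 0 := fun g hg => LinearMap.ext fun c => by
    obtain ⟨f, rfl⟩ := hgenN c
    rw [← Module.End.mul_apply, ← map_mul, mul_comm, map_mul, Module.End.mul_apply, hg, map_zero,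
      LinearMap.zero_apply]
  have hdvdN : minpoly (ZMod p) κN ∣ minpoly (ZMod p) κ := minpoly.dvd _ _ (hkill _ (by
    rw [← hπg, minpoly.aeval, LinearMap.zero_apply, map_zero]))
  have hne := minpoly_ne hD
  have hnN := ne_zero_of_dvd_ne_zero hne hdvdN
  have hn := n_pos hD
  -- the roots
  obtain ⟨ζ₀, hζ₀⟩ := exists_root hD
  set K := AlgebraicClosure (ZMod p)
  set R : Finset K := ((minpoly (ZMod p) κ).map (algebraMap (ZMod p) K)).roots.toFinset with hR
  have hne' : (minpoly (ZMod p) κ).map (algebraMap (ZMod p) K) ≠ 0 := Polynomial.map_ne_zero hne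
  have hRmem : ∀ z, z ∈ R ↔ z ∈ roots κ := fun z => by
    rw [hR, Multiset.mem_toFinset, Polynomial.mem_roots hne', IsRoot.def, Polynomial.eval_map, ← aeval_def]
    exact Iff.rfl
  -- separability
  have hsep : ∀ f : (ZMod p)[X], f ∣ minpoly (ZMod p) κ → f ≠ 0 → ∀ g : (ZMod p)[X],
      (∀ z : K, aeval z f = 0 → aeval z g = 0) → f ∣ g := by
    intro f hf hf0 g hfg
    have h1 := root_primitive hD hζ₀
    haveI : NeZero (2 ^ l - 1) := ⟨by omega⟩
    haveI : NeZero ((2 ^ l - 1 : ℕ) : K) := h1.neZero'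
    have hs : (X ^ (2 ^ l - 1) - 1 : K[X]).Separable :=
      Polynomial.X_pow_sub_one_separable_iff.2 (NeZero.ne _)
    have hfd : f.map (algebraMap (ZMod p) K) ∣ X ^ (2 ^ l - 1) - 1 := by
      have := Polynomial.map_dvd (algebraMap (ZMod p) K) (hf.trans (dvd_pow hD))
      simpa using this
    have hfs := hs.of_dvd hfd
    rw [← Polynomial.map_dvd_map' (algebraMap (ZMod p) K)]
    rw [(IsAlgClosed.splits (f.map (algebraMap (ZMod p) K))).eq_prod_roots]
    refine (IsUnit.mul_left_dvd (Polynomial.isUnit_C.2 ?_)).2 ?_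
    · exact (leadingCoeff_ne_zero.2 (Polynomial.map_ne_zero hf0)).isUnit
    have hnd := Polynomial.nodup_roots hfs
    rw [show (f.map (algebraMap (ZMod p) K)).roots = (f.map (algebraMap (ZMod p) K)).roots.toFinset.val by
      rw [Multiset.toFinset_val, Multiset.dedup_eq_self.2 hnd], Finset.prod_map_val]
    refine Finset.prod_dvd_of_coprime (fun z _ w _ hzw => Polynomial.pairwise_coprime_X_sub_C
      Function.injective_id hzw) fun z hz => ?_
    rw [Multiset.mem_toFinset, Polynomial.mem_roots', IsRoot.def, Polynomial.eval_map, ← aeval_def] at hz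
    rw [Polynomial.dvd_iff_isRoot, IsRoot.def, Polynomial.eval_map, ← aeval_def]
    exact hfg z hz.2
  intro j hj
  -- evaluation at a root
  choose gN hgN using hgenN
  have hdiff : ∀ (g : (ZMod p)[X]) (c : N), aeval κN g (π y) = c → ∀ r : K, aeval r (minpoly (ZMod p) κN) = 0 →
      aeval r g = aeval r (gN c) := fun g c hg r hr => by
    obtain ⟨f, hf⟩ := minpoly.dvd (ZMod p) κN (hkill (g - gN c) (by
      rw [map_sub, LinearMap.sub_apply, hg, hgN, sub_self]))
    have := congrArg (aeval r) hf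
    rw [map_mul, hr, zero_mul, map_sub, sub_eq_zero] at this
    exact this
  suffices hall : ∀ r : K, aeval r (minpoly (ZMod p) κN) = 0 → aeval r (gN (ψ ((κ ^ j) y))) = 0 by
    have := hsep _ hdvdN hnN _ hall
    obtain ⟨f, hf⟩ := this
    rw [← hgN (ψ ((κ ^ j) y)), hf, map_mul, minpoly.aeval, zero_mul, LinearMap.zero_apply]
  intro r hr
  let Λ : N →+ K := AddMonoidHom.mk' (fun c => aeval r (gN c)) fun c c' => by
    rw [← map_add]
    exact (hdiff _ _ (by rw [map_add, LinearMap.add_apply, hgN, hgN]) r hr).symm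
  have hΛs : ∀ (e : ZMod p) (c : N), Λ (e • c) = algebraMap (ZMod p) K e * Λ c := fun e c => by
    show aeval r (gN (e • c)) = _ * aeval r (gN c)
    rw [← aeval_C (R := ZMod p) r e, ← map_mul]
    exact (hdiff _ _ (by rw [map_mul, aeval_C, Module.End.mul_apply, hgN, Module.algebraMap_end_apply]) r hr).symm
  have hΛκ : ∀ (i : ℕ) (c : N), Λ ((κN ^ i) c) = r ^ i * Λ c := fun i c => by
    show aeval r (gN ((κN ^ i) c)) = r ^ i * aeval r (gN c)
    rw [← aeval_X_pow (R := ZMod p) r, ← map_mul]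
    exact (hdiff _ _ (by rw [map_mul, aeval_X_pow, Module.End.mul_apply, hgN]) r hr).symm
  have hrR : r ∈ roots κ := by
    obtain ⟨f, hf⟩ := hdvdN
    show aeval r (minpoly (ZMod p) κ) = 0
    rw [hf, map_mul, hr, zero_mul]
  -- the functional on polynomials
  let L : K[X] →ₗ[K] K := (Polynomial.basisMonomials K).constr K fun i => Λ (ψ ((κ ^ i) y))
  have hLX : ∀ i, L (X ^ i) = Λ (ψ ((κ ^ i) y)) := fun i => by
    rw [← Polynomial.monomial_one_right_eq_X_pow,
      show (monomial i (1 : K)) = Polynomial.basisMonomials K i by simp]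
    exact Module.Basis.constr_basis _ _ _ _
  have hLmap : ∀ g : (ZMod p)[X], L (g.map (algebraMap (ZMod p) K)) = Λ (ψ (aeval κ g y)) := by
    intro g
    induction g using Polynomial.induction_on' with
    | add f g hf hg => simp only [Polynomial.map_add, map_add, LinearMap.add_apply, hf, hg]
    | monomial i c =>
      rw [Polynomial.map_monomial, ← Polynomial.C_mul_X_pow_eq_monomial, ← Polynomial.smul_eq_C_mul, map_smul,
        hLX, aeval_monomial, Module.End.mul_apply, Module.algebraMap_end_apply, map_smul, hΛs, smul_eq_mul]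
  have hLmul : ∀ h : K[X], L ((minpoly (ZMod p) κ).map (algebraMap (ZMod p) K) * h) = 0 := by
    intro h
    induction h using Polynomial.induction_on' with
    | add f g hf hg => rw [mul_add, map_add, hf, hg, add_zero]
    | monomial i c =>
      rw [← Polynomial.C_mul_X_pow_eq_monomial, mul_left_comm, ← Polynomial.smul_eq_C_mul, map_smul,
        show (minpoly (ZMod p) κ).map (algebraMap (ZMod p) K) * X ^ i =
          (minpoly (ZMod p) κ * X ^ i).map (algebraMap (ZMod p) K) by simp, hLmap,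
        map_mul, minpoly.aeval, zero_mul, LinearMap.zero_apply, map_zero, map_zero, smul_zero]
  let cf : K → K := fun ρ => L (Lagrange.basis R id ρ)
  have hexp : ∀ i, Λ (ψ ((κ ^ i) y)) = ∑ ρ ∈ R, cf ρ * ρ ^ i := by
    intro i
    have hd : (minpoly (ZMod p) κ).map (algebraMap (ZMod p) K) ∣
        X ^ i - Lagrange.interpolate R id (fun ρ => ρ ^ i) := by
      have h1 := root_primitive hD hζ₀
      haveI : NeZero (2 ^ l - 1) := ⟨by omega⟩
      haveI : NeZero ((2 ^ l - 1 : ℕ) : K) := h1.neZero'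
      have hs : (X ^ (2 ^ l - 1) - 1 : K[X]).Separable :=
        Polynomial.X_pow_sub_one_separable_iff.2 (NeZero.ne _)
      have hfs := hs.of_dvd (by
        have := Polynomial.map_dvd (algebraMap (ZMod p) K) (dvd_pow hD)
        simpa using this : (minpoly (ZMod p) κ).map (algebraMap (ZMod p) K) ∣ X ^ (2 ^ l - 1) - 1)
      rw [(IsAlgClosed.splits ((minpoly (ZMod p) κ).map (algebraMap (ZMod p) K))).eq_prod_roots]
      refine (IsUnit.mul_left_dvd (Polynomial.isUnit_C.2 ?_)).2 ?_
      · exact (leadingCoeff_ne_zero.2 hne').isUnit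
      rw [show ((minpoly (ZMod p) κ).map (algebraMap (ZMod p) K)).roots = R.val by
        rw [hR, Multiset.toFinset_val, Multiset.dedup_eq_self.2 (Polynomial.nodup_roots hfs)], Finset.prod_map_val]
      refine Finset.prod_dvd_of_coprime (fun z _ w _ hzw => Polynomial.pairwise_coprime_X_sub_C
        Function.injective_id hzw) fun z hz => ?_
      rw [Polynomial.dvd_iff_isRoot, IsRoot.def, eval_sub, eval_pow, eval_X]
      rw [show z = id z from rfl, Lagrange.eval_interpolate_at_node _ Function.injective_id.injOn hz, id, sub_self]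
    obtain ⟨h, hh⟩ := hd
    have h2 := congrArg L hh
    rw [hLmul, map_sub, hLX, sub_eq_zero] at h2
    rw [h2, Lagrange.interpolate_apply, map_sum]
    refine Finset.sum_congr rfl fun ρ _ => ?_
    rw [← Polynomial.smul_eq_C_mul, map_smul, smul_eq_mul, mul_comm]
  show Λ (ψ ((κ ^ j) y)) = 0
  rw [hexp]
  suffices hc : ∀ ρ ∈ R, cf ρ = 0 from Finset.sum_eq_zero fun ρ hρ => by rw [hc ρ hρ, zero_mul]
  have hr1 := root_primitive hD hrR
  have hr0 : r ≠ 0 := hr1.ne_zero (by omega)
  let T : Finset K := R ∪ R.image fun ρ => r / ρ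
  let a : K → K := fun τ => (∑ ρ ∈ R with r / ρ = τ, cf ρ) + if τ ∈ R then cf τ else 0
  have hTone : ∀ τ ∈ T, τ ^ (2 ^ l - 1) = 1 := by
    intro τ hτ
    rcases Finset.mem_union.1 hτ with h | h
    · exact (root_primitive hD ((hRmem τ).1 h)).pow_eq_one
    · obtain ⟨ρ, hρ, rfl⟩ := Finset.mem_image.1 h
      rw [div_pow, hr1.pow_eq_one, (root_primitive hD ((hRmem ρ).1 hρ)).pow_eq_one, div_one]
  have ha := indep (by omega) T hTone a (fun i hi => by
    have h1 : Λ (ψ ((κ ^ (2 ^ l - 1 - i)) y)) = -(r ^ (2 ^ l - 1 - i) * Λ (ψ ((κ ^ i) y))) := by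
      rw [hanti i hi, map_neg, hΛκ]
    rw [hexp, hexp] at h1
    simp only [a, add_mul, Finset.sum_add_distrib, Finset.sum_mul, ite_mul, zero_mul]
    rw [← Finset.sum_filter (fun τ => τ ∈ R), Finset.filter_mem_eq_inter,
      Finset.inter_eq_right.2 Finset.subset_union_left]
    rw [Finset.sum_congr rfl (fun τ _ => by
      rw [Finset.sum_mul]
      exact Finset.sum_congr rfl fun ρ hρ => by rw [(Finset.mem_filter.1 hρ).2] :
      ∀ τ ∈ T, (∑ ρ ∈ R with r / ρ = τ, cf ρ) * τ ^ i = ∑ ρ ∈ R with r / ρ = τ, cf ρ * (r / ρ) ^ i),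
      Finset.sum_fiberwise_of_maps_to (t := T) (g := fun ρ => r / ρ) (fun ρ hρ => Finset.mem_union_right _ (Finset.mem_image_of_mem _ hρ))]
    have hri : r ^ i * r ^ (2 ^ l - 1 - i) = 1 := by
      rw [← pow_add, show i + (2 ^ l - 1 - i) = 2 ^ l - 1 by omega, hr1.pow_eq_one]
    have h2 := congrArg (fun z => r ^ i * z) h1
    rw [mul_neg, ← mul_assoc (r ^ i) (r ^ (2 ^ l - 1 - i)), hri, one_mul] at h2
    rw [eq_neg_iff_add_eq_zero] at h2
    rw [← h2, Finset.mul_sum]
    congr 1
    refine Finset.sum_congr rfl fun ρ hρ => ?_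
    have hρ1 := root_primitive hD ((hRmem ρ).1 hρ)
    have hρi : ρ ^ (2 ^ l - 1 - i) = (ρ ^ i)⁻¹ := by
      refine eq_inv_of_mul_eq_one_left ?_
      rw [← pow_add, show 2 ^ l - 1 - i + i = 2 ^ l - 1 by omega, hρ1.pow_eq_one]
    rw [hρi, div_pow]
    ring)
  intro τ hτ
  have h0 := ha τ (Finset.mem_union_left _ hτ)
  simp only [a, if_pos hτ] at h0
  have hτ1 := root_primitive hD ((hRmem τ).1 hτ)
  have hτ0 : τ ≠ 0 := hτ1.ne_zero (by omega)
  have huniq : ∀ ρ ∈ R, r / ρ = τ → ρ = τ := by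
    intro ρ hρ e
    by_contra hne'
    obtain ⟨u, hu, eu⟩ := roots_orbit hD hζ₀ ((hRmem τ).1 hτ)
    obtain ⟨v, hv, ev⟩ := roots_orbit hD hζ₀ ((hRmem ρ).1 hρ)
    obtain ⟨w, hw, ew⟩ := roots_orbit hD hζ₀ hrR
    have hρ0 : ρ ≠ 0 := (root_primitive hD ((hRmem ρ).1 hρ)).ne_zero (by omega)
    rw [div_eq_iff hρ0, eu, ev, ew, ← pow_add] at e
    have huv : u ≠ v := fun h => hne' (by rw [eu, ev, h])
    have hb : ∀ i, i < l → 2 * 2 ^ i ≤ 2 ^ l := fun i hi => by
      rw [← pow_succ']; exact Nat.pow_le_pow_right (by norm_num) hi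
    have hne2 : ∀ u v, u < v → v < l → 2 ^ u + 2 ^ v ≤ 2 ^ l - 1 := fun u v huv hv => by
      have := hb v hv
      have : 2 * 2 ^ u ≤ 2 ^ v := by rw [← pow_succ']; exact Nat.pow_le_pow_right (by norm_num) huv
      have := Nat.one_le_two_pow (n := u)
      omega
    have hle : 2 ^ u + 2 ^ v ≤ 2 ^ l - 1 := by
      rcases Nat.lt_or_ge u v with h | h
      · exact hne2 u v h hv
      · have := hne2 v u (by omega) hu; omega
    have hsum : 2 ^ u + 2 ^ v < 2 ^ l - 1 := by
      refine lt_of_le_of_ne hle fun h => ?_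
      rw [h, (root_primitive hD hζ₀).pow_eq_one, ← ew] at e
      exact hr1.ne_one (by omega) e
    have hw2 : 2 ^ w < 2 ^ l - 1 := by have := hb w hw; omega
    have heq := (root_primitive hD hζ₀).pow_inj hw2 hsum e
    rcases Nat.lt_or_ge u v with h | h
    · have h1 : 2 ^ v < 2 ^ w := by have := Nat.one_le_two_pow (n := u); omega
      have h2 : 2 ^ w < 2 ^ (v + 1) := by
        have : 2 ^ u < 2 ^ v := Nat.pow_lt_pow_right (by norm_num) h
        rw [pow_succ]; omega
      rw [Nat.pow_lt_pow_iff_right (by norm_num)] at h1 h2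
      omega
    · have h' : v < u := by omega
      have h1 : 2 ^ u < 2 ^ w := by have := Nat.one_le_two_pow (n := v); omega
      have h2 : 2 ^ w < 2 ^ (u + 1) := by
        have : 2 ^ v < 2 ^ u := Nat.pow_lt_pow_right (by norm_num) h'
        rw [pow_succ]; omega
      rw [Nat.pow_lt_pow_iff_right (by norm_num)] at h1 h2
      omega
  by_cases hfix : r / τ = τ
  · rw [Finset.sum_eq_single τ (fun ρ hρ hne'' => absurd (huniq ρ (Finset.mem_filter.1 hρ).1
      (Finset.mem_filter.1 hρ).2) hne'') (fun h => (h (Finset.mem_filter.2 ⟨hτ, hfix⟩)).elim), ← two_mul,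
      mul_eq_zero] at h0
    refine h0.resolve_left ?_
    haveI : CharP K p := charP_of_injective_algebraMap (algebraMap (ZMod p) K).injective p
    intro h2
    have := (CharP.cast_eq_zero_iff K p 2).1 (by exact_mod_cast h2)
    exact hodd ((Nat.prime_dvd_prime_iff_eq hp.out Nat.prime_two).1 this)
  · rw [Finset.sum_eq_zero (fun ρ hρ => absurd (huniq ρ (Finset.mem_filter.1 hρ).1 (Finset.mem_filter.1 hρ).2)
      (fun e => hfix (by rw [← e] at hρ ⊢; exact (Finset.mem_filter.1 hρ).2))), zero_add] at h0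
    exact h0

end Cfsg.Agent.Lie.R1C.CycMod
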