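import Cfsg.Agent.Lib.Lie.RankOne

/-!
The coordinates of `t * x * t = g x * h x * t * f x` for a non-trivial element `x` of `Q` in the rank-one set-up,
and their transformation rules.
-/

set_option autoImplicit false
set_option linter.unusedSectionVars false
set_option linter.unusedSimpArgs false

namespace Cfsg.Agent.Lie.R1C

open Cfsg MulAction
open Cfsg.Agent.Lie.R1 (D tt t_inv tDt)

variable {G Ω : Type*} [Group G] [MulAction G Ω] {a : Ω} {t : G} {Q : Subgroup G}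
  (hS : IsRankOneSetup G Ω a t Q)

include hS

theorem exists_coords (x : G) : ∃ p : G × G × G, x ∈ Q → x ≠ 1 →
    p.1 ∈ Q ∧ p.2.1 ∈ D G a t ∧ p.2.2 ∈ Q ∧ t * x * t = p.1 * p.2.1 * t * p.2.2 := by
  by_cases hx : x ∈ Q ∧ x ≠ 1
  · obtain ⟨p, hp, -⟩ := R1.canonical hS _ (R1.Q_inv_ne hS hx.1 hx.2)
    obtain ⟨q, hq, d, hd, e⟩ := R1.mem_sup hS hp.1
    exact ⟨(q, d, p.2), fun _ _ => ⟨hq, hd, hp.2.1, by rw [hp.2.2, e]⟩⟩
  · exact ⟨1, fun h1 h2 => absurd ⟨h1, h2⟩ hx⟩

/-- The first `Q`-coordinate. -/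
noncomputable def gc (x : G) : G := (exists_coords hS x).choose.1

/-- The `D`-coordinate. -/
noncomputable def hc (x : G) : G := (exists_coords hS x).choose.2.1

/-- The last `Q`-coordinate. -/
noncomputable def fc (x : G) : G := (exists_coords hS x).choose.2.2

variable {x : G} (hx : x ∈ Q) (hx1 : x ≠ 1)

include hx hx1

theorem gc_mem : gc hS x ∈ Q := ((exists_coords hS x).choose_spec hx hx1).1

theorem hc_mem : hc hS x ∈ D G a t := ((exists_coords hS x).choose_spec hx hx1).2.1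

theorem fc_mem : fc hS x ∈ Q := ((exists_coords hS x).choose_spec hx hx1).2.2.1

theorem coords_eq : t * x * t = gc hS x * hc hS x * t * fc hS x :=
  ((exists_coords hS x).choose_spec hx hx1).2.2.2

theorem coords_unique {g h f : G} (hg : g ∈ Q) (hh : h ∈ D G a t) (hf : f ∈ Q)
    (e : t * x * t = g * h * t * f) : gc hS x = g ∧ hc hS x = h ∧ fc hS x = f :=
  R1.form_unique hS (gc_mem hS hx hx1) (hc_mem hS hx hx1) (fc_mem hS hx hx1) hg hh hf
    ((coords_eq hS hx hx1).symm.trans e)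

omit hx1 in
theorem conj_D_ne {d : G} (hd : d ∈ D G a t) (hx1 : x ≠ 1) :
    d * x * d⁻¹ ∈ Q ∧ d * x * d⁻¹ ≠ 1 :=
  ⟨R1.conj_Q hS (Subgroup.mem_inf.1 hd).1 hx, fun h => hx1 (conj_eq_one_iff.1 h)⟩

/-- The coordinates of a conjugate under `D`. -/
theorem coords_conj {d : G} (hd : d ∈ D G a t) :
    gc hS (d * x * d⁻¹) = t * d * t * gc hS x * (t * d * t)⁻¹ ∧
      hc hS (d * x * d⁻¹) = t * d * t * hc hS x * d⁻¹ ∧
        fc hS (d * x * d⁻¹) = t * d * t * fc hS x * (t * d * t)⁻¹ := by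
  have hd' := tDt hS hd
  refine coords_unique hS (conj_D_ne hS hx hd hx1).1 (conj_D_ne hS hx hd hx1).2
    (R1.conj_Q hS (Subgroup.mem_inf.1 hd').1 (gc_mem hS hx hx1))
    (mul_mem (mul_mem hd' (hc_mem hS hx hx1)) (inv_mem hd))
    (R1.conj_Q hS (Subgroup.mem_inf.1 hd').1 (fc_mem hS hx hx1)) ?_
  have e := coords_eq hS hx hx1
  calc t * (d * x * d⁻¹) * t = (t * d * t) * (t * x * t) * (t * d * t)⁻¹ := by
        simp only [_root_.mul_inv_rev, t_inv hS, mul_assoc, tt hS]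
    _ = _ := by
        rw [e]
        simp only [_root_.mul_inv_rev, t_inv hS, mul_assoc, inv_mul_cancel_left, tt hS]

/-- The coordinates of the inverse. -/
theorem coords_inv : gc hS x⁻¹ = (fc hS x)⁻¹ ∧ hc hS x⁻¹ = t * (hc hS x)⁻¹ * t ∧
    fc hS x⁻¹ = (gc hS x)⁻¹ := by
  refine coords_unique hS (inv_mem hx) (inv_ne_one.2 hx1) (inv_mem (fc_mem hS hx hx1))
    (tDt hS (inv_mem (hc_mem hS hx hx1))) (inv_mem (gc_mem hS hx hx1)) ?_
  calc t * x⁻¹ * t = (t * x * t)⁻¹ := by simp only [_root_.mul_inv_rev, t_inv hS, mul_assoc]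
    _ = _ := by
      rw [coords_eq hS hx hx1]
      simp only [_root_.mul_inv_rev, t_inv hS, mul_assoc, tt hS, hS.mul_self, mul_one]

theorem gc_ne : gc hS x ≠ 1 := by
  intro hg
  have e := coords_eq hS hx hx1
  rw [hg, one_mul] at e
  obtain ⟨-, h2⟩ := Subgroup.mem_inf.1 (hc_mem hS hx hx1)
  rw [mem_stabilizer_iff] at h2
  have h3 := congrArg (fun y : G => y • a) e
  simp only [mul_smul, R1.fix_a hS (fc_mem hS hx hx1), h2] at h3
  have h4 := MulAction.injective t h3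
  rw [smul_eq_iff_eq_inv_smul, show x⁻¹ • a = a from R1.fix_a hS (inv_mem hx)] at h4
  exact R1.ta_ne hS h4

omit hx hx1 in
theorem fc_ne {x : G} (hx : x ∈ Q) (hx1 : x ≠ 1) : fc hS x ≠ 1 := fun h => by
  have := gc_ne hS (inv_mem hx) (inv_ne_one.2 hx1)
  rw [(coords_inv hS hx hx1).1, h, inv_one] at this
  exact this rfl

/-- The coordinates of `gc x`. -/
theorem coords_gc :
    gc hS (gc hS x) = x ∧ hc hS (gc hS x) = (hc hS x)⁻¹ ∧
      fc hS (gc hS x) = (t * (hc hS x)⁻¹ * t)⁻¹ * (fc hS x)⁻¹ * (t * (hc hS x)⁻¹ * t) := by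
  have hd := tDt hS (inv_mem (hc_mem hS hx hx1))
  refine coords_unique hS (gc_mem hS hx hx1) (gc_ne hS hx hx1) hx (inv_mem (hc_mem hS hx hx1)) ?_ ?_
  · have := R1.conj_Q hS (Subgroup.mem_inf.1 (inv_mem hd)).1 (inv_mem (fc_mem hS hx hx1))
    simpa only [inv_inv] using this
  · have e : gc hS x = t * x * t * (fc hS x)⁻¹ * t * (hc hS x)⁻¹ := by
      rw [coords_eq hS hx hx1]
      simp only [mul_assoc, mul_inv_cancel_left, tt hS, mul_inv_cancel, mul_one]
    rw [e]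
    simp only [_root_.mul_inv_rev, inv_inv, t_inv hS, mul_assoc, tt hS, inv_mul_cancel_left,
      mul_inv_cancel_left, hS.mul_self, mul_one]

/-- The coordinates of a product. -/
theorem coords_mul {y : G} (hy : y ∈ Q) (hy1 : y ≠ 1) (hxy : x * y ≠ 1) :
    fc hS x * gc hS y ∈ Q ∧ fc hS x * gc hS y ≠ 1 ∧
      gc hS (x * y) = gc hS x * (hc hS x * gc hS (fc hS x * gc hS y) * (hc hS x)⁻¹) ∧
      hc hS (x * y) = hc hS x * hc hS (fc hS x * gc hS y) * hc hS y ∧
      fc hS (x * y) =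
        (t * hc hS y * t)⁻¹ * fc hS (fc hS x * gc hS y) * (t * hc hS y * t) * fc hS y := by
  set w := fc hS x * gc hS y with hw
  have hwQ : w ∈ Q := mul_mem (fc_mem hS hx hx1) (gc_mem hS hy hy1)
  have e : t * (x * y) * t = gc hS x * hc hS x * (t * w * t) * (t * hc hS y * t) * fc hS y := by
    calc t * (x * y) * t = (t * x * t) * (t * y * t) := by simp only [mul_assoc, tt hS]
      _ = _ := by
        rw [coords_eq hS hx hx1, coords_eq hS hy hy1, hw]
        simp only [mul_assoc, tt hS]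
  have hw1 : w ≠ 1 := by
    intro h
    rw [h, mul_one, hS.mul_self, mul_one] at e
    have h3 := congrArg (fun y : G => y • a) e
    simp only [mul_smul, R1.fix_a hS (fc_mem hS hy hy1),
      show (t * hc hS y * t) • a = a from (Subgroup.mem_inf.1 (tDt hS (hc_mem hS hy hy1))).1,
      show hc hS x • a = a from (Subgroup.mem_inf.1 (hc_mem hS hx hx1)).1,
      R1.fix_a hS (gc_mem hS hx hx1)] at h3
    refine R1.Q_inv_ne hS (mul_mem hx hy) hxy ?_
    simpa only [mul_smul] using h3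
  have hc' := tDt hS (hc_mem hS hy hy1)
  refine ⟨hwQ, hw1, coords_unique hS (mul_mem hx hy) hxy
    (mul_mem (gc_mem hS hx hx1) (R1.conj_Q hS (Subgroup.mem_inf.1 (hc_mem hS hx hx1)).1 (gc_mem hS hwQ hw1)))
    (mul_mem (mul_mem (hc_mem hS hx hx1) (hc_mem hS hwQ hw1)) (hc_mem hS hy hy1))
    (mul_mem ?_ (fc_mem hS hy hy1)) ?_⟩
  · have := R1.conj_Q hS (Subgroup.mem_inf.1 (inv_mem hc')).1 (fc_mem hS hwQ hw1)
    simpa only [inv_inv] using this
  · rw [e, coords_eq hS hwQ hw1]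
    simp only [_root_.mul_inv_rev, t_inv hS, mul_assoc, inv_mul_cancel_left, mul_inv_cancel_left, tt hS]

end Cfsg.Agent.Lie.R1C
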