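import Cfsg.Agent.Lib.Lie.SplitRankOne.Monomial
import Cfsg.Agent.Lib.Char.KleinFour
import Cfsg.Agent.Lib.Lie.RankOneCN

/-!
The two constituents of the monomial character and the integers attached to the intertwining operator.
-/

set_option autoImplicit false
set_option linter.unusedSectionVars false
set_option linter.unusedSimpArgs false
set_option linter.style.haveILetI false

namespace Cfsg.Agent.Lie.R1C

open Cfsg MulAction
open Cfsg.Agent.Lie.R1 (D tt t_inv tDt)
open scoped ComplexConjugate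

universe u v

/-- The trace against a commuting idempotent is a character. -/
theorem isCharacter_idem {G : Type u} [Group G] {n : Type v} [Fintype n] [DecidableEq n]
    (M : G →* Matrix n n ℂ) (E : Matrix n n ℂ) (hE : E * E = E) (hc : ∀ g, M g * E = E * M g) :
    IsCharacter G (fun g => (M g * E).trace) := by
  set π : (n → ℂ) →ₗ[ℂ] (n → ℂ) := Matrix.toLin' E with hπ
  set W := LinearMap.range π with hW
  have hπW : ∀ w ∈ W, π w = w := by
    rintro _ ⟨w, rfl⟩
    rw [hπ, ← LinearMap.comp_apply, ← Matrix.toLin'_mul, hE]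
  have hinv : ∀ g, ∀ w ∈ W, Matrix.toLin' (M g) w ∈ W := by
    rintro g _ ⟨w, rfl⟩
    exact ⟨Matrix.toLin' (M g) w, by
      rw [hπ, ← LinearMap.comp_apply, ← Matrix.toLin'_mul, ← hc, Matrix.toLin'_mul, LinearMap.comp_apply]⟩
  let ρ : Representation ℂ G W :=
    { toFun := fun g => (Matrix.toLin' (M g)).restrict (hinv g)
      map_one' := LinearMap.ext fun w => Subtype.ext (by
        rw [LinearMap.restrict_apply]
        show Matrix.toLin' (M 1) (w : n → ℂ) = w
        rw [map_one, Matrix.toLin'_one, LinearMap.id_apply])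
      map_mul' := fun g h => LinearMap.ext fun w => Subtype.ext (by
        rw [LinearMap.restrict_apply]
        show Matrix.toLin' (M (g * h)) (w : n → ℂ) = Matrix.toLin' (M g) (Matrix.toLin' (M h) w)
        rw [map_mul, Matrix.toLin'_mul, LinearMap.comp_apply]) }
  suffices h : ρ.character = fun g => (M g * E).trace from h ▸ Char.isCharacter_character ρ
  funext g
  set π' : (n → ℂ) →ₗ[ℂ] W := π.rangeRestrict with hπ'
  have e1 : ρ g = π' ∘ₗ (Matrix.toLin' (M g) ∘ₗ W.subtype) := LinearMap.ext fun w => Subtype.ext (by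
    show Matrix.toLin' (M g) (w : n → ℂ) = π (Matrix.toLin' (M g) w)
    rw [hπW _ (hinv g w w.2)])
  have e2 : (Matrix.toLin' (M g) ∘ₗ W.subtype) ∘ₗ π' = Matrix.toLin' (M g * E) := by
    rw [Matrix.toLin'_mul]; rfl
  show LinearMap.trace ℂ W (ρ g) = _
  rw [e1, LinearMap.trace_comp_comm', e2, Matrix.trace_toLin'_eq]

/-- Two non-zero characters whose sum has norm two are two different irreducible characters. -/
theorem irr_of_norm_two {G : Type u} [Group G] [Fintype G] {α β : G → ℂ} (hα : IsCharacter G α)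
    (hβ : IsCharacter G β) (hα0 : α ≠ 0) (hβ0 : β ≠ 0) (h : classInner (α + β) (α + β) = 2) :
    IsIrrCharacter G α ∧ IsIrrCharacter G β ∧ α ≠ β := by
  obtain ⟨i, hi⟩ := Char.classInner_natCast hα hα
  obtain ⟨j, hj⟩ := Char.classInner_natCast hβ hβ
  obtain ⟨k, hk⟩ := Char.classInner_natCast hα hβ
  have hk' : classInner β α = (k : ℂ) := by rw [← Char.classInner_symm, hk, Complex.conj_natCast]
  rw [Char.classInner_add_left, Char.classInner_add_right, Char.classInner_add_right, hi, hj, hk, hk'] at h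
  have h' : i + k + (k + j) = 2 := by exact_mod_cast h
  have hi1 : i ≠ 0 := fun e => hα0 (Char.classInner_self_eq_zero (by rw [hi, e, Nat.cast_zero]))
  have hj1 : j ≠ 0 := fun e => hβ0 (Char.classInner_self_eq_zero (by rw [hj, e, Nat.cast_zero]))
  refine ⟨Char.isIrr_of_norm_one hα (by rw [hi, show i = 1 by omega, Nat.cast_one]),
    Char.isIrr_of_norm_one hβ (by rw [hj, show j = 1 by omega, Nat.cast_one]), fun e => ?_⟩
  subst e
  rw [hi] at hk
  have : i = k := by exact_mod_cast hk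
  omega

theorem int_of_rat {x : ℂ} {r : ℚ} (hx : x = (r : ℂ)) (hi : IsIntegral ℤ x) : ∃ z : ℤ, x = z := by
  obtain ⟨z, hz⟩ := Char.isIntegral_rat_cast_imp (hx ▸ hi)
  exact ⟨z, by rw [hx, ← hz]; norm_cast⟩

variable {G : Type u} {Ω : Type v} [Group G] [MulAction G Ω] {a : Ω} {t : G} {Q : Subgroup G}

/-- The two constituents of the monomial character, with their integers. -/
structure IsHecke [Fintype Ω] [Fintype Q] (χ : stabilizer G a →* ℂˣ) (hS : IsRankOneSetup G Ω a t Q)
    (g m n : ℕ) (α β : IrrCharacter G) : Prop where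
  g_pos : 0 < g
  m_pos : 0 < m
  n_pos : 0 < n
  cop : Nat.Coprime m n
  card : g ^ 2 * m * n = Nat.card Q
  sum : heckeA χ hS = (g : ℂ) * ((m : ℂ) - n)
  dvd : m + n ∣ g * m + 1
  ne : α ≠ β
  add : ∀ x, (α : G → ℂ) x + (β : G → ℂ) x = (monM χ hS x).trace
  eqα : ∀ x, ((g * (m + n) : ℕ) : ℂ) * (α : G → ℂ) x =
    (monM χ hS x * opT χ hS).trace + (g * n : ℕ) * (monM χ hS x).trace

variable [Finite G] [Fintype Ω]

theorem exists_hecke [Fintype Q] (χ : stabilizer G a →* ℂˣ) (hS : IsRankOneSetup G Ω a t Q)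
    (hχ : IsTorusChar G a t Q χ) : ∃ g m n α β, IsHecke χ hS g m n α β := by
  classical
  haveI := Fintype.ofFinite G
  haveI : Fintype (stabilizer G a) := Fintype.ofFinite _
  set N := Nat.card Q with hN
  have hNpos : 0 < N := Nat.card_pos
  set A := heckeA χ hS with hA
  obtain ⟨A', hA'⟩ : ∃ r : ℝ, A = (r : ℂ) := ⟨A.re, ((Complex.conj_eq_iff_re).1 (heckeA_real χ hS hχ)).symm⟩
  set Dl := Real.sqrt (A' ^ 2 + 4 * N) with hDl
  have hpos : 0 < A' ^ 2 + 4 * (N : ℝ) := by positivity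
  have hDlpos : 0 < Dl := Real.sqrt_pos.2 hpos
  have hDsq : Dl ^ 2 = A' ^ 2 + 4 * N := Real.sq_sqrt hpos.le
  set u : ℝ := (A' + Dl) / 2 with hu
  set w : ℝ := (A' - Dl) / 2 with hw
  have huw : u * w = -(N : ℝ) := by rw [hu, hw]; linear_combination (-1 / 4 : ℝ) * hDsq
  have hadd : u + w = A' := by rw [hu, hw]; ring
  have hlt : w < 0 ∧ 0 < u := by
    have h1 : |A'| < Dl := by
      rw [hDl, ← Real.sqrt_sq_eq_abs]
      exact Real.sqrt_lt_sqrt (sq_nonneg _) (by linarith [show (0 : ℝ) < N from Nat.cast_pos.2 hNpos])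
    have h2 := abs_lt.1 h1
    rw [hu, hw]
    constructor <;> linarith
  have hne : (u : ℂ) - w ≠ 0 := by
    rw [sub_ne_zero]
    exact fun h => by linarith [Complex.ofReal_inj.1 h]
  let M : G →* Matrix Ω Ω ℂ :=
    { toFun := fun g => monM χ hS g
      map_one' := monM_one χ hS hχ
      map_mul' := fun g h => (monM_mul χ hS hχ g h).symm }
  set T := opT χ hS with hT
  have hTT : T * T = (N : ℂ) • (1 : Matrix Ω Ω ℂ) + A • T := opT_sq χ hS hχ
  have key : ∀ x y : ℂ, x - y ≠ 0 → x + y = A → x * y = -(N : ℂ) →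
      IsCharacter G (fun g => (M g * ((x - y)⁻¹ • (T - y • 1))).trace) := by
    intro x y hxy h1 h2
    refine isCharacter_idem M _ ?_ fun g => ?_
    · rw [smul_mul_assoc, mul_smul_comm, smul_smul]
      have e : (T - y • 1) * (T - y • 1) = (x - y) • (T - y • (1 : Matrix Ω Ω ℂ)) := by
        simp only [mul_sub, sub_mul, hTT, smul_mul_assoc, mul_smul_comm, one_mul, mul_one, smul_smul, smul_sub]
        rw [← h1, show (N : ℂ) = -(x * y) by rw [h2, neg_neg]]
        module
      rw [e, smul_smul, mul_assoc, inv_mul_cancel₀ hxy, mul_one]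
    · rw [mul_smul_comm, smul_mul_assoc, mul_sub, sub_mul, mul_smul_comm, smul_mul_assoc, mul_one, one_mul]
      congr 2
      exact monM_opT χ hS hχ g
  have hval : ∀ (x y : ℂ) g, (M g * ((x - y)⁻¹ • (T - y • 1))).trace =
      (x - y)⁻¹ * ((monM χ hS g * T).trace - y * (monM χ hS g).trace) := by
    intro x y g
    rw [mul_smul_comm, Matrix.trace_smul, mul_sub, Matrix.trace_sub, mul_smul_comm, mul_one,
      Matrix.trace_smul, smul_eq_mul, smul_eq_mul]
    rfl
  set fα : G → ℂ := fun g => (M g * (((u : ℂ) - w)⁻¹ • (T - (w : ℂ) • 1))).trace with hfα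
  set fβ : G → ℂ := fun g => (M g * (((w : ℂ) - u)⁻¹ • (T - (u : ℂ) • 1))).trace with hfβ
  have hαc : IsCharacter G fα := key _ _ hne (by rw [hA', ← hadd]; push_cast; rfl)
    (by rw [← Complex.ofReal_mul, huw]; push_cast; rfl)
  have hβc : IsCharacter G fβ := key _ _ (by rw [← neg_sub, neg_ne_zero]; exact hne)
    (by rw [hA', ← hadd]; push_cast; ring)
    (by rw [← Complex.ofReal_mul, mul_comm w, huw]; push_cast; rfl)
  have hsum : ∀ g, fα g + fβ g = (monM χ hS g).trace := by
    intro g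
    simp only [hfα, hfβ, hval]
    rw [show ((w : ℂ) - u)⁻¹ = -((u : ℂ) - w)⁻¹ by rw [← neg_sub, inv_neg]]
    field_simp
    ring
  have h1α : fα 1 = ((u : ℂ) - w)⁻¹ * (-(w : ℂ)) * (N + 1) := by
    simp only [hfα, hval]; simp only [hT]
    rw [trace_monM_one χ hS hχ, monM_one χ hS hχ, one_mul, trace_opT χ hS hχ]
    ring
  have h1β : fβ 1 = ((u : ℂ) - w)⁻¹ * (u : ℂ) * (N + 1) := by
    simp only [hfβ, hval]; simp only [hT]
    rw [trace_monM_one χ hS hχ, monM_one χ hS hχ, one_mul, trace_opT χ hS hχ, show ((w : ℂ) - u)⁻¹ = -((u : ℂ) - w)⁻¹ by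
      rw [← neg_sub, inv_neg]]
    ring
  have hN1 : (N : ℂ) + 1 ≠ 0 := by exact_mod_cast N.succ_ne_zero
  have hw0 : (w : ℂ) ≠ 0 := Complex.ofReal_ne_zero.2 hlt.1.ne
  have hu0 : (u : ℂ) ≠ 0 := Complex.ofReal_ne_zero.2 hlt.2.ne'
  -- the norm of the induced character
  have hnorm : classInner (fα + fβ) (fα + fβ) = 2 := by
    have hI : fα + fβ = indFun (stabilizer G a) (fun b => (χ b : ℂ)) :=
      funext fun g => by rw [Pi.add_apply, hsum, trace_monM_eq_indFun χ hS hχ]
    rw [hI, Char.frobenius _ _ (Char.isClassFunction_indFun _ _), classInner]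
    have hrow : ∀ b : stabilizer G a, (χ b : ℂ) * conj (indFun (stabilizer G a) (fun b => (χ b : ℂ)) b) =
        1 + ∑ y : Q, (χ b : ℂ) * conj (lam χ ((rep hS ((y : G) • (t • a)))⁻¹ * (b : G) *
          rep hS ((y : G) • (t • a)))) := by
      intro b
      rw [← trace_monM_eq_indFun χ hS hχ, trace_monM χ hS hχ, sum_points hS, rep_self hS, inv_one, one_mul,
        mul_one, map_add, mul_add, map_sum, Finset.mul_sum, ← lam_conj χ b.2, lam_of_mem χ (inv_mem b.2),
        ← Units.val_mul, ← map_mul, show b * (⟨(b : G)⁻¹, inv_mem b.2⟩ : stabilizer G a) = 1 from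
          Subtype.ext (mul_inv_cancel _), map_one, Units.val_one]
    rw [Finset.sum_congr rfl fun b _ => hrow b, Finset.sum_add_distrib, Finset.sum_comm,
      Finset.sum_const, Finset.card_univ, nsmul_eq_mul, mul_one]
    have hy : ∀ y : Q, ∑ b : stabilizer G a, (χ b : ℂ) * conj (lam χ ((rep hS ((y : G) • (t • a)))⁻¹ * (b : G) *
        rep hS ((y : G) • (t • a)))) = (Nat.card (D G a t) : ℂ) := by
      intro y
      rw [← Equiv.sum_comp (MulAut.conj (⟨y, hS.le y.2⟩ : stabilizer G a)).toEquiv]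
      simp only [rep_Q hS y.2, MulEquiv.toEquiv_eq_coe, EquivLike.coe_coe, MulAut.conj_apply,
        Subgroup.coe_mul, InvMemClass.coe_inv]
      have hb : ∀ b : stabilizer G a, (χ (⟨y, hS.le y.2⟩ * b * (⟨y, hS.le y.2⟩ : stabilizer G a)⁻¹) : ℂ) *
          conj (lam χ (((y : G) * t)⁻¹ * ((y : G) * b * (y : G)⁻¹) * ((y : G) * t))) =
          if (b : G) ∈ D G a t then 1 else 0 := by
        intro b
        rw [show χ (⟨y, hS.le y.2⟩ * b * (⟨y, hS.le y.2⟩ : stabilizer G a)⁻¹) = χ b by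
            rw [map_mul, map_mul, map_inv, mul_comm, inv_mul_cancel_left],
          show ((y : G) * t)⁻¹ * ((y : G) * b * (y : G)⁻¹) * ((y : G) * t) = t * b * t by
            simp only [_root_.mul_inv_rev, t_inv hS, mul_assoc, inv_mul_cancel_left]]
        split_ifs with hbD
        · rw [lam_t χ hS hχ hbD, ← lam_conj χ b.2, lam_of_mem χ (inv_mem b.2), ← Units.val_mul, ← map_mul,
            show b * (⟨(b : G)⁻¹, inv_mem b.2⟩ : stabilizer G a) = 1 from Subtype.ext (mul_inv_cancel _), map_one,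
            Units.val_one]
        · rw [lam_of_not, map_zero, mul_zero]
          intro hm
          refine hbD ⟨b.2, ?_⟩
          have h2 : (t * (b : G) * t) • a = a := hm
          rw [mul_smul, mul_smul] at h2
          show (b : G) • (t • a) = t • a
          have h3 := congrArg (fun z : Ω => t • z) h2
          simpa only [smul_smul, ← mul_assoc, hS.mul_self, one_mul] using h3
      rw [Finset.sum_congr rfl fun b _ => hb b, Finset.sum_boole, Nat.cast_inj, Nat.card_eq_fintype_card,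
        ← Finset.card_univ]
      exact Finset.card_bij (fun b hb => ⟨b, (Finset.mem_filter.1 hb).2⟩) (fun _ _ => Finset.mem_univ _)
        (fun b _ c _ h => Subtype.ext (congrArg Subtype.val h :))
        fun d _ => ⟨⟨d, (Subgroup.mem_inf.1 d.2).1⟩, Finset.mem_filter.2 ⟨Finset.mem_univ _, d.2⟩, rfl⟩
    rw [Finset.sum_congr rfl fun y _ => hy y, Finset.sum_const, Finset.card_univ, nsmul_eq_mul,
      ← Nat.card_eq_fintype_card, ← Nat.card_eq_fintype_card, R1.card_stab hS, Nat.cast_mul]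
    have h0 : (Nat.card Q : ℂ) * Nat.card (D G a t) ≠ 0 :=
      mul_ne_zero (Nat.cast_ne_zero.2 Nat.card_pos.ne') (Nat.cast_ne_zero.2 Nat.card_pos.ne')
    rw [mul_add, inv_mul_cancel₀ h0]
    norm_num
  obtain ⟨hαi, hβi, hαβ⟩ := irr_of_norm_two hαc hβc
    (fun h => mul_ne_zero (mul_ne_zero (inv_ne_zero hne) (neg_ne_zero.2 hw0)) hN1 (h1α.symm.trans (congrFun h 1)))
    (fun h => mul_ne_zero (mul_ne_zero (inv_ne_zero hne) hu0) hN1 (h1β.symm.trans (congrFun h 1))) hnorm
  -- the value at the involution of the pair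
  obtain ⟨s, r, hs, hs1, hs2, hr, hre⟩ := R1.exists_pair hS
  have hsQ := R1.inv_mem_Q hS hs hs2
  obtain ⟨hc1, hc2, -⟩ := coords_unique hS hsQ hs1 (inv_mem hr) (one_mem (D G a t)) hr
    (by rw [mul_one]; exact hre)
  have hS1 : ∀ y : Q, lam χ (hc hS ((y : G)⁻¹ * s * y)) = 1 := by
    intro y
    obtain ⟨k, hk, hke⟩ := R1.K_trans hS hs hs1 hs2 (s' := (y : G)⁻¹ * s * y) (by
        rw [mul_smul, mul_smul, R1.fix_a hS y.2, hs, R1.fix_a hS (inv_mem y.2)])
      (fun h => hs1 (by
        have := congrArg (fun z => (y : G) * z * (y : G)⁻¹) h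
        simpa [mul_assoc] using this))
      (by rw [show (y : G)⁻¹ * s * y * ((y : G)⁻¹ * s * y) = (y : G)⁻¹ * (s * s) * y by group, hs2]; group)
    obtain ⟨hkD, hki⟩ := id hk
    rw [t_inv hS] at hki
    have e := (coords_conj hS hsQ hs1 (inv_mem hkD)).2.1
    rw [hc2, mul_one, inv_inv, hke] at e
    rw [e, show t * k⁻¹ * t = k by rw [← hki]; simp only [mul_assoc, tt hS, hS.mul_self, mul_one],
      lam_mul_left χ (Subgroup.mem_inf.1 hkD).1, lam_K χ hS hχ hk, one_mul]
  obtain ⟨d, hd⟩ := Char.charOne_eq_natCast hαc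
  obtain ⟨z, hz⟩ := Char.char_involution_int hαc (t := s) (by rw [pow_two, hs2])
  set S := ∑ y : Q, lam χ (hc hS ((y : G)⁻¹ * s * y)) with hSdef
  have hzs : ((u : ℂ) - w)⁻¹ * (S - (w : ℂ)) = z := by
    rw [← hz]
    simp only [hfα, hval]
    rw [trace_monM_Q χ hS hχ hsQ hs1, mul_one, hT, trace_opT_Q χ hS hχ hsQ hs1]
  have hSN : S = N := by
    simp only [hSdef, hS1, Finset.sum_const, Finset.card_univ, nsmul_eq_mul, mul_one, hN,
      Nat.card_eq_fintype_card]
  rw [hSN, inv_mul_eq_iff_eq_mul₀ hne] at hzs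
  rw [h1α, inv_mul_eq_div, div_mul_eq_mul_div, div_eq_iff hne] at hd
  -- rationality
  set c : ℚ := z - d / (N + 1) with hc'
  have hΔ : ((u : ℂ) - w) * (c : ℂ) = N := by
    rw [hc']; push_cast
    field_simp
    linear_combination -((N : ℂ) + 1) * hzs + hd
  have hc0 : (c : ℂ) ≠ 0 := fun h => by
    rw [h, mul_zero] at hΔ
    exact hNpos.ne' (by exact_mod_cast hΔ.symm)
  have hΔq : (u : ℂ) - w = ((N / c : ℚ) : ℂ) := by
    push_cast
    rw [eq_div_iff hc0, hΔ]
  have hwq : (w : ℂ) = ((-(d * (N / c)) / (N + 1) : ℚ) : ℂ) := by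
    push_cast at hΔq ⊢
    rw [eq_div_iff hN1, ← hΔq]
    linear_combination -hd
  have huq : (u : ℂ) = ((N / c + -(d * (N / c)) / (N + 1) : ℚ) : ℂ) := by
    rw [Rat.cast_add, ← hΔq, ← hwq]; ring
  have hAint : IsIntegral ℤ A := by
    refine IsIntegral.sum _ fun x _ => ?_
    split_ifs with hx1
    · exact isIntegral_zero
    · rw [lam_of_mem χ (Subgroup.mem_inf.1 (hc_mem hS x.2 hx1)).1]
      refine IsIntegral.of_pow (n := Nat.card (stabilizer G a)) Nat.card_pos ?_
      rw [← Units.val_pow_eq_pow_val, ← map_pow, pow_card_eq_one', map_one, Units.val_one]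
      exact isIntegral_one
  obtain ⟨Az, hAz⟩ := int_of_rat (r := (N / c + -(d * (N / c)) / (N + 1)) + -(d * (N / c)) / (N + 1))
    (by rw [Rat.cast_add, ← huq, ← hwq, ← Complex.ofReal_add, hadd, hA']) hAint
  have hroot : ∀ x : ℂ, x * x = A * x + N → IsIntegral ℤ x := fun x hx =>
    ⟨Polynomial.X ^ 2 - Polynomial.C Az * Polynomial.X - Polynomial.C (N : ℤ), by monicity!, by
      rw [hAz] at hx
      simp only [Polynomial.eval₂_sub, Polynomial.eval₂_mul, Polynomial.eval₂_pow, Polynomial.eval₂_X,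
        Polynomial.eval₂_C]
      simp only [eq_intCast, Int.cast_natCast]
      linear_combination hx⟩
  have huwC : (u : ℂ) * w = -(N : ℂ) := by rw [← Complex.ofReal_mul, huw]; push_cast; rfl
  have haddC : (u : ℂ) + w = A := by rw [← Complex.ofReal_add, hadd, hA']
  obtain ⟨Uz, hUz⟩ := int_of_rat huq (hroot _ (by linear_combination (u : ℂ) * haddC - huwC))
  obtain ⟨Wz, hWz⟩ := int_of_rat hwq (hroot _ (by linear_combination (w : ℂ) * haddC - huwC))
  have hUpos : (0 : ℤ) < Uz := by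
    have h : u = (Uz : ℝ) := by exact_mod_cast hUz
    exact_mod_cast h ▸ hlt.2
  have hWneg : Wz < (0 : ℤ) := by
    have h : w = (Wz : ℝ) := by exact_mod_cast hWz
    exact_mod_cast h ▸ hlt.1
  obtain ⟨U, rfl⟩ := Int.eq_ofNat_of_zero_le hUpos.le
  obtain ⟨W, hW⟩ := Int.eq_ofNat_of_zero_le (show 0 ≤ -Wz by omega)
  rw [show Wz = -(W : ℤ) by omega] at hWz
  have hUpos' : 0 < U := by exact_mod_cast hUpos
  have hWpos : 0 < W := by omega
  push_cast at hUz hWz
  have hUW : U * W = N := by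
    rw [hUz, hWz] at huwC
    have : (U : ℂ) * W = N := by linear_combination -huwC
    exact_mod_cast this
  obtain ⟨g, m, n, hg, hcop, hm, hn⟩ : ∃ g m n, 0 < g ∧ Nat.Coprime m n ∧ U = m * g ∧ W = n * g :=
    Nat.exists_coprime' (Nat.gcd_pos_of_pos_left W hUpos')
  have hm0 : 0 < m := Nat.pos_of_ne_zero fun h => by simp [h] at hm; omega
  have hn0 : 0 < n := Nat.pos_of_ne_zero fun h => by simp [h] at hn; omega
  have hΔN : (u : ℂ) - w = ((g * (m + n) : ℕ) : ℂ) := by
    rw [hUz, hWz, hm, hn]; push_cast; ring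
  refine ⟨g, m, n, ⟨fα, hαi⟩, ⟨fβ, hβi⟩, hg, hm0, hn0, hcop, by rw [← hN, ← hUW, hm, hn]; ring, ?_, ?_,
    fun h => hαβ (congrArg Subtype.val h), hsum, fun x => ?_⟩
  · rw [← hA, ← haddC, hUz, hWz, hm, hn]; push_cast; ring
  · have h1 : ((z : ℤ) * ((m + n : ℕ) : ℤ) : ℤ) = ((n * (g * m + 1) : ℕ) : ℤ) := by
      rw [hΔN, hWz, hn, show (N : ℂ) = ((g ^ 2 * m * n : ℕ) : ℂ) by rw [← hUW, hm, hn]; push_cast; ring] at hzs
      have hg0 : (g : ℂ) ≠ 0 := Nat.cast_ne_zero.2 hg.ne'
      have h2 : (z : ℂ) * ((m : ℂ) + n) = (n : ℂ) * ((g : ℂ) * m + 1) := by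
        refine mul_left_cancel₀ hg0 ?_
        push_cast at hzs
        linear_combination -hzs
      exact_mod_cast h2
    have h3 : m + n ∣ n * (g * m + 1) :=
      Int.natCast_dvd_natCast.1 ⟨z, by rw [← h1, mul_comm]⟩
    exact (Nat.Coprime.dvd_of_dvd_mul_left (by simpa using hcop) h3)
  · show _ * fα x = _
    simp only [hfα, hval]
    rw [← hΔN, mul_inv_cancel_left₀ hne, hWz, hn]
    push_cast
    ring

end Cfsg.Agent.Lie.R1C
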