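import Cfsg.Agent.Lib.Lie.SplitRankOne.HFun
import Cfsg.Agent.Lib.Char.Ortho
import Cfsg.Agent.Lib.Char.Induction

/-!
The monomial representation of a rank-one group given by a linear character of the point stabiliser which is
trivial on `Q` and on the elements of `D` inverted by `t`, and the intertwining operator of the second double coset.
-/

set_option autoImplicit false
set_option linter.unusedSectionVars false
set_option linter.unusedSimpArgs false
set_option linter.style.haveILetI false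

namespace Cfsg.Agent.Lie.R1C

open Cfsg MulAction
open Cfsg.Agent.Lie.R1 (D tt t_inv tDt)
open scoped ComplexConjugate

variable {G Ω : Type*} [Group G] [MulAction G Ω] {a : Ω} {t : G} {Q : Subgroup G}

/-- A linear character of the point stabiliser trivial on `Q` and on the inverted elements of `D`. -/
structure IsTorusChar (G : Type*) {Ω : Type*} [Group G] [MulAction G Ω] (a : Ω) (t : G) (Q : Subgroup G)
    (χ : stabilizer G a →* ℂˣ) : Prop where
  onQ : ∀ b : stabilizer G a, (b : G) ∈ Q → χ b = 1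
  onK : ∀ b : stabilizer G a, (b : G) ∈ invertedBy (D G a t) t → χ b = 1

/-- The extension by zero of the linear character. -/
noncomputable def lam (χ : stabilizer G a →* ℂˣ) (g : G) : ℂ :=
  by classical exact if h : g ∈ stabilizer G a then (χ ⟨g, h⟩ : ℂ) else 0

variable (χ : stabilizer G a →* ℂˣ)

theorem lam_of_mem {g : G} (h : g ∈ stabilizer G a) : lam χ g = (χ ⟨g, h⟩ : ℂ) := dif_pos h

theorem lam_of_not {g : G} (h : g ∉ stabilizer G a) : lam χ g = 0 := dif_neg h

theorem lam_one : lam χ (1 : G) = 1 := by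
  rw [lam_of_mem χ (one_mem _), show (⟨1, one_mem _⟩ : stabilizer G a) = 1 from rfl, map_one, Units.val_one]

theorem lam_mul_left {g g' : G} (h : g ∈ stabilizer G a) : lam χ (g * g') = lam χ g * lam χ g' := by
  by_cases h' : g' ∈ stabilizer G a
  · rw [lam_of_mem χ (mul_mem h h'), lam_of_mem χ h, lam_of_mem χ h', ← Units.val_mul, ← map_mul]; rfl
  · rw [lam_of_not χ h', mul_zero, lam_of_not]
    exact fun hm => h' (by simpa using mul_mem (inv_mem h) hm)

theorem lam_mul_right {g g' : G} (h : g' ∈ stabilizer G a) : lam χ (g * g') = lam χ g * lam χ g' := by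
  by_cases hg : g ∈ stabilizer G a
  · exact lam_mul_left χ hg
  · rw [lam_of_not χ hg, zero_mul, lam_of_not]
    exact fun hm => hg (by simpa using mul_mem hm (inv_mem h))

theorem lam_conj [Finite G] {g : G} (h : g ∈ stabilizer G a) : lam χ g⁻¹ = conj (lam χ g) := by
  rw [lam_of_mem χ (inv_mem h), lam_of_mem χ h,
    show (⟨g⁻¹, inv_mem h⟩ : stabilizer G a) = ⟨g, h⟩⁻¹ from rfl, map_inv, Units.val_inv_eq_inv_val]
  set u : ℂ := (χ ⟨g, h⟩ : ℂ) with hu
  have h1 : ‖u‖ = 1 := by
    refine Complex.norm_eq_one_of_pow_eq_one (n := Nat.card (stabilizer G a)) ?_ Nat.card_pos.ne'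
    rw [hu, ← Units.val_pow_eq_pow_val, ← map_pow, pow_card_eq_one', map_one, Units.val_one]
  exact (Complex.inv_eq_conj h1)

theorem lam_conj_mem {b g : G} (hb : b ∈ stabilizer G a) : lam χ (b * g * b⁻¹) = lam χ g := by
  rw [lam_mul_right χ (inv_mem hb), lam_mul_left χ hb, mul_right_comm, ← lam_mul_left χ hb,
    mul_inv_cancel, lam_one, one_mul]

variable (hS : IsRankOneSetup G Ω a t Q) (hχ : IsTorusChar G a t Q χ)

include hS hχ

theorem lam_Q {q : G} (hq : q ∈ Q) : lam χ q = 1 := by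
  rw [lam_of_mem χ (hS.le hq), hχ.onQ ⟨q, hS.le hq⟩ hq, Units.val_one]

theorem lam_K {k : G} (hk : k ∈ invertedBy (D G a t) t) : lam χ k = 1 := by
  have h1 : k ∈ stabilizer G a := (Subgroup.mem_inf.1 hk.1).1
  rw [lam_of_mem χ h1, hχ.onK ⟨k, h1⟩ hk, Units.val_one]

theorem lam_t [Finite G] {d : G} (hd : d ∈ D G a t) : lam χ (t * d * t) = lam χ d := by
  obtain ⟨z, hz, hzi, hy⟩ := exists_decomp hS.mul_self (fun x hx => tDt hS hx) hS.odd_card hd
  have hzK : z ∈ invertedBy (D G a t) t := ⟨hz, by rw [t_inv hS]; exact hzi⟩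
  have hzK' : z⁻¹ ∈ invertedBy (D G a t) t := ⟨inv_mem hz, by
    rw [t_inv hS, inv_inv, ← hzi]
    simp only [mul_assoc, tt hS, hS.mul_self, mul_one]⟩
  have hyB : d * z⁻¹ ∈ stabilizer G a := (Subgroup.mem_inf.1 (mul_mem hd (inv_mem hz))).1
  have e1 : t * d * t = (d * z⁻¹) * z⁻¹ := by
    have h : t * (d * z⁻¹) * t * (t * z * t) = d * z⁻¹ * (t * z * t) := congrArg (fun y : G => y * (t * z * t)) hy
    rw [show t * (d * z⁻¹) * t * (t * z * t) = t * d * t by
      simp only [mul_assoc, tt hS, inv_mul_cancel_left], hzi] at h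
    exact h
  rw [e1, lam_mul_left χ hyB, lam_K χ hS hχ hzK']
  conv_rhs => rw [show d = d * z⁻¹ * z by simp, lam_mul_left χ hyB, lam_K χ hS hχ hzK]

/-- The basis function of the second double coset. -/
noncomputable def tauF (g : G) : ℂ :=
  by classical exact if h : g • a ≠ a then lam χ (R1.canonical hS g h).choose.1 else 0

theorem tauF_eq {p q : G} (hp : p ∈ stabilizer G a) (hq : q ∈ Q) :
    tauF χ hS (p * t * q) = lam χ p := by
  have hne : (p * t * q) • a ≠ a := by
    rw [mul_smul, mul_smul, R1.fix_a hS hq]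
    exact fun h => R1.ta_ne hS (MulAction.injective p (h.trans (mem_stabilizer_iff.1 hp).symm))
  rw [tauF, dif_pos hne]
  have h := (R1.canonical hS _ hne).choose_spec
  rw [← h.2 (p, q) ⟨hp, hq, rfl⟩]

theorem tauF_of_mem {g : G} (hg : g ∈ stabilizer G a) : tauF χ hS g = 0 :=
  dif_neg (not_not.2 hg)

theorem tauF_left {b : G} (hb : b ∈ stabilizer G a) (g : G) :
    tauF χ hS (b * g) = lam χ b * tauF χ hS g := by
  by_cases hg : g • a = a
  · rw [tauF_of_mem χ hS hχ hg, tauF_of_mem χ hS hχ (mul_mem hb hg), mul_zero]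
  · obtain ⟨⟨p, q⟩, ⟨hp, hq, rfl⟩, -⟩ := R1.canonical hS g hg
    rw [← mul_assoc, ← mul_assoc, tauF_eq χ hS hχ (mul_mem hb hp) hq, tauF_eq χ hS hχ hp hq,
      lam_mul_left χ hb]

theorem tauF_right [Finite G] {b : G} (hb : b ∈ stabilizer G a) (g : G) :
    tauF χ hS (g * b) = tauF χ hS g * lam χ b := by
  by_cases hg : g • a = a
  · rw [tauF_of_mem χ hS hχ hg, tauF_of_mem χ hS hχ (mul_mem hg hb), zero_mul]
  · obtain ⟨⟨p, q⟩, ⟨hp, hq, rfl⟩, -⟩ := R1.canonical hS g hg
    simp only at hp hq ⊢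
    obtain ⟨r, hr, d, hd, rfl⟩ := R1.mem_sup hS hb
    have hd' := tDt hS hd
    have hq' : d⁻¹ * (q * r) * d ∈ Q := by
      have := R1.conj_Q hS (Subgroup.mem_inf.1 (inv_mem hd)).1 (mul_mem hq hr)
      simpa only [inv_inv] using this
    have e : p * t * q * (r * d) = (p * (t * d * t)) * t * (d⁻¹ * (q * r) * d) := by
      simp only [mul_assoc, tt hS, mul_inv_cancel_left]
    rw [e, tauF_eq χ hS hχ (mul_mem hp (Subgroup.mem_inf.1 hd').1) hq', tauF_eq χ hS hχ hp hq,
      lam_mul_left χ hp, lam_t χ hS hχ hd, lam_mul_left χ (hS.le hr), lam_Q χ hS hχ hr, one_mul]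

omit hχ in
theorem exists_rep (b : Ω) : ∃ g : G, g • a = b ∧ (b = a → g = 1) ∧
    (b ≠ a → ∃ q ∈ Q, g = q * t ∧ q • (t • a) = b) := by
  by_cases h : b = a
  · exact ⟨1, by rw [one_smul, h], fun _ => rfl, fun h' => absurd h h'⟩
  · obtain ⟨q, hq, hqe⟩ := R1.exists_q hS h
    exact ⟨q * t, by rw [mul_smul, hqe], fun h' => absurd h' h, fun _ => ⟨q, hq, rfl, hqe⟩⟩

/-- Coset representatives. -/
noncomputable def rep (b : Ω) : G := (exists_rep hS b).choose

omit hχ in
theorem rep_smul (b : Ω) : rep hS b • a = b := (exists_rep hS b).choose_spec.1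

omit hχ in
theorem rep_self : rep hS a = 1 := (exists_rep hS a).choose_spec.2.1 rfl

omit hχ in
theorem rep_Q {q : G} (hq : q ∈ Q) : rep hS (q • (t • a)) = q * t := by
  have hne : q • (t • a) ≠ a := fun h => R1.ta_ne hS (MulAction.injective q (h.trans (R1.fix_a hS hq).symm))
  obtain ⟨q', hq', e, he⟩ := (exists_rep hS _).choose_spec.2.2 hne
  rw [rep, e, R1.q_unique hS hq' hq he]

omit hχ in
theorem rep_mem (i k : Ω) (g : G) :
    (rep hS i)⁻¹ * g * rep hS k ∈ stabilizer G a ↔ g • k = i := by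
  rw [mem_stabilizer_iff, mul_smul, mul_smul, rep_smul hS, inv_smul_eq_iff, rep_smul hS]

variable [Finite G] [Fintype Ω]

omit hχ in
/-- Splitting a sum over the points at `a`. -/
theorem sum_points (F : Ω → ℂ) [Fintype Q] : ∑ i, F i = F a + ∑ q : Q, F ((q : G) • (t • a)) := by
  classical
  rw [← Finset.add_sum_erase _ F (Finset.mem_univ a)]
  congr 1
  refine (Finset.sum_bij (fun (q : Q) _ => (q : G) • (t • a)) ?_ ?_ ?_ (fun _ _ => rfl)).symm
  · intro q _
    exact Finset.mem_erase.2 ⟨fun h => R1.ta_ne hS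
      (MulAction.injective (q : G) (h.trans (R1.fix_a hS q.2).symm)), Finset.mem_univ _⟩
  · exact fun q _ q' _ h => Subtype.ext (R1.q_unique hS q.2 q'.2 h)
  · intro b hb
    obtain ⟨q, hq, hqe⟩ := R1.exists_q hS (Finset.ne_of_mem_erase hb)
    exact ⟨⟨q, hq⟩, Finset.mem_univ _, hqe⟩

/-- The monomial matrices. -/
noncomputable def monM (g : G) : Matrix Ω Ω ℂ :=
  Matrix.of fun i j => lam χ ((rep hS i)⁻¹ * g * rep hS j)

/-- The intertwining operator. -/
noncomputable def opT : Matrix Ω Ω ℂ :=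
  Matrix.of fun i j => tauF χ hS ((rep hS i)⁻¹ * rep hS j)

theorem sum_mon (F : G → ℂ) (hF : ∀ b ∈ stabilizer G a, ∀ g, F (b * g) = lam χ b * F g) (i : Ω) (g y : G) :
    ∑ k, lam χ ((rep hS i)⁻¹ * g * rep hS k) * F ((rep hS k)⁻¹ * y) = F ((rep hS i)⁻¹ * g * y) := by
  rw [Finset.sum_eq_single (g⁻¹ • i)]
  · rw [← hF _ ((rep_mem hS _ _ _).2 (smul_inv_smul g i))]
    congr 1
    simp only [mul_assoc, mul_inv_cancel_left]
  · intro k _ hk
    rw [lam_of_not χ (fun h => hk (by rw [← (rep_mem hS _ _ _).1 h, inv_smul_smul])), zero_mul]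
  · exact fun h => absurd (Finset.mem_univ _) h

theorem monM_mul (g g' : G) : monM χ hS g * monM χ hS g' = monM χ hS (g * g') := by
  ext i j
  simp only [Matrix.mul_apply, monM, Matrix.of_apply, mul_assoc _ g' (rep hS j)]
  rw [sum_mon χ hS hχ (lam χ) (fun b hb g => lam_mul_left χ hb) i g (g' * rep hS j)]
  simp only [mul_assoc]

theorem monM_one [DecidableEq Ω] : monM χ hS (1 : G) = 1 := by
  ext i j
  rw [monM, Matrix.of_apply, mul_one, Matrix.one_apply]
  split_ifs with h
  · rw [h, inv_mul_cancel, lam_one]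
  · refine lam_of_not χ fun hm => h ?_
    have := (rep_mem hS i j 1).1 (by rwa [mul_one])
    rwa [one_smul, eq_comm] at this

theorem monM_opT (g : G) : monM χ hS g * opT χ hS = opT χ hS * monM χ hS g := by
  ext i j
  simp only [Matrix.mul_apply, monM, opT, Matrix.of_apply]
  rw [sum_mon χ hS hχ (tauF χ hS) (fun b hb g => tauF_left χ hS hχ hb g) i g (rep hS j),
    Finset.sum_eq_single (g • j)]
  · rw [← tauF_right χ hS hχ ((rep_mem hS _ _ _).2 rfl)]
    congr 1
    simp only [mul_assoc, mul_inv_cancel_left]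
  · intro k _ hk
    rw [lam_of_not χ (fun h => hk ((rep_mem hS _ _ _).1 h).symm), mul_zero]
  · exact fun h => absurd (Finset.mem_univ _) h

/-- The value of the square of the operator at the identity double coset. -/
noncomputable def heckeA [Fintype Q] : ℂ :=
  by classical exact ∑ x : Q, if (x : G) = 1 then 0 else lam χ (hc hS (x : G))

theorem opT_sq [DecidableEq Ω] [Fintype Q] :
    opT χ hS * opT χ hS = (Nat.card Q : ℂ) • (1 : Matrix Ω Ω ℂ) + heckeA χ hS • opT χ hS := by
  classical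
  ext i j
  simp only [Matrix.mul_apply, Matrix.add_apply, Matrix.smul_apply, opT, Matrix.of_apply, smul_eq_mul]
  set y := (rep hS i)⁻¹ * rep hS j with hy
  -- translate the sum to start at `a`
  set ρ := rep hS i with hρ
  have h0 : ∑ k, tauF χ hS (ρ⁻¹ * rep hS k) * tauF χ hS ((rep hS k)⁻¹ * rep hS j) =
      ∑ l, tauF χ hS (rep hS l) * tauF χ hS ((rep hS l)⁻¹ * y) := by
    refine (Fintype.sum_equiv (MulAction.toPerm ρ) _ _ fun l => ?_).symm
    show _ = tauF χ hS (ρ⁻¹ * rep hS (ρ • l)) * tauF χ hS ((rep hS (ρ • l))⁻¹ * rep hS j)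
    have hb : (rep hS (ρ • l))⁻¹ * ρ * rep hS l ∈ stabilizer G a := (rep_mem hS _ _ _).2 rfl
    set b := (rep hS (ρ • l))⁻¹ * ρ * rep hS l with hbdef
    have e1 : ρ⁻¹ * rep hS (ρ • l) = rep hS l * b⁻¹ := by
      simp only [hbdef, _root_.mul_inv_rev, inv_inv, mul_assoc, mul_inv_cancel_left]
    have e2 : (rep hS (ρ • l))⁻¹ * rep hS j = b * ((rep hS l)⁻¹ * y) := by
      simp only [hbdef, hy, mul_assoc, mul_inv_cancel_left]
    rw [e1, e2, tauF_right χ hS hχ (inv_mem hb), tauF_left χ hS hχ hb,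
      show ∀ p q r u : ℂ, p * q * (r * u) = p * u * (q * r) from fun p q r u => by ring,
      ← lam_mul_left χ (inv_mem hb), inv_mul_cancel, lam_one, mul_one]
  rw [h0, sum_points hS, rep_self hS, tauF_of_mem χ hS hχ (one_mem _), zero_mul, zero_add]
  have h1 : ∀ q : Q, tauF χ hS (rep hS ((q : G) • (t • a))) = 1 := fun q => by
    rw [rep_Q hS q.2]
    have := tauF_eq χ hS hχ (hS.le q.2) (one_mem Q)
    rwa [mul_one, lam_Q χ hS hχ q.2] at this
  simp only [h1, one_mul]
  simp only [rep_Q hS (SetLike.coe_mem _), _root_.mul_inv_rev, t_inv hS]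
  rw [← Equiv.sum_comp (Equiv.inv Q)]
  simp only [Equiv.inv_apply, InvMemClass.coe_inv, inv_inv]
  by_cases hyB : y ∈ stabilizer G a
  · have hij : i = j := by
      have := (rep_mem hS i j 1).1 (by rwa [mul_one])
      rwa [one_smul, eq_comm] at this
    have hy1 : y = 1 := by rw [hy, hρ, hij, inv_mul_cancel]
    subst hij
    rw [tauF_of_mem χ hS hχ hyB, mul_zero, add_zero, Matrix.one_apply_eq, mul_one]
    have h2 : ∀ q : Q, tauF χ hS (t * (q : G) * y) = 1 := fun q => by
      have := tauF_eq χ hS hχ (one_mem _) q.2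
      rwa [hy1, mul_one, ← lam_one χ, ← one_mul (t * (q : G)), ← mul_assoc]
    simp only [h2, Finset.sum_const, Finset.card_univ, nsmul_eq_mul, mul_one, Nat.card_eq_fintype_card]
  · have hij : i ≠ j := fun h => hyB (by rw [hy, hρ, h, inv_mul_cancel]; exact one_mem _)
    rw [Matrix.one_apply_ne hij, mul_zero, zero_add]
    obtain ⟨⟨p, q₀⟩, ⟨hp, hq₀, hye⟩, -⟩ := R1.canonical hS y hyB
    simp only at hp hq₀ hye
    obtain ⟨q₁, hq₁, d, hd, rfl⟩ := R1.mem_sup hS hp
    rw [hye, tauF_eq χ hS hχ hp hq₀, lam_mul_left χ (hS.le hq₁), lam_Q χ hS hχ hq₁, one_mul, heckeA,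
      Finset.sum_mul]
    let e₁ : Q ≃ Q :=
      { toFun := fun x => (⟨d⁻¹ * ((x : G) * q₁) * d, by
          have := R1.conj_Q hS (Subgroup.mem_inf.1 (inv_mem hd)).1 (mul_mem x.2 hq₁)
          simpa only [inv_inv] using this⟩ : Q)
        invFun := fun x => (⟨d * (x : G) * d⁻¹ * q₁⁻¹,
          mul_mem (R1.conj_Q hS (Subgroup.mem_inf.1 hd).1 x.2) (inv_mem hq₁)⟩ : Q)
        left_inv := fun x => Subtype.ext (by
          simp only [mul_assoc, mul_inv_cancel_left, mul_inv_cancel, mul_one])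
        right_inv := fun x => Subtype.ext (by
          simp only [mul_assoc, inv_mul_cancel_left, inv_mul_cancel, mul_one]) }
    refine Fintype.sum_equiv e₁ _ _ fun x => ?_
    set x' : G := d⁻¹ * ((x : G) * q₁) * d with hx'
    show _ = (if x' = 1 then 0 else lam χ (hc hS x')) * lam χ d
    have e : t * (x : G) * (q₁ * d * t * q₀) = (t * d * t) * (t * x' * t) * q₀ := by
      simp only [hx', mul_assoc, tt hS, mul_inv_cancel_left]
    rw [e, tauF_right χ hS hχ (hS.le hq₀), lam_Q χ hS hχ hq₀, mul_one,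
      tauF_left χ hS hχ (Subgroup.mem_inf.1 (tDt hS hd)).1, lam_t χ hS hχ hd, mul_comm]
    congr 1
    by_cases hx1 : x' = 1
    · rw [if_pos hx1, hx1, mul_one, hS.mul_self]
      exact tauF_of_mem χ hS hχ (one_mem _)
    · have hxQ : x' ∈ Q := by
        have := R1.conj_Q hS (Subgroup.mem_inf.1 (inv_mem hd)).1 (mul_mem x.2 hq₁)
        simpa only [inv_inv] using this
      rw [if_neg hx1, coords_eq hS hxQ hx1, mul_assoc _ t, ← mul_assoc (gc hS x' * hc hS x'),
        tauF_eq χ hS hχ (mul_mem (hS.le (gc_mem hS hxQ hx1)) (Subgroup.mem_inf.1 (hc_mem hS hxQ hx1)).1)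
          (fc_mem hS hxQ hx1), lam_mul_left χ (hS.le (gc_mem hS hxQ hx1)),
        lam_Q χ hS hχ (gc_mem hS hxQ hx1), one_mul]

theorem trace_monM (g : G) : (monM χ hS g).trace = ∑ i, lam χ ((rep hS i)⁻¹ * g * rep hS i) := rfl

/-- The trace of the monomial matrices is the induced character. -/
theorem trace_monM_eq_indFun [Fintype G] (g : G) :
    (monM χ hS g).trace = indFun (stabilizer G a) (fun b => (χ b : ℂ)) g := by
  classical
  haveI := hS.two_transitive
  haveI : MulAction.IsPretransitive G Ω := MulAction.isPretransitive_of_is_two_pretransitive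
  have hext : ∀ y : G, extendByZero (stabilizer G a) (fun b => (χ b : ℂ)) y = lam χ y := fun y => by
    by_cases hy : y ∈ stabilizer G a
    · rw [Char.extendByZero_mem _ _ hy, lam_of_mem χ hy]
    · rw [Char.extendByZero_not_mem _ _ hy, lam_of_not χ hy]
  have hfib : ∀ i : Ω, ∑ x : G with x • a = i, lam χ (x⁻¹ * g * x) =
      (Nat.card (stabilizer G a) : ℂ) * lam χ ((rep hS i)⁻¹ * g * rep hS i) := by
    intro i
    have hc : ∀ x ∈ Finset.univ.filter (fun x : G => x • a = i),
        lam χ (x⁻¹ * g * x) = lam χ ((rep hS i)⁻¹ * g * rep hS i) := by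
      intro x hx
      have hb : (rep hS i)⁻¹ * x ∈ stabilizer G a := by
        rw [mem_stabilizer_iff, mul_smul, (Finset.mem_filter.1 hx).2, inv_smul_eq_iff, rep_smul hS]
      conv_rhs => rw [← lam_conj_mem χ (inv_mem hb)]
      congr 1
      simp only [_root_.mul_inv_rev, inv_inv, mul_assoc, mul_inv_cancel_left]
    rw [Finset.sum_congr rfl hc, Finset.sum_const, nsmul_eq_mul]
    congr 2
    rw [Nat.card_eq_fintype_card, ← Finset.card_univ]
    refine Finset.card_bij (fun x hx => ⟨(rep hS i)⁻¹ * x, by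
        rw [mem_stabilizer_iff, mul_smul, (Finset.mem_filter.1 hx).2, inv_smul_eq_iff, rep_smul hS]⟩)
      (fun _ _ => Finset.mem_univ _) (fun x _ y _ h => mul_left_cancel (congrArg Subtype.val h))
      fun b _ => ⟨rep hS i * b, Finset.mem_filter.2 ⟨Finset.mem_univ _, by
        rw [mul_smul, mem_stabilizer_iff.1 b.2, rep_smul hS]⟩, Subtype.ext (inv_mul_cancel_left _ _)⟩
  rw [indFun, trace_monM χ hS hχ]
  simp only [hext]
  rw [← Finset.sum_fiberwise Finset.univ (fun x : G => x • a) (fun x => lam χ (x⁻¹ * g * x))]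
  simp only [hfib, ← Finset.mul_sum, ← mul_assoc]
  rw [inv_mul_cancel₀ (Nat.cast_ne_zero.2 Nat.card_pos.ne'), one_mul]

/-- The trace on the elements of `Q`. -/
theorem trace_monM_Q {x : G} (hx : x ∈ Q) (hx1 : x ≠ 1) : (monM χ hS x).trace = 1 := by
  classical
  haveI := Fintype.ofFinite Q
  rw [trace_monM χ hS hχ, sum_points hS, rep_self hS, inv_one, one_mul, mul_one, lam_Q χ hS hχ hx,
    Finset.sum_eq_zero, add_zero]
  intro q _
  refine lam_of_not χ fun h => hx1 (R1.q_free hS hx (b := (q : G) • (t • a)) ?_ ((rep_mem hS _ _ _).1 h))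
  exact fun h' => R1.ta_ne hS (MulAction.injective (q : G) (h'.trans (R1.fix_a hS q.2).symm))

/-- The trace of the operator against the elements of `Q`. -/
theorem trace_opT_Q [Fintype Q] {x : G} (hx : x ∈ Q) (hx1 : x ≠ 1) :
    (monM χ hS x * opT χ hS).trace = ∑ y : Q, lam χ (hc hS ((y : G)⁻¹ * x * y)) := by
  classical
  have h : (monM χ hS x * opT χ hS).trace = ∑ i, tauF χ hS ((rep hS i)⁻¹ * x * rep hS i) := by
    refine Finset.sum_congr rfl fun i _ => ?_
    simp only [Matrix.diag_apply, Matrix.mul_apply, monM, opT, Matrix.of_apply]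
    exact sum_mon χ hS hχ (tauF χ hS) (fun b hb g => tauF_left χ hS hχ hb g) i x (rep hS i)
  rw [h, sum_points hS, rep_self hS, inv_one, one_mul, mul_one, tauF_of_mem χ hS hχ (hS.le hx), zero_add]
  refine Finset.sum_congr rfl fun y _ => ?_
  rw [rep_Q hS y.2]
  set x' := (y : G)⁻¹ * x * y with hx'
  have hxQ : x' ∈ Q := mul_mem (mul_mem (inv_mem y.2) hx) y.2
  have hx1' : x' ≠ 1 := fun h => hx1 (by
    have := congrArg (fun z => (y : G) * z * (y : G)⁻¹) h
    simpa [hx', mul_assoc] using this)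
  rw [show ((y : G) * t)⁻¹ * x * ((y : G) * t) = t * x' * t by
      simp only [hx', _root_.mul_inv_rev, t_inv hS, mul_assoc], coords_eq hS hxQ hx1',
    tauF_eq χ hS hχ (mul_mem (hS.le (gc_mem hS hxQ hx1')) (Subgroup.mem_inf.1 (hc_mem hS hxQ hx1')).1)
      (fc_mem hS hxQ hx1'), lam_mul_left χ (hS.le (gc_mem hS hxQ hx1')),
    lam_Q χ hS hχ (gc_mem hS hxQ hx1'), one_mul]

theorem heckeA_real [Fintype Q] : conj (heckeA χ hS) = heckeA χ hS := by
  classical
  rw [heckeA, map_sum, ← Equiv.sum_comp (Equiv.inv Q)]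
  refine Finset.sum_congr rfl fun x _ => ?_
  simp only [Equiv.inv_apply, InvMemClass.coe_inv, inv_eq_one]
  by_cases hx1 : (x : G) = 1
  · simp [hx1]
  rw [if_neg hx1, if_neg hx1, (coords_inv hS x.2 hx1).2.1,
    lam_t χ hS hχ (inv_mem (hc_mem hS x.2 hx1)), lam_conj χ (Subgroup.mem_inf.1 (hc_mem hS x.2 hx1)).1,
    Complex.conj_conj]

theorem trace_opT : (opT χ hS).trace = 0 := by
  refine Finset.sum_eq_zero fun i _ => ?_
  rw [Matrix.diag_apply, opT, Matrix.of_apply, inv_mul_cancel]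
  exact tauF_of_mem χ hS hχ (one_mem _)

theorem trace_monM_one : (monM χ hS (1 : G)).trace = (Nat.card Q : ℂ) + 1 := by
  classical
  rw [monM_one χ hS hχ, Matrix.trace_one]
  have := R1.card_Ω hS
  rw [Nat.card_eq_fintype_card] at this
  rw [this, Nat.cast_add, Nat.cast_one]

end Cfsg.Agent.Lie.R1C
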