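import Cfsg.Agent.Lib.Lie.SplitRankOne.Bruhat

/-!
The linear group inside `G` is semiregular off the orbit of the base point.
-/

set_option autoImplicit false
set_option linter.unusedSectionVars false
set_option linter.unusedSimpArgs false
set_option linter.style.haveILetI false

namespace Cfsg.Agent.Lie.R1C

open Cfsg MulAction Matrix Polynomial
open Cfsg.Agent.Lie.R1 (D tt t_inv tDt)
open scoped MatrixGroups

section Mat

variable {L : Type} [Field L] [CharP L 2]

theorem sq_eq (A : SL(2, L)) : A.1 * A.1 = (A.1 0 0 + A.1 1 1) • A.1 + 1 := by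
  have hd := det_eq A
  ext i j
  fin_cases i <;> fin_cases j <;> simp [Matrix.mul_apply, Fin.sum_univ_two] <;>
    first
      | linear_combination hd - (CharTwo.two_eq_zero : (2 : L) = 0) * A.1 0 0 * A.1 1 1
      | linear_combination (0 : L) * hd

/-- A matrix of order dividing `q - 1` has an eigenvalue in the field. -/
theorem exists_eigen [Fintype L] (A : SL(2, L)) (h : A ^ Fintype.card L = A) :
    ∃ r : L, (A.1 0 0 + r) * (A.1 1 1 + r) + A.1 0 1 * A.1 1 0 = 0 := by
  have hq := Fintype.one_lt_card (α := L)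
  have hmo : (X ^ Fintype.card L - X : L[X]).Monic := monic_X_pow_sub (by rw [degree_X]; exact_mod_cast hq)
  have hroots := FiniteField.roots_X_pow_card_sub_X L
  have hprod : (∏ r : L, (X - C r)) = (X ^ Fintype.card L - X : L[X]) := by
    rw [Finset.prod_eq_multiset_prod, ← hroots,
      Polynomial.prod_multiset_X_sub_C_of_monic_of_roots_card_eq hmo
        (by rw [hroots, FiniteField.X_pow_card_sub_X_natDegree_eq L hq]; rfl)]
  have h0 : (∏ r : L, (A.1 - algebraMap L (Matrix (Fin 2) (Fin 2) L) r).det) = 0 := by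
    have h1 : Matrix.det (aeval A.1 (∏ r : L, (X - C r))) = 0 := by
      rw [hprod, map_sub, map_pow, aeval_X, ← Matrix.SpecialLinearGroup.coe_pow, h, sub_self, det_zero]
    let φ : L[X] →* L := Matrix.detMonoidHom.comp (aeval A.1).toRingHom.toMonoidHom
    have h2 : φ (∏ r : L, (X - C r)) = 0 := h1
    rw [map_prod] at h2
    refine Eq.trans (Finset.prod_congr rfl fun r _ => ?_) h2
    show _ = Matrix.det (aeval A.1 (X - C r))
    simp
  obtain ⟨r, -, hr⟩ := Finset.prod_eq_zero_iff.1 h0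
  refine ⟨r, ?_⟩
  rw [Matrix.det_fin_two] at hr
  simp [Matrix.algebraMap_matrix_apply, CharTwo.sub_eq_add] at hr
  exact hr

/-- A matrix with an eigenvalue is conjugate to an upper triangular one. -/
theorem exists_triangular (A : SL(2, L)) {r : L}
    (hr : (A.1 0 0 + r) * (A.1 1 1 + r) + A.1 0 1 * A.1 1 0 = 0) :
    ∃ C : SL(2, L), (C * A * C⁻¹).1 1 0 = 0 := by
  by_cases hc : A.1 1 0 = 0
  · exact ⟨1, by simpa using hc⟩
  set x := (r + A.1 1 1) / A.1 1 0 with hx
  refine ⟨tmat * zmat x, ?_⟩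
  rw [_root_.mul_inv_rev, show (zmat x : SL(2, L))⁻¹ = zmat x from inv_eq_of_mul_eq_one_left (sl_ext
      (by simp [Matrix.SpecialLinearGroup.coe_mul, zmat_val]) (by simp [Matrix.SpecialLinearGroup.coe_mul, zmat_val, CharTwo.add_self_eq_zero])
      (by simp [Matrix.SpecialLinearGroup.coe_mul, zmat_val]) (by simp [Matrix.SpecialLinearGroup.coe_mul, zmat_val])),
    show (tmat : SL(2, L))⁻¹ = tmat from inv_eq_of_mul_eq_one_left (sl_ext
      (by simp [Matrix.SpecialLinearGroup.coe_mul, tmat_val]) (by simp [Matrix.SpecialLinearGroup.coe_mul, tmat_val])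
      (by simp [Matrix.SpecialLinearGroup.coe_mul, tmat_val]) (by simp [Matrix.SpecialLinearGroup.coe_mul, tmat_val]))]
  simp only [Matrix.SpecialLinearGroup.coe_mul, zmat_val, tmat_val]
  simp [Matrix.mul_apply, Fin.sum_univ_two, Matrix.vecMul, dotProduct]
  rw [hx]
  field_simp
  linear_combination hr + (CharTwo.two_eq_zero : (2 : L) = 0) * (r * A.1 1 1 + A.1 1 1 ^ 2)

/-- A matrix without eigenvalue is the product of two involutions. -/
theorem exists_two_inv (A : SL(2, L))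
    (hr : ∀ r : L, (A.1 0 0 + r) * (A.1 1 1 + r) + A.1 0 1 * A.1 1 0 ≠ 0) :
    ∃ U : SL(2, L), U ≠ 1 ∧ U * U = 1 ∧ (U * A) * (U * A) = 1 ∧ U * A ≠ 1 ∧ A * A ≠ 1 := by
  have hd := det_eq A
  have h2 : (2 : L) = 0 := CharTwo.two_eq_zero
  have hb : A.1 0 1 ≠ 0 := fun h => hr (A.1 0 0) (by rw [h, CharTwo.add_self_eq_zero]; ring)
  have hτ : A.1 0 0 + A.1 1 1 ≠ 0 := fun h => hr 1 (by linear_combination hd + h + h2)
  set s := (A.1 0 0 + A.1 1 1) / A.1 0 1 with hs
  have hsb : s * A.1 0 1 = A.1 0 0 + A.1 1 1 := by rw [hs, div_mul_cancel₀ _ hb]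
  let U : SL(2, L) := ⟨!![1, 0; s, 1], by simp [Matrix.det_fin_two]⟩
  have hU : U.1 = !![1, 0; s, 1] := rfl
  have hU1 : U ≠ 1 := fun h => by
    have := congrArg (fun B : SL(2, L) => B.1 1 0) h
    simp [hU, hs, hb, hτ] at this
  have hUU : U * U = 1 := by
    apply sl_ext <;> simp [Matrix.SpecialLinearGroup.coe_mul, hU, CharTwo.add_self_eq_zero]
  have htr : (U * A).1 0 0 + (U * A).1 1 1 = 0 := by
    simp [Matrix.SpecialLinearGroup.coe_mul, hU, Matrix.mul_apply, Fin.sum_univ_two]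
    linear_combination hsb + h2 * (A.1 0 0 + A.1 1 1)
  refine ⟨U, hU1, hUU, Subtype.ext ?_, fun h => ?_, fun h => ?_⟩
  · rw [Matrix.SpecialLinearGroup.coe_mul (U * A) (U * A), sq_eq, htr, zero_smul, zero_add]
    rfl
  · have : A = U := by
      rw [← one_mul A, ← hUU, mul_assoc, h, mul_one]
    exact hτ (by simp [this, hU, CharTwo.add_self_eq_zero])
  · have h1 := sq_eq A
    rw [← Matrix.SpecialLinearGroup.coe_mul, h, Matrix.SpecialLinearGroup.coe_one] at h1
    have h3 := congrArg (fun B : Matrix (Fin 2) (Fin 2) L => B 0 1) h1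
    simp [hb, hτ] at h3

end Mat

variable {G Ω : Type*} [Group G] [MulAction G Ω] [Finite G] {a : Ω} {t : G} {Q : Subgroup G} {L : Type} [Field L] [CharP L 2]
  {zp kp : L → G} (hM : MCtx G a t Q L zp kp)

include hM

namespace MCtx

/-- The orbit of the base point. -/
def inB (_ : MCtx G a t Q L zp kp) (b : Ω) : Prop := b = a ∨ ∃ x, b = zp x • (t • a)

theorem inB_mg (A : SL(2, L)) : hM.inB (hM.mg A • a) := by
  by_cases hc : A.1 1 0 = 0
  · exact Or.inl ((hM.mg_fix_iff A).2 hc)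
  · refine Or.inr ⟨A.1 0 0 / A.1 1 0, ?_⟩
    have hk := hM.coord.kp_mem hM.ctx (inv_ne_zero hc)
    rw [show A = zmat (A.1 0 0 / A.1 1 0) * (kmat (A.1 1 0)⁻¹ * (tmat * zmat (A.1 1 1 / A.1 1 0))) from bruhat_big hc,
      map_mul, map_mul, map_mul, hM.mg_z, hM.mg_k (inv_ne_zero hc), hM.mg_t, hM.mg_z]
    rw [mul_smul, mul_smul, mul_smul, R1.fix_a hM.ctx.hS (hM.ctx.zg_le_Q (hM.coord.zp_mem hM.ctx _)),
      show kp (A.1 1 0)⁻¹ • (t • a) = t • a from (Subgroup.mem_inf.1 (hM.ctx.kg_le hk)).2]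
    rw [← bruhat_big hc]

theorem inB_iff {b : Ω} : hM.inB b ↔ ∃ A : SL(2, L), hM.mg A • a = b := by
  refine ⟨?_, fun ⟨A, h⟩ => h ▸ hM.inB_mg A⟩
  rintro (rfl | ⟨x, rfl⟩)
  · exact ⟨1, by rw [map_one, one_smul]⟩
  · exact ⟨zmat x * tmat, by rw [map_mul, hM.mg_z, hM.mg_t, mul_smul]⟩

theorem inB_smul (A : SL(2, L)) {b : Ω} : hM.inB (hM.mg A • b) ↔ hM.inB b := by
  rw [hM.inB_iff, hM.inB_iff]
  constructor
  · rintro ⟨C, h⟩; exact ⟨A⁻¹ * C, by rw [map_mul, mul_smul, h, map_inv, inv_smul_smul]⟩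
  · rintro ⟨C, rfl⟩; exact ⟨A * C, by rw [map_mul, mul_smul]⟩

/-- An element of the torus fixes only the two base points. -/
theorem fix_kg {k : G} (hk : k ∈ kg G a t) (hk1 : k ≠ 1) {b : Ω} (h : k • b = b) : b = a ∨ b = t • a := by
  have hc := hM.ctx
  refine (em (b = a)).imp id fun hb => ?_
  obtain ⟨q, hq, rfl⟩ := R1.exists_q hc.hS hb
  have hka := hc.kg_fix hk
  have hkta : k • (t • a) = t • a := (Subgroup.mem_inf.1 (hc.kg_le hk)).2
  have e : (k * q * k⁻¹) • (t • a) = q • (t • a) := by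
    rw [mul_smul, inv_smul_eq_iff.2 hkta.symm, mul_smul, h]
  have := R1.q_unique hc.hS (R1.conj_Q hc.hS hka hq) hq e
  rw [hc.kg_fpf hk hk1 hq (by rwa [mul_inv_eq_iff_eq_mul] at this), one_smul]

theorem semireg_tri {A : SL(2, L)} (hA : A ≠ 1) (h10 : A.1 1 0 = 0) {b : Ω} (h : hM.mg A • b = b) : hM.inB b := by
  have hc := hM.ctx
  obtain ⟨ha, hA'⟩ := bruhat_small h10
  set x := A.1 0 0 * A.1 0 1 with hx
  set α := A.1 0 0 with hα
  rw [hA', map_mul, hM.mg_z, hM.mg_k ha] at h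
  by_cases hα1 : α = 1
  · rw [hα1, hM.coord.kp_one hc, mul_one] at h
    refine Or.inl (R1.inv_fix hc.hS (hc.zg_le_Q (hM.coord.zp_mem hc x)) (fun e => hA ?_) h)
    rw [hA', hα1]
    rw [hM.coord.zp_inj (e.trans (hM.coord.zp_zero hc).symm)]
    apply sl_ext <;> simp [Matrix.SpecialLinearGroup.coe_mul, zmat_val, kmat_val (one_ne_zero (α := L))]
  · have hk1 : kp α ≠ 1 := fun e => hα1 (hM.coord.kp_inj _ _ ha one_ne_zero (e.trans (hM.coord.kp_one hc).symm))
    have hden : 1 + α ^ 2 ≠ 0 := fun e => hα1 (sq_inj (by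
      rw [one_pow]; exact (CharTwo.add_eq_zero.1 e).symm))
    set y := x / (1 + α ^ 2) with hy
    have e1 : zp x * kp α = zp y * kp α * zp y := by
      rw [mul_assoc (zp y), hM.kz ha, ← mul_assoc, hM.zz]
      congr 2
      rw [hy]; field_simp
    rw [e1, mul_smul, mul_smul] at h
    have hzy : zp y * zp y = 1 := hc.zg_sq (hM.coord.zp_mem hc y)
    have h' : kp α • (zp y • b) = zp y • b := by
      have := congrArg (fun c => zp y • c) h
      simpa [smul_smul, ← mul_assoc, hzy] using this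
    rcases hM.fix_kg (hM.coord.kp_mem hc ha) hk1 h' with e | e
    · left
      rw [← one_smul G b, ← hzy, mul_smul, e, R1.fix_a hc.hS (hc.zg_le_Q (hM.coord.zp_mem hc y))]
    · exact Or.inr ⟨y, by rw [← one_smul G b, ← hzy, mul_smul, e]⟩

theorem semireg_eigen {A : SL(2, L)} (hA : A ≠ 1) {r : L}
    (hr : (A.1 0 0 + r) * (A.1 1 1 + r) + A.1 0 1 * A.1 1 0 = 0) {b : Ω} (h : hM.mg A • b = b) : hM.inB b := by
  obtain ⟨C, hC⟩ := exists_triangular A hr
  have := hM.semireg_tri (A := C * A * C⁻¹) (fun e => hA (conj_eq_one_iff.1 e)) hC (b := hM.mg C • b) (by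
    rw [map_mul, map_mul, map_inv, mul_smul, mul_smul, inv_smul_smul, h])
  exact (hM.inB_smul C).1 this

/-- The linear group acts semiregularly off the orbit of the base point. -/
theorem semireg [Fintype L] {A : SL(2, L)} (hA : A ≠ 1) {b : Ω} (h : hM.mg A • b = b) : hM.inB b := by
  classical
  by_contra hb
  have hc := hM.ctx
  have hno : ∀ r : L, (A.1 0 0 + r) * (A.1 1 1 + r) + A.1 0 1 * A.1 1 0 ≠ 0 := fun r hr =>
    hb (hM.semireg_eigen hA hr h)
  obtain ⟨U, hU1, hU2, hV2, hV1, hA2⟩ := exists_two_inv A hno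
  set u := hM.mg U with hu
  set m := hM.mg A with hm
  have hu2 : u * u = 1 := by rw [hu, ← map_mul, hU2, map_one]
  have hu1 : u ≠ 1 := fun e => hU1 (hM.mg_injective (e.trans (map_one _).symm))
  have humu : u * m * u = m⁻¹ := by
    rw [hu, hm, ← map_mul, ← map_mul, ← map_inv]
    congr 1
    refine (inv_eq_of_mul_eq_one_left ?_).symm
    rw [mul_assoc (U * A) U A]
    exact hV2
  have hub : u • b ≠ b := fun e => by
    have hUr : (U.1 0 0 + 1) * (U.1 1 1 + 1) + U.1 0 1 * U.1 1 0 = 0 := by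
      have hd := det_eq U
      have h1 := sq_eq U
      rw [← Matrix.SpecialLinearGroup.coe_mul, hU2, Matrix.SpecialLinearGroup.coe_one] at h1
      have h01 := congrArg (fun B : Matrix (Fin 2) (Fin 2) L => B 0 0) h1
      have h02 := congrArg (fun B : Matrix (Fin 2) (Fin 2) L => B 0 1) h1
      have h03 := congrArg (fun B : Matrix (Fin 2) (Fin 2) L => B 1 0) h1
      simp at h01 h02 h03
      by_cases hτ : U.1 0 0 + U.1 1 1 = 0
      · linear_combination hd + hτ + (CharTwo.two_eq_zero : (2 : L) = 0)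
      · exfalso
        rcases h01 with h01 | h01
        · exact hτ h01
        · have := h02.resolve_left hτ
          rw [h01, this] at hd
          simp at hd
    exact hb (hM.semireg_eigen hU1 hUr e)
  have hmub : m • (u • b) = u • b := by
    have : m * u = u * m⁻¹ := by rw [← humu]; simp only [← mul_assoc, hu2, one_mul]
    rw [smul_smul, this, mul_smul, inv_smul_eq_iff.2 h.symm]
  -- move the pair to the base pair
  obtain ⟨g, hg1, hg2⟩ := R1.two_trans hc.hS hub.symm (R1.ta_ne hc.hS).symm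
  have hτ : (g * u * g⁻¹) • a = t • a := by
    rw [mul_smul, mul_smul, inv_smul_eq_iff.2 hg1.symm, hg2]
  have hτ2 : g * u * g⁻¹ * (g * u * g⁻¹) = 1 := by
    rw [show g * u * g⁻¹ * (g * u * g⁻¹) = g * (u * u) * g⁻¹ by group, hu2]; group
  obtain ⟨l, hl, -, hle⟩ := R1.swap_conj hc.hS hτ hτ2
  set e := l * g with hedef
  have heu : e * u * e⁻¹ = t := by
    rw [hedef, show l * g * u * (l * g)⁻¹ = l * (g * u * g⁻¹) * l⁻¹ by group, ← hle]; group
  have heb : e • b = a := by rw [hedef, mul_smul, hg1]; exact (Subgroup.mem_inf.1 hl).1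
  have heub : e • (u • b) = t • a := by rw [hedef, mul_smul, hg2]; exact (Subgroup.mem_inf.1 hl).2
  have hk : e * m * e⁻¹ ∈ kg G a t := by
    refine hc.mem_kg.2 ⟨Subgroup.mem_inf.2 ⟨?_, ?_⟩, ?_⟩
    · show (e * m * e⁻¹) • a = a
      rw [mul_smul, mul_smul, inv_smul_eq_iff.2 heb.symm, h, heb]
    · show (e * m * e⁻¹) • (t • a) = t • a
      rw [mul_smul, mul_smul, inv_smul_eq_iff.2 heub.symm, hmub, heub]
    · rw [← heu, show e * u * e⁻¹ * (e * m * e⁻¹) * (e * u * e⁻¹) = e * (u * m * u) * e⁻¹ by group, humu]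
      group
  have hpow : (e * m * e⁻¹) ^ Nat.card (kg G a t) = 1 :=
    congrArg Subtype.val (pow_card_eq_one' (x := (⟨_, hk⟩ : kg G a t)))
  rw [conj_pow] at hpow
  have hmK : m ^ Nat.card (kg G a t) = 1 := conj_eq_one_iff.1 hpow
  have hcard : Fintype.card L = Nat.card (kg G a t) + 1 := by
    rw [hc.card_kg, ← Nat.card_eq_fintype_card]
    exact Nat.card_congr ((Equiv.ofInjective zp hM.coord.zp_inj).trans (Equiv.setCongr (Set.ext fun z =>
      (hM.coord.mem_zp z).symm)))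
  obtain ⟨r, hr⟩ := exists_eigen A (hM.mg_injective (by rw [map_pow, hcard, pow_succ, hmK, one_mul]))
  exact hno r hr

end MCtx

end Cfsg.Agent.Lie.R1C
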