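import Cfsg.Agent.Lib.Lie.RankOneTorus
import Cfsg.Agent.Lib.Lie.SplitRankOne.HFun

/-!
The subgroups attached to a rank-one set-up of two-rank at least two: the involutions `Z` of the point stabiliser,
the torus `K`, and the centralisers `V` and `W`.
-/

set_option autoImplicit false
set_option linter.unusedSectionVars false
set_option linter.unusedSimpArgs false
set_option linter.style.haveILetI false

namespace Cfsg.Agent.Lie.R1C

open Cfsg MulAction
open Cfsg.Agent.Lie.R1 (D tt t_inv tDt)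

variable {G Ω : Type*} [Group G] [MulAction G Ω]

/-- The rank-one set-up with two commuting involutions. -/
structure Ctx (G Ω : Type*) [Group G] [MulAction G Ω] (a : Ω) (t : G) (Q : Subgroup G) : Prop where
  hS : IsRankOneSetup G Ω a t Q
  h2 : ∃ x y : G, x ≠ 1 ∧ y ≠ 1 ∧ x ≠ y ∧ x * x = 1 ∧ y * y = 1 ∧ x * y = y * x

/-- The subgroup of the involutions of the point stabiliser. -/
def zg (G : Type*) {Ω : Type*} [Group G] [MulAction G Ω] (a : Ω) : Subgroup G :=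
  Subgroup.closure (involutionsIn (stabilizer G a : Set G))

/-- The torus. -/
def kg (G : Type*) {Ω : Type*} [Group G] [MulAction G Ω] (a : Ω) (t : G) : Subgroup G :=
  Subgroup.closure (invertedBy (D G a t) t)

/-- The centraliser of `t` in `D`. -/
def vg (G : Type*) {Ω : Type*} [Group G] [MulAction G Ω] (a : Ω) (t : G) : Subgroup G :=
  D G a t ⊓ Subgroup.centralizer {t}

/-- The part of `D` centralising all involutions of the point stabiliser. -/
def wg (G : Type*) {Ω : Type*} [Group G] [MulAction G Ω] (a : Ω) (t : G) : Subgroup G :=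
  D G a t ⊓ Subgroup.centralizer (involutionsIn (stabilizer G a : Set G))

variable [Finite G] {a : Ω} {t : G} {Q : Subgroup G} (hc : Ctx G Ω a t Q)

namespace Ctx

include hc

theorem mem_zg {x : G} : x ∈ zg G a ↔ x = 1 ∨ x ∈ involutionsIn (stabilizer G a : Set G) := by
  refine ⟨fun hx => ?_, fun h => ?_⟩
  · induction hx using Subgroup.closure_induction with
    | mem y hy => exact Or.inr hy
    | one => exact Or.inl rfl
    | mul y z _ _ hy hz =>
      rcases hy with rfl | hy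
      · simpa using hz
      rcases hz with rfl | hz
      · exact Or.inr (by rwa [mul_one])
      exact R1.closed hc.hS hc.h2 hy hz
    | inv y _ hy =>
      rcases hy with rfl | hy
      · exact Or.inl inv_one
      · rw [inv_eq_of_mul_eq_one_left hy.2.2]; exact Or.inr hy
  · rcases h with rfl | h
    exacts [one_mem _, Subgroup.subset_closure h]

theorem zg_le_Q : zg G a ≤ Q := fun x hx => by
  rcases hc.mem_zg.1 hx with rfl | h
  exacts [one_mem _, (R1.central hc.hS hc.h2 h).1]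

theorem zg_central {z : G} (hz : z ∈ zg G a) {x : G} (hx : x ∈ Q) : z * x = x * z := by
  rcases hc.mem_zg.1 hz with rfl | h
  · rw [one_mul, mul_one]
  · exact (R1.central hc.hS hc.h2 h).2 x hx

theorem zg_sq {z : G} (hz : z ∈ zg G a) : z * z = 1 := by
  rcases hc.mem_zg.1 hz with rfl | h
  exacts [one_mul 1, h.2.2]

theorem mem_zg_of_sq {x : G} (hx : x • a = a) (h : x * x = 1) : x ∈ zg G a :=
  hc.mem_zg.2 ((em (x = 1)).imp id fun h1 => ⟨hx, h1, h⟩)

theorem conj_zg {d : G} (hd : d • a = a) {z : G} (hz : z ∈ zg G a) : d * z * d⁻¹ ∈ zg G a :=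
  hc.mem_zg_of_sq (hc.hS.le (R1.conj_Q hc.hS hd (hc.zg_le_Q hz))) (by
    rw [show d * z * d⁻¹ * (d * z * d⁻¹) = d * (z * z) * d⁻¹ by group, hc.zg_sq hz]; group)

theorem card_zg_inv : Nat.card (zg G a) = Nat.card (involutionsIn (stabilizer G a : Set G)) + 1 := by
  classical
  haveI := Fintype.ofFinite G
  have : (zg G a : Set G) = insert 1 (involutionsIn (stabilizer G a : Set G)) :=
    Set.ext fun x => hc.mem_zg
  rw [← SetLike.coe_sort_coe, this, Nat.card_coe_set_eq, Set.ncard_insert_of_notMem (fun h => h.2.1 rfl) (Set.toFinite _),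
    Nat.card_coe_set_eq]

/-- The order of `Z` is a power of two, at least four. -/
theorem exists_f : ∃ f : ℕ, 2 ≤ f ∧ Nat.card (zg G a) = 2 ^ f := by
  haveI : Fact (Nat.Prime 2) := ⟨Nat.prime_two⟩
  have hP : IsPGroup 2 (zg G a) := fun x => ⟨1, Subtype.ext (by
    rw [SubgroupClass.coe_pow, pow_one, pow_two]; exact hc.zg_sq x.2)⟩
  obtain ⟨f, hf⟩ := hP.exists_card_eq
  obtain ⟨x, y, hx, hy, hxy⟩ := R1.two_inv hc.hS hc.h2
  refine ⟨f, ?_, hf⟩
  have h3 : 2 < Nat.card (zg G a) := by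
    have h : ({1, x, y} : Set G) ⊆ (zg G a : Set G) := by
      rintro z (rfl | rfl | rfl)
      exacts [one_mem _, hc.mem_zg.2 (Or.inr hx), hc.mem_zg.2 (Or.inr hy)]
    have := Set.ncard_le_ncard h (Set.toFinite _)
    rw [Set.ncard_eq_three.2 ⟨1, x, y, hx.2.1.symm, hy.2.1.symm, hxy, rfl⟩, ← Nat.card_coe_set_eq] at this
    exact this
  by_contra hlt
  have : 2 ^ f ≤ 2 ^ 1 := Nat.pow_le_pow_right (show 0 < 2 by norm_num) (by omega)
  omega

theorem exists_gen : ∃ z, (kg G a t = Subgroup.zpowers z) ∧ (kg G a t : Set G) = invertedBy (D G a t) t := by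
  obtain ⟨z, -, hz, -⟩ := R1.torus hc.hS hc.h2
  have h : kg G a t = Subgroup.zpowers z := by rw [kg, hz, Subgroup.closure_eq]
  exact ⟨z, h, by rw [h, hz]⟩

theorem kg_eq : (kg G a t : Set G) = invertedBy (D G a t) t := hc.exists_gen.choose_spec.2

theorem kg_cyclic : IsCyclic (kg G a t) := by
  rw [hc.exists_gen.choose_spec.1]; infer_instance

theorem kg_comm {k k' : G} (hk : k ∈ kg G a t) (hk' : k' ∈ kg G a t) : k * k' = k' * k := by
  obtain ⟨z, hz, -⟩ := hc.exists_gen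
  rw [hz] at hk hk'
  obtain ⟨i, rfl⟩ := hk
  obtain ⟨j, rfl⟩ := hk'
  exact (Commute.refl z).zpow_zpow i j

theorem mem_kg {k : G} : k ∈ kg G a t ↔ k ∈ D G a t ∧ t * k * t = k⁻¹ := by
  rw [← SetLike.mem_coe, hc.kg_eq]
  show k ∈ D G a t ∧ t * k * t⁻¹ = k⁻¹ ↔ _
  rw [t_inv hc.hS]

theorem kg_le : kg G a t ≤ D G a t := fun _ hk => (hc.mem_kg.1 hk).1

theorem kg_inv {k : G} (hk : k ∈ kg G a t) : t * k * t = k⁻¹ := (hc.mem_kg.1 hk).2

theorem kg_fix {k : G} (hk : k ∈ kg G a t) : k • a = a := (Subgroup.mem_inf.1 (hc.kg_le hk)).1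

theorem card_kg : Nat.card (kg G a t) + 1 = Nat.card (zg G a) := by
  rw [hc.card_zg_inv, ← R1.card_K hc.hS, ← SetLike.coe_sort_coe, hc.kg_eq]

theorem kg_fpf {k : G} (hk : k ∈ kg G a t) (hk1 : k ≠ 1) {x : G} (hx : x ∈ Q) (h : k * x = x * k) : x = 1 := by
  have hf := R1.fpf hc.hS (x := k) (by rw [← hc.kg_eq]; exact hk) hk1
  have : x ∈ Q ⊓ Subgroup.centralizer {k} :=
    Subgroup.mem_inf.2 ⟨hx, Subgroup.mem_centralizer_singleton_iff.2 h.symm⟩
  rwa [hf, Subgroup.mem_bot] at this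

theorem kg_trans {z z' : G} (hz : z ∈ zg G a) (hz1 : z ≠ 1) (hz' : z' ∈ zg G a) (hz'1 : z' ≠ 1) :
    ∃ k ∈ kg G a t, k * z * k⁻¹ = z' := by
  have h := (hc.mem_zg.1 hz).resolve_left hz1
  have h' := (hc.mem_zg.1 hz').resolve_left hz'1
  obtain ⟨k, hk, hke⟩ := R1.K_trans hc.hS h.1 h.2.1 h.2.2 h'.1 h'.2.1 h'.2.2
  have hkK : k ∈ kg G a t := by rw [← SetLike.mem_coe, hc.kg_eq]; exact hk
  exact ⟨k⁻¹, inv_mem hkK, by rw [inv_inv]; exact hke⟩

theorem conj_kg {d : G} (hd : d ∈ D G a t) {k : G} (hk : k ∈ kg G a t) : d * k * d⁻¹ ∈ kg G a t := by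
  obtain ⟨w, hw, hwi, hy⟩ := exists_decomp hc.hS.mul_self (fun x hx => tDt hc.hS hx) hc.hS.odd_card hd
  have hwk := hc.kg_comm (hc.mem_kg.2 ⟨hw, hwi⟩) hk
  have key : d * k * d⁻¹ = (d * w⁻¹) * k * (d * w⁻¹)⁻¹ := by
    rw [show (d * w⁻¹) * k * (d * w⁻¹)⁻¹ = d * (w⁻¹ * (k * w)) * d⁻¹ by group, ← hwk, inv_mul_cancel_left]
  rw [key]
  refine hc.mem_kg.2 ⟨mul_mem (mul_mem (mul_mem hd (inv_mem hw)) (hc.kg_le hk)) (inv_mem (mul_mem hd (inv_mem hw))), ?_⟩
  have hk' := hc.kg_inv hk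
  generalize d * w⁻¹ = y at hy ⊢
  calc t * (y * k * y⁻¹) * t = (t * y * t) * (t * k * t) * (t * y * t)⁻¹ := by
        simp only [_root_.mul_inv_rev, t_inv hc.hS, mul_assoc, tt hc.hS]
    _ = (y * k * y⁻¹)⁻¹ := by rw [hy, hk']; group

omit [Finite G] in
theorem mem_vg {v : G} : v ∈ vg G a t ↔ v ∈ D G a t ∧ t * v * t = v := by
  rw [vg, Subgroup.mem_inf, Subgroup.mem_centralizer_singleton_iff]
  refine and_congr_right fun _ => ⟨fun h => ?_, fun h => ?_⟩
  · rw [← h, mul_assoc, hc.hS.mul_self, mul_one]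
  · conv_lhs => rw [← h]
    rw [mul_assoc, hc.hS.mul_self, mul_one]

omit [Finite G] in
theorem vg_le : vg G a t ≤ D G a t := inf_le_left

omit [Finite G] in
theorem vg_fix {v : G} (hv : v ∈ vg G a t) : v • a = a := (Subgroup.mem_inf.1 (hc.vg_le hv)).1

theorem wg_le_vg : wg G a t ≤ vg G a t := fun w hw => by
  rw [wg, ← R1.cent_K hc.hS] at hw
  exact (Subgroup.mem_inf.1 hw).1

theorem wg_comm_kg {w : G} (hw : w ∈ wg G a t) {k : G} (hk : k ∈ kg G a t) : w * k = k * w := by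
  rw [wg, ← R1.cent_K hc.hS] at hw
  exact (Subgroup.mem_centralizer_iff.1 (Subgroup.mem_inf.1 hw).2 k (by rw [← hc.kg_eq]; exact hk)).symm

theorem wg_comm_zg {w : G} (hw : w ∈ wg G a t) {z : G} (hz : z ∈ zg G a) : w * z = z * w := by
  rcases hc.mem_zg.1 hz with rfl | h
  · rw [mul_one, one_mul]
  · exact (Subgroup.mem_centralizer_iff.1 (Subgroup.mem_inf.1 hw).2 z h).symm

theorem mem_wg_iff_kg {v : G} : v ∈ wg G a t ↔ v ∈ vg G a t ∧ ∀ k ∈ kg G a t, v * k = k * v := by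
  rw [wg, ← R1.cent_K hc.hS, vg]
  refine ⟨fun h => ⟨(Subgroup.mem_inf.1 h).1, fun k hk => hc.wg_comm_kg (by rw [wg, ← R1.cent_K hc.hS]; exact h) hk⟩,
    fun h => Subgroup.mem_inf.2 ⟨h.1, Subgroup.mem_centralizer_iff.2 fun k hk => (h.2 k ?_).symm⟩⟩
  rw [← SetLike.mem_coe, hc.kg_eq]; exact hk

theorem decomp {d : G} (hd : d ∈ D G a t) : ∃ v ∈ vg G a t, ∃ k ∈ kg G a t, d = v * k := by
  obtain ⟨w, hw, hwi, hy⟩ := exists_decomp hc.hS.mul_self (fun x hx => tDt hc.hS hx) hc.hS.odd_card hd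
  exact ⟨d * w⁻¹, hc.mem_vg.2 ⟨mul_mem hd (inv_mem hw), hy⟩, w, hc.mem_kg.2 ⟨hw, hwi⟩, by group⟩

theorem decomp_unique {v v' k k' : G} (hv : v ∈ vg G a t) (hv' : v' ∈ vg G a t) (hk : k ∈ kg G a t)
    (hk' : k' ∈ kg G a t) (h : v * k = v' * k') : v = v' ∧ k = k' :=
  Lie.decomp_unique hc.hS.mul_self hc.hS.odd_card (hc.kg_le hk) (hc.kg_le hk') (hc.mem_vg.1 hv).2
    (hc.mem_vg.1 hv').2 (hc.kg_inv hk) (hc.kg_inv hk') h

theorem card_D : Nat.card (D G a t) = Nat.card (vg G a t) * Nat.card (kg G a t) := by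
  rw [← Nat.card_prod]
  refine (Nat.card_eq_of_bijective (fun p : vg G a t × kg G a t =>
    (⟨(p.1 : G) * p.2, mul_mem (hc.vg_le p.1.2) (hc.kg_le p.2.2)⟩ : D G a t)) ⟨?_, ?_⟩).symm
  · rintro ⟨v, k⟩ ⟨v', k'⟩ h
    obtain ⟨h1, h2⟩ := hc.decomp_unique v.2 v'.2 k.2 k'.2 (congrArg Subtype.val h)
    exact Prod.ext (Subtype.ext h1) (Subtype.ext h2)
  · rintro ⟨d, hd⟩
    obtain ⟨v, hv, k, hk, rfl⟩ := hc.decomp hd
    exact ⟨(⟨v, hv⟩, ⟨k, hk⟩), rfl⟩

/-- The centraliser of `t` modulo `W` is cyclic. -/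
theorem vg_mod_wg : ∃ v ∈ vg G a t, ∀ u ∈ vg G a t, ∃ i : ℤ, v ^ (-i) * u ∈ wg G a t := by
  obtain ⟨z, -, -, v, hv, hvu⟩ := R1.torus hc.hS hc.h2
  refine ⟨v, hv, fun u hu => ?_⟩
  obtain ⟨i, hi⟩ := hvu u hu
  exact ⟨i, by rw [wg, ← R1.cent_K hc.hS]; exact hi⟩

end Ctx

end Cfsg.Agent.Lie.R1C
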