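import Cfsg.Agent.Lib.Lie.SplitRankOne.CubeMain
import Cfsg.Agent.Lib.Lie.UnitarySylow
import Cfsg.Agent.Lib.Small.UMinIndex.ThreeMain
import Cfsg.Agent.Lib.Small.Hermitian

/-!
A simple rank-one group with Hermitian coordinates is a three-dimensional projective unitary group.
-/

set_option autoImplicit false
set_option linter.unusedSectionVars false
set_option linter.unusedSimpArgs false
set_option linter.style.haveILetI false

namespace Cfsg.Agent.Lie.R1C

open Cfsg MulAction Matrix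
open Cfsg.Agent.Classical (IsUSigma exists_usigma)
open Cfsg.Agent.Lie.R1 (D tt t_inv tDt)
open Cfsg.Agent.Lie.UnitarySylow (U M3 K3 P3 Q3)
open Cfsg.Agent.Local.FS.PSU3Simple (ext_val val_mul)

universe u v

variable {G : Type u} {Ω : Type v} [Group G] [MulAction G Ω] {a : Ω} {t : G} {Q : Subgroup G}

/-- In a simple group the regular subgroup and `t` generate. -/
theorem closure_Q_t [Finite G] [IsSimpleGroup G] (hS : IsRankOneSetup G Ω a t Q) :
    Subgroup.closure ((Q : Set G) ∪ {t}) = ⊤ := by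
  set N := Subgroup.closure ((Q : Set G) ∪ {t}) with hN
  have hQN : ∀ x ∈ Q, x ∈ N := fun x hx => Subgroup.subset_closure (Or.inl hx)
  have htN : t ∈ N := Subgroup.subset_closure (Or.inr rfl)
  have hle : Subgroup.normalClosure (Q : Set G) ≤ N := by
    rw [Subgroup.normalClosure, Subgroup.closure_le]
    intro y hy
    obtain ⟨x, hx, hxy⟩ := Group.mem_conjugatesOfSet_iff.1 hy
    obtain ⟨g, rfl⟩ := isConj_iff.1 hxy
    by_cases hg : g • a = a
    · exact hQN _ (R1.conj_Q hS hg hx)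
    obtain ⟨⟨b, f⟩, ⟨hb, hf, hgf⟩, -⟩ := R1.canonical hS g hg
    obtain ⟨q, hq, d, hd, rfl⟩ := R1.mem_sup hS hb
    simp only at hgf hf
    subst hgf
    have h1 : f * x * f⁻¹ ∈ Q := mul_mem (mul_mem hf hx) (inv_mem hf)
    have h2 := R1.conj_Q hS (Subgroup.mem_inf.1 (tDt hS hd)).1 h1
    have e : q * d * t * f * x * (q * d * t * f)⁻¹ =
        q * (t * ((t * d * t) * (f * x * f⁻¹) * (t * d * t)⁻¹) * t) * q⁻¹ := by
      simp only [_root_.mul_inv_rev, t_inv hS, mul_assoc, tt hS]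
    rw [SetLike.mem_coe, e]
    exact mul_mem (mul_mem (hQN q hq) (mul_mem (mul_mem htN (hQN _ h2)) htN)) (inv_mem (hQN q hq))
  rcases Subgroup.normalClosure_normal.eq_bot_or_eq_top (H := Subgroup.normalClosure (Q : Set G)) with h | h
  · exfalso
    obtain ⟨s, hs, hs1, -⟩ := R1.exists_inv hS
    exact hs1 (Subgroup.mem_bot.1 (h ▸ Subgroup.subset_normalClosure hs))
  · exact top_le_iff.1 (h ▸ hle)

variable [Finite G] (hc : Ctx G Ω a t Q) {F : Type} [Field F] [Fintype F] {n : ℕ} {c : Q → F × F}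
  (hH : HermQ hc.hS F n c)

include hH

/-- The homogeneous coordinates of a point. -/
noncomputable def pvec (_ : HermQ hc.hS F n c) (b : Ω) : Fin 3 → F :=
  haveI := Classical.dec (b = a)
  if hb : b = a then ![1, 0, 0]
  else ![(c ⟨(R1.exists_q hc.hS hb).choose, (R1.exists_q hc.hS hb).choose_spec.1⟩).2,
    (c ⟨(R1.exists_q hc.hS hb).choose, (R1.exists_q hc.hS hb).choose_spec.1⟩).1, 1]

theorem pvec_a : pvec hc hH a = ![1, 0, 0] := dif_pos rfl

theorem pvec_q (x : Q) : pvec hc hH ((x : G) • (t • a)) = ![(c x).2, (c x).1, 1] := by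
  have hb : (x : G) • (t • a) ≠ a := fun h => R1.ta_ne hc.hS (MulAction.injective (x : G)
    (h.trans (R1.fix_a hc.hS x.2).symm))
  rw [pvec, dif_neg hb]
  have e : (⟨(R1.exists_q hc.hS hb).choose, (R1.exists_q hc.hS hb).choose_spec.1⟩ : Q) = x :=
    Subtype.ext (R1.q_unique hc.hS (R1.exists_q hc.hS hb).choose_spec.1 x.2 (R1.exists_q hc.hS hb).choose_spec.2)
  rw [e]

theorem pvec_cases (b : Ω) : b = a ∨ ∃ x : Q, b = (x : G) • (t • a) := by
  refine (em (b = a)).imp id fun h => ?_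
  obtain ⟨q, hq, e⟩ := R1.exists_q hc.hS h
  exact ⟨⟨q, hq⟩, e.symm⟩

theorem herm_one : c 1 = (0, 0) := by
  have := hH.charTwo
  have h := hH.map_mul 1 1
  rw [one_mul] at h
  have h1 := congrArg Prod.fst h
  rw [CharTwo.add_self_eq_zero] at h1
  have h2 := congrArg Prod.snd h
  rw [CharTwo.add_self_eq_zero, h1] at h2
  exact Prod.ext h1 (by simpa using h2)

theorem pvec_sep {b b' : Ω} {μ : F} (h : pvec hc hH b = μ • pvec hc hH b') : b = b' := by
  rcases pvec_cases hc hH b with rfl | ⟨x, rfl⟩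
  · rcases pvec_cases hc hH b' with rfl | ⟨y, rfl⟩
    · rfl
    rw [pvec_a, pvec_q] at h
    have h0 := congrFun h 2
    have h1 := congrFun h 0
    simp at h0 h1
    simp [← h0] at h1
  · rcases pvec_cases hc hH b' with rfl | ⟨y, rfl⟩
    · rw [pvec_a, pvec_q] at h
      have h0 := congrFun h 2
      simp at h0
    rw [pvec_q, pvec_q] at h
    have h0 := congrFun h 2
    simp at h0
    rw [← h0, one_smul] at h
    have h1 := congrFun h 0
    have h2 := congrFun h 1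
    simp at h1 h2
    rw [hH.inj (Prod.ext h2 h1)]

variable {σ : F ≃+* F} (hσ : IsUSigma (2 ^ n) σ) {e0 : F} (he0 : e0 + σ e0 = 1)

include hσ he0

/-- A matrix in the coordinates of the hyperbolic basis gives an element of `SU`. -/
theorem exists_lift (M : Matrix (Fin 3) (Fin 3) F) (hd : M.det = 1) (hg : Mᵀ * K3 * M.map σ = K3) :
    ∃ A : ↥(Cfsg.SU 3 F (2 ^ n)), A.1.1 = P3 e0 * M * Q3 e0 := by
  haveI := hH.charTwo
  obtain ⟨hQP, hPQ, hP, hQ⟩ := UnitarySylow.basis_facts he0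
  refine Local.FS.PSU3Simple.exists_SU_of_gram hσ _ ?_ ?_
  · rw [Matrix.det_mul, Matrix.det_mul, hd, mul_one, ← Matrix.det_mul, hPQ, Matrix.det_one]
  · rw [Matrix.map_mul, Matrix.map_mul, Matrix.transpose_mul, Matrix.transpose_mul]
    calc (Q3 e0)ᵀ * (Mᵀ * (P3 e0)ᵀ) * ((P3 e0).map σ * M.map σ * (Q3 e0).map σ)
        = (Q3 e0)ᵀ * (Mᵀ * ((P3 e0)ᵀ * (P3 e0).map σ) * M.map σ) * (Q3 e0).map σ := by
          simp only [Matrix.mul_assoc]
      _ = 1 := by rw [hP, hg, hQ]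

/-- The point vectors in the standard basis. -/
noncomputable def wvec (e : F) (hH : HermQ hc.hS F n c) (b : Ω) : Fin 3 → F := P3 e *ᵥ pvec hc hH b

theorem wvec_sep {b b' : Ω} {μ : F} (h : wvec hc e0 hH b = μ • wvec hc e0 hH b') : b = b' := by
  haveI := hH.charTwo
  obtain ⟨hQP, -, -, -⟩ := UnitarySylow.basis_facts he0
  refine pvec_sep hc hH (μ := μ) ?_
  have := congrArg (fun v => Q3 e0 *ᵥ v) h
  simpa [wvec, Matrix.mulVec_smul, Matrix.mulVec_mulVec, hQP] using this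

/-- An element of `SU` inducing a group element on the points. -/
def Induces (e : F) (hH : HermQ hc.hS F n c) (A : ↥(Cfsg.SU 3 F (2 ^ n))) (g : G) : Prop :=
  ∀ b, ∃ μ : F, A.1.1 *ᵥ wvec hc e hH b = μ • wvec hc e hH (g • b)

theorem induces_unique [FaithfulSMul G Ω] {A : ↥(Cfsg.SU 3 F (2 ^ n))} {g g' : G} (h : Induces hc e0 hH A g)
    (h' : Induces hc e0 hH A g') : g = g' := by
  refine FaithfulSMul.eq_of_smul_eq_smul (α := Ω) fun b => ?_
  obtain ⟨μ, hμ⟩ := h b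
  obtain ⟨μ', hμ'⟩ := h' b
  by_cases h0 : μ = 0
  · exfalso
    rw [h0, zero_smul] at hμ
    have h1 := congrArg (fun v => (A⁻¹ : ↥(Cfsg.SU 3 F (2 ^ n))).1.1 *ᵥ v) hμ
    simp only [Matrix.mulVec_mulVec, ← val_mul, inv_mul_cancel, Matrix.mulVec_zero] at h1
    rw [show ((1 : ↥(Cfsg.SU 3 F (2 ^ n))).1.1) = (1 : Matrix (Fin 3) (Fin 3) F) from rfl,
      Matrix.one_mulVec] at h1
    refine R1.ta_ne hc.hS ?_
    have h2 : wvec hc e0 hH b = (0 : F) • wvec hc e0 hH (t • a) := by rw [h1, zero_smul]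
    have h3 : wvec hc e0 hH b = (0 : F) • wvec hc e0 hH a := by rw [h1, zero_smul]
    exact (wvec_sep hc hH hσ he0 h2).symm.trans (wvec_sep hc hH hσ he0 h3)
  · refine wvec_sep hc hH hσ he0 (μ := μ⁻¹ * μ') ?_
    rw [mul_smul, ← hμ', hμ, smul_smul, inv_mul_cancel₀ h0, one_smul]

theorem induces_mul {A A' : ↥(Cfsg.SU 3 F (2 ^ n))} {g g' : G} (h : Induces hc e0 hH A g)
    (h' : Induces hc e0 hH A' g') : Induces hc e0 hH (A * A') (g * g') := by
  intro b
  obtain ⟨μ', hμ'⟩ := h' b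
  obtain ⟨μ, hμ⟩ := h (g' • b)
  refine ⟨μ' * μ, ?_⟩
  rw [val_mul, ← Matrix.mulVec_mulVec, hμ', Matrix.mulVec_smul, hμ, smul_smul, mul_smul g g' b]

theorem induces_of_pvec (M : Matrix (Fin 3) (Fin 3) F) (hd : M.det = 1) (hg : Mᵀ * K3 * M.map σ = K3) (g : G)
    (h : ∀ b, ∃ μ : F, M *ᵥ pvec hc hH b = μ • pvec hc hH (g • b)) : ∃ A, Induces hc e0 hH A g := by
  haveI := hH.charTwo
  obtain ⟨hQP, -, -, -⟩ := UnitarySylow.basis_facts he0
  obtain ⟨A, hA⟩ := exists_lift hc hH hσ he0 M hd hg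
  refine ⟨A, fun b => ?_⟩
  obtain ⟨μ, hμ⟩ := h b
  refine ⟨μ, ?_⟩
  rw [hA, wvec, wvec, Matrix.mulVec_mulVec, Matrix.mul_assoc, Matrix.mul_assoc, hQP, Matrix.mul_one,
    ← Matrix.mulVec_mulVec, hμ, Matrix.mulVec_smul]

theorem induces_Q (x : Q) : ∃ A, Induces hc e0 hH A (x : G) := by
  haveI := hH.charTwo
  let g : U σ := ⟨(c x).1, (c x).2, by rw [hσ.apply_eq, hσ.apply_eq]; exact hH.herm x⟩
  refine induces_of_pvec hc hH hσ he0 (M3 g) (UnitarySylow.M3_det g) (UnitarySylow.M3_gram hσ g) _ fun b => ⟨1, ?_⟩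
  rw [one_smul]
  rcases pvec_cases hc hH b with rfl | ⟨y, rfl⟩
  · rw [R1.fix_a hc.hS x.2, pvec_a]
    ext i
    fin_cases i <;> simp [M3, Matrix.mulVec, dotProduct, Fin.sum_univ_three]
  · rw [smul_smul (x : G) (y : G), ← Subgroup.coe_mul, pvec_q, pvec_q, hH.map_mul]
    ext i
    fin_cases i <;> simp [M3, g, hσ.apply_eq, Matrix.mulVec, dotProduct, Fin.sum_univ_three] <;> ring

theorem induces_t : ∃ A, Induces hc e0 hH A t := by
  haveI := hH.charTwo
  have hS := hc.hS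
  refine induces_of_pvec hc hH hσ he0 (K3 : Matrix (Fin 3) (Fin 3) F) ?_ ?_ _ fun b => ?_
  · simp [K3, Matrix.det_fin_three, CharTwo.neg_eq]
  · ext i j
    fin_cases i <;> fin_cases j <;> simp [K3, Matrix.mul_apply, Fin.sum_univ_three]
  have hta : pvec hc hH (t • a) = ![0, 0, 1] := by
    have := pvec_q hc hH (1 : Q)
    rw [OneMemClass.coe_one, one_smul, herm_one hc hH] at this
    exact this
  rcases pvec_cases hc hH b with rfl | ⟨⟨x, hx⟩, rfl⟩
  · refine ⟨1, ?_⟩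
    rw [hta, pvec_a, one_smul]
    ext i
    fin_cases i <;> simp [K3, Matrix.mulVec, dotProduct, Fin.sum_univ_three]
  by_cases hx1 : x = 1
  · subst hx1
    refine ⟨1, ?_⟩
    simp only [one_smul]
    rw [smul_smul t t, hS.mul_self, one_smul, hta, pvec_a]
    ext i
    fin_cases i <;> simp [K3, Matrix.mulVec, dotProduct, Fin.sum_univ_three]
  · obtain ⟨h2, hgc⟩ := hH.map_gc x hx hx1
    refine ⟨(c ⟨x, hx⟩).2, ?_⟩
    have hpt : t • (x • (t • a)) = gc hS x • (t • a) := by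
      rw [smul_smul, smul_smul, coords_eq hS hx hx1]
      simp only [mul_smul, R1.fix_a hS (fc_mem hS hx hx1)]
      rw [show R1C.hc hS x • (t • a) = t • a from (Subgroup.mem_inf.1 (hc_mem hS hx hx1)).2]
    rw [pvec_q, show t • ((⟨x, hx⟩ : Q) : G) • (t • a) = ((⟨gc hS x, gc_mem hS hx hx1⟩ : Q) : G) • (t • a) from hpt,
      pvec_q, hgc]
    ext i
    fin_cases i <;> simp [K3, Matrix.mulVec, dotProduct, Fin.sum_univ_three] <;> field_simp

/-- An element fixing all the points is central. -/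
theorem central_of_induces_one {A : ↥(Cfsg.SU 3 F (2 ^ n))} (h : Induces hc e0 hH A (1 : G)) :
    A ∈ Subgroup.center ↥(Cfsg.SU 3 F (2 ^ n)) := by
  haveI := hH.charTwo
  obtain ⟨hQP, hPQ, -, -⟩ := UnitarySylow.basis_facts he0
  obtain ⟨B, hB⟩ : ∃ B, B = Q3 e0 * A.1.1 * P3 e0 := ⟨_, rfl⟩
  have hfix : ∀ b, ∃ μ : F, B *ᵥ pvec hc hH b = μ • pvec hc hH b := by
    intro b
    obtain ⟨μ, hμ⟩ := h b
    refine ⟨μ, ?_⟩
    rw [one_smul] at hμ
    rw [hB, Matrix.mul_assoc, ← Matrix.mulVec_mulVec, ← Matrix.mulVec_mulVec]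
    rw [wvec] at hμ
    rw [hμ, Matrix.mulVec_smul, Matrix.mulVec_mulVec, hQP, Matrix.one_mulVec]
  obtain ⟨l, hl⟩ := hfix a
  rw [pvec_a] at hl
  obtain ⟨x1, hx1⟩ := hH.surj (0, 1) (by simp [CharTwo.add_self_eq_zero])
  obtain ⟨μ, hμ⟩ := hfix (((1 : Q) : G) • (t • a))
  obtain ⟨ν, hν⟩ := hfix ((x1 : G) • (t • a))
  rw [pvec_q, herm_one hc hH] at hμ
  rw [pvec_q, hx1] at hν
  have a0 := congrFun hl 0
  have a1 := congrFun hl 1
  have a2 := congrFun hl 2
  have b0 := congrFun hμ 0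
  have b1 := congrFun hμ 1
  have b2 := congrFun hμ 2
  have c0 := congrFun hν 0
  have c2 := congrFun hν 2
  simp [Matrix.mulVec, dotProduct, Fin.sum_univ_three] at a0 a1 a2 b0 b1 b2 c0 c2
  have hll : B 2 2 = l := by
    rw [a2, zero_add] at c2
    rw [c2, ← b2] at *
    linear_combination a0 - c0 + b0
  have hμl : μ = l := by rw [← b2, hll]
  have hmid : ∀ x : F, x ≠ 0 → ∃ z : F, B 0 1 * x = (B 1 1 - l) * z ∧ B 1 1 - l = B 2 1 * x := by
    intro x hx
    obtain ⟨z, hz⟩ : ∃ z : F, z + z ^ 2 ^ n = x * x ^ 2 ^ n := by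
      obtain ⟨g, hg⟩ := UnitarySylow.exists_z hσ x
      have := g.rel
      rw [hσ.apply_eq, hσ.apply_eq, hg] at this
      exact ⟨g.z, this⟩
    obtain ⟨y, hy⟩ := hH.surj (x, z) hz
    obtain ⟨ν, hν⟩ := hfix ((y : G) • (t • a))
    rw [pvec_q, hy] at hν
    have d0 := congrFun hν 0
    have d1 := congrFun hν 1
    have d2 := congrFun hν 2
    simp [Matrix.mulVec, dotProduct, Fin.sum_univ_three] at d0 d1 d2
    rw [a1, zero_mul, zero_add, b1, add_zero] at d1
    have hB11 : B 1 1 = ν := mul_right_cancel₀ hx d1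
    rw [a0, b0, add_zero, ← hB11] at d0
    rw [a2, zero_mul, zero_add, hll, ← hB11] at d2
    exact ⟨z, by linear_combination d0, by linear_combination -d2⟩
  have hB11 : B 1 1 = l := by
    by_contra hne
    obtain ⟨x, hx0, hx1'⟩ : ∃ x : F, x ≠ 0 ∧ x ≠ 1 := by
      classical
      by_contra! hh
      have : Fintype.card F ≤ 2 := by
        rw [← Finset.card_univ]
        refine (Finset.card_le_card (t := {0, 1}) fun y _ => ?_).trans Finset.card_le_two
        by_cases hy : y = 0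
        · simp [hy]
        · simp [hh y hy]
      rw [hH.card] at this
      have : 4 ≤ 2 ^ n := Nat.pow_le_pow_right (show 0 < 2 by norm_num) hH.two_le
      nlinarith
    obtain ⟨-, -, e1⟩ := hmid 1 one_ne_zero
    obtain ⟨-, -, e2⟩ := hmid x hx0
    rw [mul_one] at e1
    have e3 := e1.symm.trans e2
    by_cases h21 : B 2 1 = 0
    · exact hne (by linear_combination e1 + h21)
    · exact hx1' (mul_left_cancel₀ h21 (by rw [mul_one]; exact e3.symm))
  obtain ⟨z1, e1, e2⟩ := hmid 1 one_ne_zero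
  rw [hB11, sub_self, zero_mul, mul_one] at e1
  rw [hB11, sub_self, mul_one] at e2
  have hBl : B = l • (1 : Matrix (Fin 3) (Fin 3) F) := by
    ext i j
    fin_cases i <;> fin_cases j <;> simp [a0, a1, a2, b0, b1, hll, hB11, e1, ← e2]
  have hAl : A.1.1 = l • (1 : Matrix (Fin 3) (Fin 3) F) := by
    have : P3 e0 * B * Q3 e0 = A.1.1 := by
      rw [hB, show P3 e0 * (Q3 e0 * A.1.1 * P3 e0) * Q3 e0 = (P3 e0 * Q3 e0) * A.1.1 * (P3 e0 * Q3 e0) by
        simp only [Matrix.mul_assoc], hPQ, Matrix.one_mul, Matrix.mul_one]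
    rw [← this, hBl, Matrix.mul_smul, Matrix.mul_one, Matrix.smul_mul, hPQ]
  rw [Subgroup.mem_center_iff]
  intro C
  refine ext_val ?_
  rw [val_mul, val_mul, hAl, Matrix.smul_mul, Matrix.mul_smul, Matrix.one_mul, Matrix.mul_one]

omit hσ he0

/-- **A simple rank-one group with Hermitian coordinates is a unitary group.** -/
theorem HermQ.exists_iso [IsSimpleGroup G] [FaithfulSMul G Ω] : Nonempty (G ≃* Cfsg.PSU 3 F (2 ^ n)) := by
  classical
  haveI := hH.charTwo
  obtain ⟨-, -, σ, -, -, -, -, hσ⟩ := exists_usigma hH.card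
  have hq2 : 4 ≤ 2 ^ n := Nat.pow_le_pow_right (show 0 < 2 by norm_num) hH.two_le
  obtain ⟨e0, he0⟩ : ∃ e0 : F, e0 + σ e0 = 1 := by
    have h := (UnitarySylow.card_fix hσ).2 1 (map_one σ)
    obtain ⟨⟨e0, he0⟩⟩ := (Nat.card_pos_iff.1 (by rw [h]; omega : 0 < Nat.card {z : F // z + σ z = 1})).1
    exact ⟨e0, he0⟩
  have hall : ∀ g : G, ∃ A, Induces hc e0 hH A g := by
    intro g
    have hg : g ∈ Subgroup.closure ((Q : Set G) ∪ {t}) := by rw [closure_Q_t hc.hS]; exact Subgroup.mem_top g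
    induction hg using Subgroup.closure_induction with
    | mem y hy =>
      rcases hy with hy | rfl
      exacts [induces_Q hc hH hσ he0 ⟨y, hy⟩, induces_t hc hH hσ he0]
    | one => exact ⟨1, fun b => ⟨1, by simp⟩⟩
    | mul y z _ _ hy hz =>
      obtain ⟨A, hA⟩ := hy
      obtain ⟨A', hA'⟩ := hz
      exact ⟨_, induces_mul hc hH hσ he0 hA hA'⟩
    | inv y _ hy =>
      obtain ⟨A, hA⟩ := hy
      refine ⟨A⁻¹, fun b => ?_⟩
      obtain ⟨μ, hμ⟩ := hA (y⁻¹ • b)
      rw [smul_inv_smul] at hμ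
      have h1 := congrArg (fun v => (A⁻¹ : ↥(Cfsg.SU 3 F (2 ^ n))).1.1 *ᵥ v) hμ
      simp only [Matrix.mulVec_mulVec, ← val_mul, inv_mul_cancel, Matrix.mulVec_smul] at h1
      rw [show ((1 : ↥(Cfsg.SU 3 F (2 ^ n))).1.1) = (1 : Matrix (Fin 3) (Fin 3) F) from rfl,
        Matrix.one_mulVec] at h1
      have h0 : μ ≠ 0 := by
        intro h0
        rw [h0, zero_smul] at h1
        have h2 : wvec hc e0 hH (y⁻¹ • b) = (0 : F) • wvec hc e0 hH (t • a) := by rw [h1, zero_smul]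
        have h3 : wvec hc e0 hH (y⁻¹ • b) = (0 : F) • wvec hc e0 hH a := by rw [h1, zero_smul]
        exact R1.ta_ne hc.hS ((wvec_sep hc hH hσ he0 h2).symm.trans (wvec_sep hc hH hσ he0 h3))
      exact ⟨μ⁻¹, by rw [h1, smul_smul, inv_mul_cancel₀ h0, one_smul]⟩
  choose A hA using hall
  let π : ↥(Cfsg.SU 3 F (2 ^ n)) →* Cfsg.PSU 3 F (2 ^ n) := QuotientGroup.mk' _
  have hsame : ∀ (B B' : ↥(Cfsg.SU 3 F (2 ^ n))) (g : G), Induces hc e0 hH B g → Induces hc e0 hH B' g →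
      π B = π B' := by
    intro B B' g hB hB'
    have hinv : Induces hc e0 hH (A g⁻¹) g⁻¹ := hA g⁻¹
    have e1 := induces_mul hc hH hσ he0 hinv hB
    have e2 := induces_mul hc hH hσ he0 hinv hB'
    rw [inv_mul_cancel] at e1 e2
    have c1 := central_of_induces_one hc hH hσ he0 e1
    have c2 := central_of_induces_one hc hH hσ he0 e2
    have : π (A g⁻¹) * π B = π (A g⁻¹) * π B' := by
      rw [← _root_.map_mul, ← _root_.map_mul]
      exact ((QuotientGroup.eq_one_iff _).2 c1).trans ((QuotientGroup.eq_one_iff _).2 c2).symm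
    exact mul_left_cancel this
  let ψ : G →* Cfsg.PSU 3 F (2 ^ n) := MonoidHom.mk' (fun g => π (A g)) fun g g' => by
    rw [← _root_.map_mul]
    exact hsame _ _ _ (hA _) (induces_mul hc hH hσ he0 (hA g) (hA g'))
  have hinj : Function.Injective ψ := by
    rw [injective_iff_map_eq_one]
    intro g hg
    have hcen : A g ∈ Subgroup.center ↥(Cfsg.SU 3 F (2 ^ n)) := (QuotientGroup.eq_one_iff _).1 hg
    -- a central element commutes with the elements inducing every group element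
    have hcomm : ∀ x : G, g * x = x * g := fun x => by
      refine induces_unique hc hH hσ he0 (induces_mul hc hH hσ he0 (hA g) (hA x)) ?_
      rw [show A g * A x = A x * A g from (Subgroup.mem_center_iff.1 hcen (A x)).symm]
      exact induces_mul hc hH hσ he0 (hA x) (hA g)
    rcases (inferInstance : (Subgroup.center G).Normal).eq_bot_or_eq_top with hb | hb
    · have : g ∈ Subgroup.center G := Subgroup.mem_center_iff.2 fun x => (hcomm x).symm
      rwa [hb, Subgroup.mem_bot] at this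
    · exfalso
      obtain ⟨s, hs, hs1, -⟩ := R1.exists_inv hc.hS
      have hst := Subgroup.mem_center_iff.1 (show s ∈ Subgroup.center G by rw [hb]; trivial) t
      exact hs1 (R1.Q_D_bot hc.hS hs (by rw [smul_smul, ← hst, mul_smul, R1.fix_a hc.hS hs]))
  suffices hr : ψ.range = ⊤ by
    exact ⟨MulEquiv.ofBijective ψ ⟨hinj, MonoidHom.range_eq_top.1 hr⟩⟩
  by_contra hne
  letI : StarRing F := Small.Hermitian.starRingOfInvolution σ.toRingHom hσ.involutive
  have hbound := (Small.UMinIndex.Three.psu_three (q := 2 ^ n) (fun x => hσ.apply_eq x) hH.card (by omega) (by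
    intro h5
    have := Nat.pow_dvd_pow 2 hH.two_le
    rw [h5] at this
    omega)).1 _ hne
  have hmul := ψ.range.card_mul_index
  have hrange : Nat.card ψ.range = Nat.card G := (Nat.card_congr (MonoidHom.ofInjective hinj).toEquiv).symm
  have hQcard : Nat.card Q = (2 ^ n) ^ 3 := by
    let e : Q → U σ := fun x => ⟨(c x).1, (c x).2, by rw [hσ.apply_eq, hσ.apply_eq]; exact hH.herm x⟩
    rw [← UnitarySylow.card_U hσ]
    refine Nat.card_eq_of_bijective e ⟨fun x y h => hH.inj (Prod.ext (congrArg U.x h) (congrArg U.z h)), fun g => ?_⟩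
    obtain ⟨x, hx⟩ := hH.surj (g.x, g.z) (by rw [← hσ.apply_eq, ← hσ.apply_eq]; exact g.rel)
    exact ⟨x, U.ext (congrArg Prod.fst hx) (congrArg Prod.snd hx)⟩
  rw [hrange, R1.card_G hc.hS, hQcard] at hmul
  have hSU := Local.FS.PSU3Simple.card_SU3 hσ
  have hPSU : Nat.card (Cfsg.PSU 3 F (2 ^ n)) ≤ Nat.card ↥(Cfsg.SU 3 F (2 ^ n)) :=
    Nat.card_le_card_of_surjective π (QuotientGroup.mk'_surjective _)
  have hD : 2 ^ n ≤ Nat.card (D G a t) + 1 := by
    rw [← hH.card_zg, ← hc.card_kg]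
    exact Nat.add_le_add_right (Subgroup.card_le_of_le hc.kg_le) 1
  rw [← hmul] at hPSU
  obtain ⟨q, hqd⟩ : ∃ q, 2 ^ n = q := ⟨_, rfl⟩
  obtain ⟨N, hN⟩ : ∃ N, ψ.range.index = N := ⟨_, rfl⟩
  rw [hN, hqd] at hPSU hbound
  rw [hqd] at hSU hD hq2
  obtain ⟨w, hw⟩ : ∃ w, q ^ 2 = w + 1 := ⟨q ^ 2 - 1, by have : 1 ≤ q ^ 2 := Nat.one_le_pow _ _ (by omega); omega⟩
  rw [hw, Nat.add_sub_cancel] at hSU
  have hSU' := Nat.eq_of_mul_eq_mul_left (by omega : 0 < q + 1)
    (hSU.trans (show _ = (q + 1) * (q ^ 3 * (w * (q ^ 3 + 1))) by ring))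
  rw [hSU'] at hPSU
  have hkey : Nat.card (D G a t) * N ≤ w := by
    refine Nat.le_of_mul_le_mul_left ?_ (show 0 < q ^ 3 * (q ^ 3 + 1) by positivity)
    calc q ^ 3 * (q ^ 3 + 1) * (Nat.card (D G a t) * N)
        = q ^ 3 * Nat.card (D G a t) * (q ^ 3 + 1) * N := by ring
      _ ≤ q ^ 3 * (w * (q ^ 3 + 1)) := hPSU
      _ = _ := by ring
  have h4 : 1 * N ≤ Nat.card (D G a t) * N := Nat.mul_le_mul_right _ (by omega)
  have h6 : q ^ 2 ≤ q ^ 3 := Nat.pow_le_pow_right (by omega) (by norm_num)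
  omega

end Cfsg.Agent.Lie.R1C
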