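import Cfsg.Agent.Lib.Lie.SplitRankOne.CaseBCoh
import Cfsg.Agent.Lib.Lie.SplitRankOne.UnitaryModel
import Cfsg.Agent.Lib.Lie.Feit.Main
import Cfsg.Agent.Lib.Lie.SuzukiUnique.Main
import Cfsg.Agent.Lib.Lie.ZassenhausOddHalf

/-!
Simple groups with a rank-one set-up of two-rank at least two.
-/

set_option autoImplicit false
set_option linter.unusedSectionVars false
set_option linter.unusedSimpArgs false
set_option linter.style.haveILetI false

namespace Cfsg.Agent.Lie.R1C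

open Cfsg MulAction
open Cfsg.Agent.Lie.R1 (D tt t_inv tDt)
open Cfsg.Agent.Lie.Zassenhaus Cfsg.Agent.Lie.SharpCoords

universe u v

/-- A simple sharply triply transitive Zassenhaus group of odd two-point stabiliser, with the order of the field. -/
theorem psl_even {G : Type u} {Ω : Type v} [Group G] [Finite G] [IsSimpleGroup G] [MulAction G Ω]
    [Fintype Ω] (hZ : Cfsg.IsZassenhausGroup G Ω) {a b : Ω} (hab : a ≠ b)
    (hodd : Odd (Nat.card ↥(stabilizer G a ⊓ stabilizer G b)))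
    (hd : Nat.card ↥(stabilizer G a ⊓ stabilizer G b) = Fintype.card Ω - 2) :
    ∃ (F : Type) (_ : Field F) (_ : Fintype F), Even (Fintype.card F) ∧
      Nonempty (G ≃* Matrix.ProjectiveSpecialLinearGroup (Fin 2) F) := by
  classical
  obtain ⟨hF, h2, h3, hfix, -⟩ := hZ
  haveI := hF
  obtain ⟨hcyc, -, -⟩ := ZassenhausOdd.cyclic_inverted h2 h3 hfix hab hodd
    (ZassenhausOdd.no_complement h2 hab hodd)
  have h4 : 4 ≤ Fintype.card Ω := by
    obtain ⟨g₀, hg₀, hga, hgb⟩ := exists_fix_pair h2 hfix hab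
    have : Nontrivial ↥(stabilizer G a ⊓ stabilizer G b) :=
      ⟨⟨g₀, hga, hgb⟩, 1, fun h => hg₀ (congrArg Subtype.val h)⟩
    have := Finite.one_lt_card_iff_nontrivial.2 this
    omega
  refine with_coords h2 h3 hab hd h4 fun p f _ V _ _ _ _ ρ π t e τ T z C => ?_
  haveI := hcyc
  obtain ⟨F, iF, iFF, hFcard, ⟨φ⟩⟩ := SharpPGL.pgl_of_comm h2 hab C fun g g' =>
    (IsCyclic.commGroup (α := ↥(stabilizer G a ⊓ stabilizer G b))).mul_comm g g'
  letI := iF
  letI := iFF
  refine ⟨F, iF, iFF, ?_⟩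
  have heven : Even (Fintype.card F) := by
    have h1 := C.cardD
    have h2' := C.pf
    rw [Nat.even_iff]
    obtain ⟨m, hm⟩ := hodd
    have h5 : Nat.card (Two G a b) = Nat.card ↥(stabilizer G a ⊓ stabilizer G b) := rfl
    omega
  have hgcd : Nat.gcd 2 (Fintype.card F - 1) = 1 := by
    refine Nat.Coprime.gcd_eq_one ((Nat.prime_two.coprime_iff_not_dvd).2 ?_)
    have := Fintype.card_pos (α := F)
    obtain ⟨k, hk⟩ := heven
    omega
  have hcard : Nat.card (Matrix.ProjectiveSpecialLinearGroup (Fin 2) F) =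
      Nat.card (Matrix.ProjGenLinGroup (Fin 2) F) := by
    have h1 := Lead.GLBasic.card_PSL (F := F) 2
    rw [hgcd, one_mul] at h1
    rw [h1, Lead.GLBasic.card_PGL]
  haveI := Classical.Dickson.finite_pgl F
  exact ⟨heven, ⟨φ.trans (MulEquiv.ofBijective Matrix.ProjectiveSpecialLinearGroup.toPGL
    ((Function.Injective.bijective_of_nat_card_le Matrix.ProjectiveSpecialLinearGroup.toPGL_injective hcard.ge))).symm⟩⟩

variable {G : Type u} {Ω : Type v} [Group G] [MulAction G Ω] [Finite G] {a : Ω} {t : G} {Q : Subgroup G}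

namespace Ctx

variable (hc : Ctx G Ω a t Q)

include hc

theorem faithful [IsSimpleGroup G] : FaithfulSMul G Ω := by
  have hker : (MulAction.toPermHom G Ω).ker = ⊥ := by
    refine (inferInstance : (MulAction.toPermHom G Ω).ker.Normal).eq_bot_or_eq_top.resolve_right fun h => ?_
    exact R1.ta_ne hc.hS (DFunLike.congr_fun (MonoidHom.mem_ker.1 (h ▸ Subgroup.mem_top t)) a)
  refine ⟨fun {g g'} hgg => ?_⟩
  have : g⁻¹ * g' ∈ (MulAction.toPermHom G Ω).ker := Equiv.ext fun b => by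
    show (g⁻¹ * g') • b = b
    rw [mul_smul, ← hgg b, inv_smul_smul]
  rw [hker, Subgroup.mem_bot] at this
  exact inv_mul_eq_one.1 this

theorem card_Q_ge : Nat.card (zg G a) ≤ Nat.card Q :=
  Nat.le_of_dvd Nat.card_pos (Subgroup.card_dvd_of_le hc.zg_le_Q)

/-- If `V` is trivial, the group is a Zassenhaus group. -/
theorem zassenhaus [IsSimpleGroup G] (hV : vg G a t = ⊥) : Cfsg.IsZassenhausGroup G Ω := by
  have hF := hc.faithful
  haveI := hc.hS.two_transitive
  obtain ⟨k, hk, hk1⟩ : ∃ k ∈ kg G a t, k ≠ 1 := by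
    haveI : Nontrivial (kg G a t) := by
      rw [← Finite.one_lt_card_iff_nontrivial]
      obtain ⟨f, hf2, hf⟩ := hc.exists_f
      have := hc.card_kg
      have : 2 ^ 2 ≤ 2 ^ f := Nat.pow_le_pow_right (by norm_num) hf2
      omega
    obtain ⟨⟨k, hk⟩, hk1⟩ := exists_ne (1 : kg G a t)
    exact ⟨k, hk, fun e => hk1 (Subtype.ext e)⟩
  have hkD := Subgroup.mem_inf.1 (hc.kg_le hk)
  refine ⟨hF, hc.hS.two_transitive, fun g b c e hbc hce hbe hgb hgc hge => ?_,
    ⟨k, hk1, a, t • a, (R1.ta_ne hc.hS).symm, hkD.1, hkD.2⟩, fun N hN hNt => ?_⟩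
  · obtain ⟨x, hxb, hxc⟩ := R1.two_trans hc.hS hbc (R1.ta_ne hc.hS).symm
    have hfix : ∀ d : Ω, g • d = d → (x * g * x⁻¹) • (x • d) = x • d := fun d hd => by
      rw [mul_smul, mul_smul, inv_smul_smul, hd]
    have h1 := hfix b hgb
    have h2 := hfix c hgc
    rw [hxb] at h1
    rw [hxc] at h2
    obtain ⟨l, hl, hlt⟩ := R1.conj_to_V (X := {x * g * x⁻¹}) hc.hS
      (Set.singleton_subset_iff.2 (Subgroup.mem_inf.2 ⟨h1, h2⟩))
      ⟨a, t • a, x • e, (R1.ta_ne hc.hS).symm, fun h => hbe (MulAction.injective x (hxb.trans h)),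
        fun h => hce (MulAction.injective x (hxc.trans h)),
        fun y hy => by rw [Set.mem_singleton_iff.1 hy]; exact ⟨h1, h2, hfix e hge⟩⟩
    have hmem : l * (x * g * x⁻¹) * l⁻¹ ∈ vg G a t := Subgroup.mem_inf.2
      ⟨mul_mem (mul_mem hl (Subgroup.mem_inf.2 ⟨h1, h2⟩)) (inv_mem hl),
        Subgroup.mem_centralizer_singleton_iff.2 (hlt _ rfl)⟩
    rw [hV, Subgroup.mem_bot, conj_eq_one_iff, conj_eq_one_iff] at hmem
    exact hmem
  · rcases hN.eq_bot_or_eq_top with rfl | rfl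
    · exfalso
      obtain ⟨y, hy⟩ := hNt.exists_smul_eq a (t • a)
      have : (y : G) = 1 := Subgroup.mem_bot.1 y.2
      exact R1.ta_ne hc.hS (by rw [← hy, Subgroup.smul_def, this, one_smul])
    · refine ⟨a, fun h => hk1 ?_⟩
      have : (⟨k, Subgroup.mem_top k⟩ : (⊤ : Subgroup G)) ∈ stabilizer (⊤ : Subgroup G) a := hkD.1
      rw [h, Subgroup.mem_bot] at this
      exact congrArg Subtype.val this

theorem card_D_of_bot (hV : vg G a t = ⊥) :
    Nat.card (D G a t) + 1 = Nat.card (zg G a) := by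
  rw [hc.card_D, hV, Subgroup.card_bot, one_mul, hc.card_kg]

theorem honly : ∀ u ∈ Q, u ≠ 1 → ∀ c : Ω, u • c = c → c = a := fun u hu hu1 c hcu => by
  by_contra hca
  exact hu1 (R1.q_free hc.hS hu hca hcu)

/-- If `V` is trivial, then `Q` is non-abelian of two-power order, or `Q` is the group of involutions. -/
theorem feit_alt [IsSimpleGroup G] (hV : vg G a t = ⊥) :
    (IsPGroup 2 Q ∧ ∃ u v : Q, u * v ≠ v * u) ∨ Q = zg G a := by
  haveI := R1.finite_Ω hc.hS
  haveI := Fintype.ofFinite Ω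
  have hΩ : Fintype.card Ω = Nat.card Q + 1 := by rw [← Nat.card_eq_fintype_card, R1.card_Ω hc.hS]
  rcases Cfsg.Agent.Lie.Feit.feit_inequality (hc.zassenhaus hV) (R1.ta_ne hc.hS).symm hΩ rfl hc.hS.odd_card hc.hS.le
    hΩ.symm hc.honly with h | ⟨h1, h2, -⟩
  · right
    change Nat.card Q - 1 ≤ 2 * Nat.card (D G a t) at h
    have hD := hc.card_D_of_bot hV
    refine (Subgroup.eq_of_le_of_card_ge hc.zg_le_Q ?_).symm
    obtain ⟨j, hj⟩ := Subgroup.card_dvd_of_le hc.zg_le_Q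
    have hpos := Nat.card_pos (α := zg G a)
    have : j < 2 := by
      by_contra h2
      push Not at h2
      have : Nat.card (zg G a) * 2 ≤ Nat.card (zg G a) * j := Nat.mul_le_mul_left _ h2
      omega
    rw [hj]
    exact le_of_le_of_eq (Nat.mul_le_mul_left _ (Nat.lt_succ_iff.1 this)) (mul_one _)
  · exact Or.inl ⟨h1, h2⟩

/-- In a simple group, `Q` is a two-group. -/
theorem two_of_simple [IsSimpleGroup G] (IH : AllTwo.{u, v} (Nat.card G)) : IsPGroup 2 Q := by
  by_cases hV : vg G a t = ⊥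
  · rcases hc.feit_alt hV with h | h
    · exact h.1
    · exact fun x => ⟨1, Subtype.ext (by
        rw [SubgroupClass.coe_pow, pow_one, pow_two]
        exact hc.zg_sq (h ▸ x.2))⟩
  haveI := Fact.mk Nat.prime_two
  obtain ⟨S, U, hSU⟩ := exists_psplit (R1.nilpotent hc.hS hc.h2) Nat.prime_two (Q := Q)
  have hbot : U = ⊥ := by
    by_contra hU
    by_cases hE : ∃ v ∈ vg G a t, (orderOf v).Prime ∧ v ∉ wg G a t
    · obtain ⟨v, hv, hvl, hvW⟩ := hE
      haveI : Nontrivial U := (Subgroup.nontrivial_iff_ne_bot _).2 hU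
      obtain ⟨p, hp, hpU⟩ := Nat.exists_prime_and_dvd (Finite.one_lt_card (α := U)).ne'
      exact hc.case_a IH hv hvW hvl hp (fun e => hSU.U_coprime (e ▸ hpU))
        (hpU.trans (Subgroup.card_dvd_of_le hSU.U_le))
    · push Not at hE
      exact BCtx.false (S := S) (U := U) ⟨hc, IH, hE, hV, hSU, hU⟩
  intro x
  obtain ⟨s, hs, w, hw, e⟩ := hSU.decomp x x.2
  rw [hbot, Subgroup.mem_bot] at hw
  obtain ⟨k, hk⟩ := hSU.S_pgroup ⟨s, hs⟩
  refine ⟨k, Subtype.ext ?_⟩
  rw [SubgroupClass.coe_pow, e, hw, mul_one]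
  exact congrArg Subtype.val hk

/-- A simple group with a set-up and `Q` a two-group is one of the three models. -/
theorem classify [IsSimpleGroup G] (hQ : IsPGroup 2 Q) :
    (∃ (F : Type) (_ : Field F) (_ : Fintype F), (∃ n : ℕ, 2 ≤ n ∧ Fintype.card F = 2 ^ n) ∧
          Nonempty (G ≃* Matrix.ProjectiveSpecialLinearGroup (Fin 2) F)) ∨
        Cfsg.Lie.IsoSuzuki G ∨
        (∃ (F : Type) (_ : Field F) (_ : Fintype F) (n : ℕ), 2 ≤ n ∧ Fintype.card F = (2 ^ n) ^ 2 ∧
          Nonempty (G ≃* Cfsg.PSU 3 F (2 ^ n))) := by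
  haveI := R1.finite_Ω hc.hS
  haveI := Fintype.ofFinite Ω
  haveI := hc.faithful
  by_cases hV : vg G a t = ⊥
  · have hΩ : Fintype.card Ω = Nat.card Q + 1 := by rw [← Nat.card_eq_fintype_card, R1.card_Ω hc.hS]
    have hZ := hc.zassenhaus hV
    by_cases hna : ∃ u v : Q, u * v ≠ v * u
    · exact Or.inr (Or.inl (SuzukiUnique.iso_suzuki hZ (R1.ta_ne hc.hS).symm Q hc.hS.le hΩ.symm hc.honly hQ hna))
    left
    have hQZ : Q = zg G a := (hc.feit_alt hV).resolve_left fun h => hna h.2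
    have hD := hc.card_D_of_bot hV
    rw [← hQZ] at hD
    obtain ⟨F, iF, iFF, hev, ⟨e⟩⟩ := psl_even hZ (R1.ta_ne hc.hS).symm hc.hS.odd_card (by
      show Nat.card (D G a t) = _
      omega)
    letI := iF
    letI := iFF
    refine ⟨F, iF, iFF, ?_, ⟨e⟩⟩
    obtain ⟨p, hchar⟩ := CharP.exists F
    obtain ⟨⟨n, hn⟩, hp, hFc⟩ := FiniteField.card F p
    have hp2 : p = 2 := ((Nat.prime_dvd_prime_iff_eq Nat.prime_two hp).1
      (Nat.prime_two.dvd_of_dvd_pow (hFc ▸ even_iff_two_dvd.1 hev : 2 ∣ p ^ n))).symm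
    subst hp2
    refine ⟨n, ?_, hFc⟩
    by_contra hlt
    obtain rfl : n = 1 := by omega
    have h1 := Nat.card_congr e.toEquiv
    have h2 := Lead.GLBasic.card_PSL (F := F) 2
    rw [← h1, R1.card_G hc.hS] at h2
    obtain ⟨f, hf2, hf⟩ := hc.exists_f
    rw [← hQZ] at hf
    have h4 : 2 ^ 2 ≤ 2 ^ f := Nat.pow_le_pow_right (by norm_num) hf2
    have h12 : 4 * 3 * 5 ≤ Nat.card Q * Nat.card (D G a t) * (Nat.card Q + 1) :=
      Nat.mul_le_mul (Nat.mul_le_mul (by omega) (by omega)) (by omega)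
    have h3 : Nat.card (Matrix.SpecialLinearGroup (Fin 2) F) ≤ 16 := by
      refine (Nat.card_le_card_of_injective (fun A : Matrix.SpecialLinearGroup (Fin 2) F =>
        (A : Matrix (Fin 2) (Fin 2) F)) Subtype.val_injective).trans (le_of_eq ?_)
      simp [Nat.card_eq_fintype_card, Matrix, hFc]
    rw [← h2] at h3
    have h5 := (Nat.le_mul_of_pos_left (Nat.card Q * Nat.card (D G a t) * (Nat.card Q + 1))
      (Nat.gcd_pos_of_pos_left (Fintype.card F - 1) (show 0 < 2 by norm_num))).trans h3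
    omega
  · obtain ⟨F, iF, iFF, n, c, hH⟩ := hc.exists_herm hQ hV
    letI := iF
    letI := iFF
    exact Or.inr (Or.inr ⟨F, iF, iFF, n, hH.two_le, hH.card, HermQ.exists_iso hc hH⟩)

end Ctx

end Cfsg.Agent.Lie.R1C
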