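import Cfsg.Agent.Lib.Lie.SplitRankOne.Basic
import Cfsg.Agent.Lib.Small.SL2.Classes

/-!
Simple groups whose `Q` is an abelian two-group or has order `q ^ 2` have trivial `V`.
-/

set_option autoImplicit false
set_option linter.unusedSectionVars false
set_option linter.unusedSimpArgs false
set_option linter.style.haveILetI false

namespace Cfsg.Agent.Lie.R1C

open Cfsg MulAction
open Cfsg.Agent.Lie.R1 (D tt t_inv tDt)
open scoped MatrixGroups

variable {G Ω : Type*} [Group G] [MulAction G Ω] [Finite G] {a : Ω} {t : G} {Q : Subgroup G} (hc : Ctx G Ω a t Q)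

include hc

theorem Ctx.no_abelian [IsSimpleGroup G] (hQ : IsPGroup 2 Q) (hcomm : ∀ x ∈ Q, ∀ y ∈ Q, x * y = y * x)
    (hV : vg G a t ≠ ⊥) : False := by
  classical
  haveI := R1.finite_Ω hc.hS
  haveI := Fintype.ofFinite Ω
  haveI := Fintype.ofFinite Q
  obtain ⟨χ, hχ, hne⟩ := hc.exists_char hV
  obtain ⟨g, m, n, α, β, hH⟩ := exists_hecke χ hc.hS hχ
  exact hc.contra_two hQ hχ hne fun x hx hx1 => lam_central hH hχ hx hx1 (hcomm x hx)

/-- In a subgroup of order `q ^ 2` the torus is transitive on the cosets of `Z` outside `Z`. -/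
theorem Ctx.trans_cosets {S : Subgroup G} (hZS : zg G a ≤ S) (hSQ : S ≤ Q)
    (hcard : Nat.card S = Nat.card (zg G a) ^ 2) (hK : ∀ k ∈ kg G a t, ∀ x ∈ S, k * x * k⁻¹ ∈ S)
    (hsq : ∀ x ∈ S, x * x ∈ zg G a) {r : G} (hr : r ∈ S) (hrZ : r ∉ zg G a) {x : G} (hx : x ∈ S)
    (hxZ : x ∉ zg G a) : ∃ k ∈ kg G a t, ∃ z ∈ zg G a, x = k * (r * z) * k⁻¹ := by
  classical
  let T := {y : S // (y : G) ∉ zg G a}
  have hmem : ∀ (k : kg G a t) (z : zg G a), (k : G) * (r * z) * (k : G)⁻¹ ∈ S ∧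
      (k : G) * (r * z) * (k : G)⁻¹ ∉ zg G a := fun k z => ⟨hK k k.2 _ (mul_mem hr (hZS z.2)), fun h => hrZ (by
    have := hc.conj_zg (hc.kg_fix (inv_mem k.2)) h
    rw [inv_inv, show (k : G)⁻¹ * ((k : G) * (r * z) * (k : G)⁻¹) * k = r * z by group] at this
    simpa using mul_mem this (inv_mem z.2))⟩
  let φ : kg G a t × zg G a → T := fun p => ⟨⟨_, (hmem p.1 p.2).1⟩, (hmem p.1 p.2).2⟩
  have hinj : Function.Injective φ := by
    rintro ⟨k, z⟩ ⟨k', z'⟩ e
    have e' : (k : G) * (r * z) * (k : G)⁻¹ = (k' : G) * (r * z') * (k' : G)⁻¹ :=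
      congrArg (fun y : T => ((y : S) : G)) e
    have hr2 : r * r ≠ 1 := fun h => hrZ (hc.mem_zg_of_sq (hc.hS.le (hSQ hr)) h)
    have hd : (k' : G)⁻¹ * k ∈ kg G a t := mul_mem (inv_mem k'.2) k.2
    have e2 : ((k' : G)⁻¹ * k) * (r * z) * ((k' : G)⁻¹ * k)⁻¹ = r * z' := by
      rw [show ((k' : G)⁻¹ * k) * (r * z) * ((k' : G)⁻¹ * k)⁻¹ =
        (k' : G)⁻¹ * ((k : G) * (r * z) * (k : G)⁻¹) * k' by group, e']
      group
    have hzz : ∀ y ∈ zg G a, (r * y) * (r * y) = r * r := fun y hy => by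
      rw [mul_assoc, ← mul_assoc y, hc.zg_central hy (hSQ hr), mul_assoc r y y, hc.zg_sq hy, mul_one]
    have e3 : ((k' : G)⁻¹ * k) * (r * r) * ((k' : G)⁻¹ * k)⁻¹ = r * r := by
      rw [← hzz z z.2, show ∀ d y : G, d * (y * y) * d⁻¹ = (d * y * d⁻¹) * (d * y * d⁻¹) by intros; group, e2,
        hzz z' z'.2, hzz z z.2]
    have hk : (k' : G)⁻¹ * k = 1 := by
      by_contra hne
      exact hr2 (hc.kg_fpf hd hne (hSQ (mul_mem hr hr)) (mul_inv_eq_iff_eq_mul.1 e3))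
    have hkk : k = k' := Subtype.ext (inv_mul_eq_one.1 hk).symm
    subst hkk
    simp only [mul_right_inj, mul_left_inj, Subtype.coe_inj] at e'
    rw [e']
  have hT : Nat.card T = Nat.card (kg G a t × zg G a) := by
    have h1 : Nat.card {y : S // (y : G) ∈ zg G a} = Nat.card (zg G a) :=
      Nat.card_congr ⟨fun y => ⟨(y.1 : G), y.2⟩, fun z => ⟨⟨z, hZS z.2⟩, z.2⟩, fun _ => rfl, fun _ => rfl⟩
    have h2 : Nat.card S = Nat.card {y : S // (y : G) ∈ zg G a} + Nat.card T := by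
      rw [← Nat.card_sum]; exact Nat.card_congr (Equiv.sumCompl _).symm
    rw [h1, hcard] at h2
    have h3 := hc.card_kg
    rw [Nat.card_prod]
    nlinarith
  obtain ⟨⟨k, z⟩, hkz⟩ := ((Nat.bijective_iff_injective_and_card φ).2 ⟨hinj, hT.symm⟩).2 ⟨⟨x, hx⟩, hxZ⟩
  exact ⟨k, k.2, z, z.2, (congrArg (fun y : T => ((y : S) : G)) hkz).symm⟩

variable {L : Type} [Field L] [Fintype L] {zp kp : L → G} (hL : Coord G a t Q L zp kp)

include hL

theorem Coord.card_eq : Nat.card (zg G a) = Fintype.card L := by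
  rw [← Nat.card_eq_fintype_card]
  exact (Nat.card_congr ((Equiv.ofInjective zp hL.zp_inj).trans (Equiv.setCongr (Set.ext fun z =>
      (hL.mem_zp z).symm)))).symm

/-- The linear group has too many elements to act semiregularly on `q ^ 2 - q` points. -/
theorem Coord.no_small_orbit [CharP L 2] (hM : MCtx G a t Q L zp kp) {F : Set Ω}
    (hFa : ∀ A : SL(2, L), ∀ b ∈ F, hM.mg A • b ∈ F) (hcard : F.ncard = Fintype.card L ^ 2 + 1) : False := by
  classical
  haveI := R1.finite_Ω hc.hS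
  set q := Fintype.card L with hq
  let B : Set Ω := {b | hM.inB b}
  have hB : B.ncard ≤ q + 1 := by
    have : B ⊆ insert a (Set.range fun x : L => zp x • (t • a)) := by
      rintro b (rfl | ⟨x, rfl⟩)
      exacts [Or.inl rfl, Or.inr ⟨x, rfl⟩]
    refine (Set.ncard_le_ncard this (Set.toFinite _)).trans ((Set.ncard_insert_le _ _).trans ?_)
    gcongr
    rw [← Nat.card_coe_set_eq, hq, ← Nat.card_eq_fintype_card]
    exact Finite.card_range_le _
  have hq2 : 2 ≤ q := Fintype.one_lt_card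
  obtain ⟨b, hbF, hbB⟩ : ∃ b ∈ F, b ∉ B := by
    by_contra hh
    push Not at hh
    have := (Set.ncard_le_ncard hh (Set.toFinite _)).trans hB
    rw [hcard] at this
    nlinarith
  let f : SL(2, L) → Ω := fun A => hM.mg A • b
  have hinj : Function.Injective f := fun A A' e => by
    by_contra hne
    refine hbB (hM.semireg (A := A'⁻¹ * A) (fun h => hne (inv_mul_eq_one.1 h).symm) ?_)
    rw [map_mul, mul_smul, show hM.mg A • b = hM.mg A' • b from e, map_inv, inv_smul_smul]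
  have h1 : Nat.card SL(2, L) ≤ F.ncard := by
    rw [← Nat.card_coe_set_eq F]
    exact Nat.card_le_card_of_injective (fun A => (⟨f A, hFa A b hbF⟩ : F))
      fun A A' e => hinj (congrArg Subtype.val e)
  rw [Small.SL2C.card_SL2, hcard, ← hq] at h1
  have h4 : 4 ≤ q ^ 2 := by nlinarith
  obtain ⟨w, hw⟩ : ∃ w, q ^ 2 = w + 1 := ⟨q ^ 2 - 1, by omega⟩
  rw [hw, Nat.add_sub_cancel] at h1
  nlinarith

theorem Coord.no_q2 [IsSimpleGroup G] (hQ : IsPGroup 2 Q) (hcard : Nat.card Q = Nat.card (zg G a) ^ 2)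
    (hsq : ∀ x ∈ Q, x * x ∈ zg G a) (hV : vg G a t ≠ ⊥) : False := by
  classical
  obtain ⟨r, hr, he⟩ := hL.pair
  by_cases hrZ : r ∈ zg G a
  · haveI := hL.charTwo
    have hr1 := hL.pair_eq hc hr he hrZ
    rw [hr1, inv_eq_of_mul_eq_one_left (hc.zg_sq (hL.zp_mem hc 1))] at he
    refine hL.no_small_orbit hc ⟨hc, hL, he⟩ (F := Set.univ) (fun _ _ _ => trivial) ?_
    rw [Set.ncard_univ, R1.card_Ω hc.hS, hcard, hL.card_eq hc]
  · obtain ⟨χ, hχ, hne⟩ := hc.exists_char hV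
    haveI := R1.finite_Ω hc.hS
    haveI := Fintype.ofFinite Ω
    haveI := Fintype.ofFinite Q
    refine hc.contra_two hQ hχ hne fun x hx hx1 => ?_
    by_cases hxZ : x ∈ zg G a
    · exact R1C.lam_inv_fix hc.hS hχ (hc.hS.le hx) hx1 (hc.zg_sq hxZ)
    · obtain ⟨k, hk, z, hz, rfl⟩ := hc.trans_cosets hc.zg_le_Q le_rfl hcard
        (fun k hk x hx => R1.conj_Q hc.hS (hc.kg_fix hk) hx) hsq hr hrZ hx hxZ
      have hrz : r * z ≠ 1 := fun h => hrZ (by rw [mul_eq_one_iff_eq_inv.1 h]; exact inv_mem hz)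
      rw [lam_conj_K (hS := hc.hS) hχ (by rw [← hc.kg_eq]; exact hk) (mul_mem hr (hc.zg_le_Q hz)) hrz]
      exact hL.lam_rz hc hr he hrZ hχ hz

end Cfsg.Agent.Lie.R1C
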