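import Cfsg.Agent.Lib.Lie.SplitRankOne.HeckeFacts
import Cfsg.Agent.Lib.Lie.SplitRankOne.Setup

/-!
The set-up carried by the centralizer of a subset of `V` acting on the common fixed points.
-/

set_option autoImplicit false
set_option linter.unusedSectionVars false
set_option linter.unusedSimpArgs false
set_option linter.style.haveILetI false

namespace Cfsg.Agent.Lie.R1C

open Cfsg MulAction
open Cfsg.Agent.Lie.R1 (D tt t_inv tDt)

universe u v

variable {G : Type u} {Ω : Type v} [Group G] [MulAction G Ω]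

/-- The common fixed points of a set, as a space for its centralizer. -/
def fixSpace (G : Type u) (Ω : Type v) [Group G] [MulAction G Ω] (X : Set G) :
    SubMulAction (Subgroup.centralizer X) Ω where
  carrier := {b | ∀ x ∈ X, x • b = b}
  smul_mem' g _ hb := R1.cent_fix g.2 hb

theorem mem_fixSpace {X : Set G} {b : Ω} : b ∈ fixSpace G Ω X ↔ ∀ x ∈ X, x • b = b := Iff.rfl

variable [Finite G] {a : Ω} {t : G} {Q : Subgroup G} (hS : IsRankOneSetup G Ω a t Q) {X : Set G}
  (hX : X ⊆ (vg G a t : Set G))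

include hS hX

namespace Sub

theorem subset_D : X ⊆ (D G a t : Set G) := fun _ hx => (Subgroup.mem_inf.1 (hX hx)).1

theorem t_mem : t ∈ Subgroup.centralizer X := Subgroup.mem_centralizer_iff.2 fun x hx => by
  have := Subgroup.mem_centralizer_singleton_iff.1 (Subgroup.mem_inf.1 (hX hx)).2
  exact this

/-- The fixed points contain three points. -/
theorem three : ∃ b c d : Ω, b ≠ c ∧ b ≠ d ∧ c ≠ d ∧ ∀ x ∈ X, x • b = b ∧ x • c = c ∧ x • d = d := by
  obtain ⟨c, hc, hcu⟩ := R1.inv_one_fix hS hS.ne_one hS.mul_self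
  refine ⟨a, t • a, c, (R1.ta_ne hS).symm, fun h => R1.ta_ne hS (by rw [h, hc]), fun h => ?_, fun x hx => ?_⟩
  · rw [← h, R1.tta hS] at hc
    exact R1.ta_ne hS hc.symm
  · refine ⟨(R1.fix_points hS (subset_D hS hX) hx).1, (R1.fix_points hS (subset_D hS hX) hx).2, hcu _ ?_⟩
    show t • (x • c) = x • c
    rw [smul_smul, ← Subgroup.mem_centralizer_iff.1 (t_mem hS hX) x hx, mul_smul, hc]

theorem a_mem : a ∈ fixSpace G Ω X := fun _ hx => (R1.fix_points hS (subset_D hS hX) hx).1

/-- The base point. -/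
def pt : fixSpace G Ω X := ⟨a, a_mem hS hX⟩

/-- The involution. -/
def tinv : Subgroup.centralizer X := ⟨t, t_mem hS hX⟩

theorem mem_D' {g : Subgroup.centralizer X} :
    g ∈ D (Subgroup.centralizer X) (pt hS hX) (tinv hS hX) ↔ (g : G) ∈ D G a t := by
  simp only [D, Subgroup.mem_inf, mem_stabilizer_iff, pt, tinv, Subtype.ext_iff]
  exact Iff.rfl

theorem mem_stab {g : Subgroup.centralizer X} :
    g ∈ stabilizer (Subgroup.centralizer X) (pt hS hX) ↔ (g : G) • a = a :=
  ⟨fun h => congrArg Subtype.val h, fun h => Subtype.ext h⟩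

/-- The set-up of the centralizer. -/
theorem setup : IsRankOneSetup (Subgroup.centralizer X) (fixSpace G Ω X) (pt hS hX) (tinv hS hX)
    (Q.subgroupOf (Subgroup.centralizer X)) where
  two_transitive := is_two_pretransitive_iff.2 fun {b₁ b₂ c₁ c₂} hb hc => by
    obtain ⟨g, hg, h1, h2⟩ := R1.two_trans_fix hS (subset_D hS hX) (three hS hX)
      (fun h => hb (Subtype.ext h)) (fun h => hc (Subtype.ext h))
      (fun x hx => ⟨b₁.2 x hx, b₂.2 x hx, c₁.2 x hx, c₂.2 x hx⟩)
    exact ⟨⟨g, hg⟩, Subtype.ext h1, Subtype.ext h2⟩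
  mul_self := Subtype.ext hS.mul_self
  ne_one := fun h => hS.ne_one (congrArg Subtype.val h)
  not_mem := fun h => hS.not_mem ((mem_stab hS hX).1 h)
  le := fun g hg => (mem_stab hS hX).2 (hS.le hg)
  conj_mem := fun h hh x hx => hS.conj_mem h ((mem_stab hS hX).1 hh) x hx
  inf_eq_bot := by
    rw [Subgroup.eq_bot_iff_forall]
    rintro g ⟨hgQ, hg⟩
    exact Subtype.ext (R1.Q_D_bot hS hgQ (congrArg Subtype.val hg))
  sup_eq := by
    refine le_antisymm (sup_le (fun g hg => (mem_stab hS hX).2 (hS.le hg)) inf_le_left) fun g hg => ?_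
    have hga := (mem_stab hS hX).1 hg
    obtain ⟨q, hq, d, hd, e⟩ := R1.mem_sup hS hga
    have hqc : q ∈ Subgroup.centralizer X := by
      refine R1.cent_q hS (subset_D hS hX) hq ?_
      have h0 := R1.cent_fix g.2 (fun x hx => (R1.fix_points hS (subset_D hS hX) hx).2)
      rwa [e, mul_smul, (Subgroup.mem_inf.1 hd).2] at h0
    have hdc : d ∈ Subgroup.centralizer X := by
      rw [show d = q⁻¹ * (g : G) by rw [e]; group]
      exact mul_mem (inv_mem hqc) g.2
    rw [show g = (⟨q, hqc⟩ : Subgroup.centralizer X) * ⟨d, hdc⟩ from Subtype.ext e]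
    exact mul_mem (Subgroup.mem_sup_left hq) (Subgroup.mem_sup_right ((mem_D' hS hX (g := ⟨d, hdc⟩)).2 hd))
  even_card := by
    have h := R1.even_cent hS (subset_D hS hX) (three hS hX)
    have e : Nat.card (Q.subgroupOf (Subgroup.centralizer X)) = Nat.card ↥(Subgroup.centralizer X ⊓ Q) :=
      Nat.card_congr ⟨fun g => ⟨(g.1 : G), g.1.2, g.2⟩, fun g => ⟨⟨g.1, g.2.1⟩, g.2.2⟩, fun _ => rfl, fun _ => rfl⟩
    rwa [e]
  odd_card := by
    refine hS.odd_card.of_dvd_nat ?_
    show Nat.card (D (Subgroup.centralizer X) (pt hS hX) (tinv hS hX)) ∣ Nat.card (D G a t)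
    exact Subgroup.card_dvd_of_injective
      (MonoidHom.mk' (fun g : D (Subgroup.centralizer X) (pt hS hX) (tinv hS hX) =>
        (⟨((g : Subgroup.centralizer X) : G), (mem_D' hS hX).1 g.2⟩ : D G a t)) fun _ _ => rfl)
      fun g g' h => Subtype.ext (Subtype.ext (congrArg Subtype.val h :))

/-- The set-up with two commuting involutions. -/
theorem ctx (hc : Ctx G Ω a t Q) {z z' : G} (hz : z ∈ zg G a) (hz1 : z ≠ 1) (hz' : z' ∈ zg G a) (hz'1 : z' ≠ 1)
    (hne : z ≠ z') (hzX : ∀ x ∈ X, x * z = z * x) (hzX' : ∀ x ∈ X, x * z' = z' * x) :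
    Ctx (Subgroup.centralizer X) (fixSpace G Ω X) (pt hS hX) (tinv hS hX)
      (Q.subgroupOf (Subgroup.centralizer X)) := by
  refine ⟨setup hS hX, ⟨z, Subgroup.mem_centralizer_iff.2 hzX⟩, ⟨z', Subgroup.mem_centralizer_iff.2 hzX'⟩,
    fun h => hz1 (congrArg Subtype.val h), fun h => hz'1 (congrArg Subtype.val h),
    fun h => hne (congrArg Subtype.val h), Subtype.ext (hc.zg_sq hz), Subtype.ext (hc.zg_sq hz'),
    Subtype.ext (hc.zg_central hz (hc.zg_le_Q hz'))⟩

/-- The coordinates agree with those of the whole group. -/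
theorem coords_eq' {x : Subgroup.centralizer X} (hx : (x : G) ∈ Q) (hx1 : x ≠ 1) :
    ((R1C.hc (setup hS hX) x : Subgroup.centralizer X) : G) = R1C.hc hS (x : G) := by
  have hS' := setup hS hX
  have hxH : x ∈ Q.subgroupOf (Subgroup.centralizer X) := hx
  have hx1' : (x : G) ≠ 1 := fun h => hx1 (Subtype.ext h)
  exact ((coords_unique hS hx hx1' (gc_mem hS' hxH hx1) ((mem_D' hS hX).1 (hc_mem hS' hxH hx1))
    (fc_mem hS' hxH hx1) (congrArg Subtype.val (coords_eq hS' hxH hx1))).2.1).symm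

end Sub

end Cfsg.Agent.Lie.R1C
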